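import Groth.Agent.Lib.DerBC.FiniteHomology
import Groth.Agent.Lib.DerBC.Triang

/-!
# Objects of `D(A)` and complexes of modules: basic dictionary
-/

universe u

open CategoryTheory Limits HomologicalComplex Pretriangulated

attribute [local instance] HasDerivedCategory.standard

namespace GrothLib.DR

variable {A : Type u} [CommRing A]

open DerivedCategory in
/-- The homology of `toD P`. -/
noncomputable def homologyIso (P : DRing.Cx A) (i : ℤ) :
    (DerivedCategory.homologyFunctor (ModuleCat.{u} A) i).obj (DRing.toD P) ≅ P.homology i :=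
  (DerivedCategory.homologyFunctorFactors (ModuleCat.{u} A) i).app P

lemma subsingleton_iff_isZero (M : ModuleCat.{u} A) : Subsingleton M ↔ IsZero M :=
  ⟨fun _ => ModuleCat.isZero_of_subsingleton M, ModuleCat.subsingleton_of_isZero⟩

lemma exactAt_iff (P : DRing.Cx A) (i : ℤ) :
    P.ExactAt i ↔ Subsingleton (Dual.HD A (DRing.toD P) i) := by
  rw [exactAt_iff_isZero_homology, subsingleton_iff_isZero]
  exact ⟨fun h => h.of_iso (homologyIso P i), fun h => h.of_iso (homologyIso P i).symm⟩

lemma isStrictlyLE_of {P : DRing.Cx A} {b : ℤ} (h : DRing.VanishesAbove P b) : P.IsStrictlyLE b :=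
  (CochainComplex.isStrictlyLE_iff P b).2 h

lemma vanishesAbove_of (P : DRing.Cx A) (b : ℤ) [P.IsStrictlyLE b] : DRing.VanishesAbove P b :=
  fun i hi => P.isZero_of_isStrictlyLE b i hi

lemma projective_iff (M : ModuleCat.{u} A) : Module.Projective A M ↔ Projective M :=
  IsProjective.iff_projective (R := A) M

lemma isKProjective (P : DRing.Cx A) (b : ℤ) (h : DRing.VanishesAbove P b)
    (hP : ∀ i, Module.Projective A (P.X i)) : P.IsKProjective :=
  haveI := isStrictlyLE_of h
  haveI : ∀ i, Projective (P.X i) := fun i => (projective_iff _).1 (hP i)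
  CochainComplex.isKProjective_of_projective P b

lemma projective_of_finiteFree {P : DRing.Cx A} (h : DRing.TermwiseFiniteFree P) (i : ℤ) :
    Module.Projective A (P.X i) :=
  haveI := (h i).2
  Module.Projective.of_free

section Hom

variable (P : DRing.Cx A) [P.IsKProjective] {L : DRing.Cx A}

/-- Maps in `D(A)` out of a K-projective complex come from maps of complexes. -/
theorem exists_lift (g : DRing.toD P ⟶ DRing.toD L) :
    ∃ f : P ⟶ L, DerivedCategory.Q.map f = g := by
  let eA := DerivedCategory.quotientCompQhIso (ModuleCat.{u} A)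
  obtain ⟨f, hf⟩ := (CochainComplex.IsKProjective.Qh_map_bijective P
    ((HomotopyCategory.quotient _ _).obj L)).2 ((eA.app P).hom ≫ g ≫ (eA.app L).inv)
  obtain ⟨f, rfl⟩ := (HomotopyCategory.quotient _ _).map_surjective f
  refine ⟨f, ?_⟩
  have h := eA.hom.naturality f
  simp only [Functor.comp_map] at h
  rw [← cancel_epi (eA.hom.app P), ← h, hf]
  simp

/-- Two maps out of a K-projective complex agree in `D(A)` iff they are homotopic. -/
theorem map_eq_iff (f g : P ⟶ L) :
    DerivedCategory.Q.map f = DerivedCategory.Q.map g ↔ Nonempty (Homotopy f g) := by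
  let eA := DerivedCategory.quotientCompQhIso (ModuleCat.{u} A)
  have key : ∀ u : P ⟶ L, DerivedCategory.Qh.map ((HomotopyCategory.quotient _ _).map u) =
      eA.hom.app P ≫ DerivedCategory.Q.map u ≫ eA.inv.app L := fun u => by
    have h := eA.hom.naturality u
    simp only [Functor.comp_map] at h
    rw [← Category.assoc, ← h, Category.assoc, Iso.hom_inv_id_app]
    exact (Category.comp_id _).symm
  constructor
  · intro h
    refine ⟨HomotopyCategory.homotopyOfEq _ _ ((CochainComplex.IsKProjective.Qh_map_bijective P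
      ((HomotopyCategory.quotient _ _).obj L)).1 ?_)⟩
    rw [key, key, h]
  · rintro ⟨h⟩
    have h1 := congrArg DerivedCategory.Qh.map (HomotopyCategory.eq_of_homotopy _ _ h)
    rw [key, key, cancel_epi, cancel_mono] at h1
    exact h1

end Hom

/-- An object with cohomology vanishing above `b` has a representative by projectives vanishing above `b`. -/
theorem exists_projective_rep (K : Dual.D A) (b : ℤ)
    (hb : ∀ i, b < i → Subsingleton (Dual.HD A K i)) :
    ∃ P : DRing.Cx A, DRing.VanishesAbove P b ∧ (∀ i, Module.Projective A (P.X i)) ∧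
      Nonempty (DRing.toD P ≅ K) := by
  haveI : K.IsLE b := by
    rw [DerivedCategory.isLE_iff]
    exact fun i hi => (subsingleton_iff_isZero _).1 (hb i hi)
  obtain ⟨Y, hY, ⟨eY⟩⟩ := K.exists_iso_Q_obj_of_isLE b
  obtain ⟨P, ψ, hψ, hPp, hPn⟩ := DerBC.exists_projective_resolution Y b
  exact ⟨P, vanishesAbove_of P b, fun i => (projective_iff _).2 (hPp i),
    ⟨asIso (DerivedCategory.Q.map ψ) ≪≫ eY.symm⟩⟩

end GrothLib.DR
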