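import Mathlib.Algebra.Module.FinitePresentation
import Mathlib.LinearAlgebra.Pi
import Groth.Agent.Lib.DCxRing.Basic

/-!
# Finitely presented modules over coherent rings
-/

universe u

open CategoryTheory Limits HomologicalComplex

attribute [local instance] HasDerivedCategory.standard

namespace GrothLib.DR

variable {A : Type u} [CommRing A]

lemma finitePresentation_of_injective {M N : Type u} [AddCommGroup M] [Module A M] [AddCommGroup N]
    [Module A N] (j : M →ₗ[A] N) (hj : Function.Injective j)
    [Module.FinitePresentation A (LinearMap.range j)] : Module.FinitePresentation A M :=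
  Module.FinitePresentation.of_equiv (LinearEquiv.ofInjective j hj).symm

/-- Over a coherent ring finitely generated submodules of finite free modules are finitely presented. -/
theorem finitePresentation_submodule_pi (hA : ∀ I : Ideal A, I.FG → Module.FinitePresentation A I) :
    ∀ (n : ℕ) (N : Submodule A (Fin n → A)), N.FG → Module.FinitePresentation A N := by
  intro n
  induction n with
  | zero =>
    intro N hN
    haveI : Subsingleton N := inferInstance
    infer_instance
  | succ n ih =>
    intro N hN
    haveI := Module.Finite.of_fg hN
    let l : N →ₗ[A] A := (LinearMap.proj (Fin.last n)).comp N.subtype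
    have hl : (LinearMap.range l).FG := Submodule.fg_range l
    haveI : Module.FinitePresentation A (LinearMap.range l) := hA _ hl
    have hker : (LinearMap.ker l.rangeRestrict).FG :=
      Module.FinitePresentation.fg_ker _ l.surjective_rangeRestrict
    let π : (Fin (n + 1) → A) →ₗ[A] (Fin n → A) := LinearMap.pi fun i => LinearMap.proj i.castSucc
    let j : LinearMap.ker l.rangeRestrict →ₗ[A] (Fin n → A) :=
      π.comp (N.subtype.comp (LinearMap.ker l.rangeRestrict).subtype)
    have hj : Function.Injective j := fun x y hxy => by
      refine Subtype.ext (Subtype.ext (funext fun i => ?_))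
      induction i using Fin.lastCases with
      | cast i => exact congrFun hxy i
      | last =>
        have hx : l (x : N) = 0 := congrArg Subtype.val x.2
        have hy : l (y : N) = 0 := congrArg Subtype.val y.2
        exact hx.trans hy.symm
    haveI := Module.Finite.of_fg hker
    haveI : Module.FinitePresentation A (LinearMap.range j) := ih _ (Submodule.fg_range j)
    haveI : Module.FinitePresentation A (LinearMap.ker l.rangeRestrict) :=
      finitePresentation_of_injective (M := LinearMap.ker l.rangeRestrict) j hj
    exact Module.finitePresentation_of_ker l.rangeRestrict l.surjective_rangeRestrict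

variable {M N : Type u} [AddCommGroup M] [Module A M] [AddCommGroup N] [Module A N]

/-- Over a coherent ring finitely generated submodules of finitely presented modules are finitely
presented. -/
theorem finitePresentation_submodule (hA : ∀ I : Ideal A, I.FG → Module.FinitePresentation A I)
    [Module.FinitePresentation A M] (S : Submodule A M) (hS : S.FG) :
    Module.FinitePresentation A S := by
  obtain ⟨n, π, hπ⟩ := Module.Finite.exists_fin' A M
  have hker : (LinearMap.ker π).FG := Module.FinitePresentation.fg_ker π hπ
  have hT : (S.comap π).FG := by
    refine Submodule.fg_of_fg_map_of_fg_inf_ker π ?_ ?_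
    · rwa [Submodule.map_comap_eq_of_surjective hπ]
    · rwa [inf_eq_right.2 (π.ker_le_comap)]
  haveI := finitePresentation_submodule_pi hA n _ hT
  let q : S.comap π →ₗ[A] S := π.restrict fun x hx => hx
  refine Module.finitePresentation_of_surjective q ?_ ?_
  · rintro ⟨s, hs⟩
    obtain ⟨x, rfl⟩ := hπ s
    exact ⟨⟨x, hs⟩, rfl⟩
  · have e : LinearMap.ker q = (LinearMap.ker π).comap (S.comap π).subtype := by
      ext x
      exact ⟨fun h => congrArg Subtype.val h, fun h => Subtype.ext h⟩
    rw [e]
    refine Submodule.fg_of_fg_map_injective (S.comap π).subtype (Submodule.injective_subtype _) ?_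
    rwa [Submodule.map_comap_subtype, inf_eq_right.2 (π.ker_le_comap)]

/-- Over a coherent ring kernels of maps of finitely presented modules are finitely presented. -/
theorem finitePresentation_ker (hA : ∀ I : Ideal A, I.FG → Module.FinitePresentation A I)
    [Module.FinitePresentation A M] [Module.FinitePresentation A N] (f : M →ₗ[A] N) :
    Module.FinitePresentation A (LinearMap.ker f) := by
  haveI := finitePresentation_submodule hA (LinearMap.range f) (Submodule.fg_range f)
  have h : (LinearMap.ker f.rangeRestrict).FG :=
    Module.FinitePresentation.fg_ker _ f.surjective_rangeRestrict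
  rw [LinearMap.ker_rangeRestrict] at h
  exact finitePresentation_submodule hA _ h

/-- Over a coherent ring complexes of finitely presented modules have finitely presented homology. -/
theorem finitePresentation_homology_of_coherent
    (hA : ∀ I : Ideal A, I.FG → Module.FinitePresentation A I) (E : DRing.Cx A) (k : ℤ)
    (hE : ∀ i, Module.FinitePresentation A (E.X i)) :
    Module.FinitePresentation A (E.homology k) := by
  let S := E.sc' (k - 1) k (k + 1)
  haveI : Module.FinitePresentation A S.X₁ := hE _
  haveI : Module.FinitePresentation A S.X₂ := hE _
  haveI : Module.FinitePresentation A S.X₃ := hE _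
  haveI := finitePresentation_ker hA S.g.hom
  haveI : Module.FinitePresentation A S.moduleCatLeftHomologyData.H :=
    Module.finitePresentation_of_surjective (LinearMap.range S.moduleCatToCycles).mkQ
      (Submodule.mkQ_surjective _)
      ((Submodule.ker_mkQ (LinearMap.range S.moduleCatToCycles)).symm ▸
        (Submodule.fg_range S.moduleCatToCycles))
  let e : E.homology k ≅ S.homology := ShortComplex.homologyMapIso
    (E.isoSc' (k - 1) k (k + 1) (by simp) (by simp))
  exact Module.FinitePresentation.of_equiv
    (e ≪≫ S.moduleCatHomologyIso).toLinearEquiv.symm

end GrothLib.DR
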