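import Groth.Agent.Lib.DCxRing.PC
import Groth.Agent.Lib.DCxRing.Coherent
import Mathlib.Algebra.Homology.DerivedCategory.FullyFaithful

/-!
# Pseudo-coherence and cohomology modules
-/

universe u

open CategoryTheory Limits HomologicalComplex CochainComplex Pretriangulated

attribute [local instance] HasDerivedCategory.standard

namespace GrothLib.DR

variable {A : Type u} [CommRing A]

/-- The cohomology of a module placed in degree `0`. -/
noncomputable def inDHomologyIso (M : Type u) [AddCommGroup M] [Module A M] :
    (DerivedCategory.homologyFunctor (ModuleCat.{u} A) 0).obj (Dual.inD A M) ≅ ModuleCat.of A M :=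
  (DerivedCategory.singleFunctorCompHomologyFunctorIso (ModuleCat.{u} A) 0).app (ModuleCat.of A M)

lemma subsingleton_HD_inD (M : Type u) [AddCommGroup M] [Module A M] (i : ℤ) (hi : i ≠ 0) :
    Subsingleton (Dual.HD A (Dual.inD A M) i) := by
  rw [subsingleton_iff_isZero]
  refine IsZero.of_iso ((exactAt_iff_isZero_homology _ i).1 (exactAt_single_obj (ComplexShape.up ℤ) 0
    (ModuleCat.of A M) i hi)) ?_
  exact (DerivedCategory.homologyFunctor (ModuleCat.{u} A) i).mapIso
    (((SingleFunctors.evaluation _ _ 0).mapIso
      (DerivedCategory.singleFunctorsPostcompQIso (ModuleCat.{u} A))).app (ModuleCat.of A M)) ≪≫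
    (DerivedCategory.homologyFunctorFactors (ModuleCat.{u} A) i).app _

lemma finite_of_exact {M N P Q : Type u} [AddCommGroup M] [Module A M] [AddCommGroup N] [Module A N]
    [AddCommGroup P] [Module A P] [AddCommGroup Q] [Module A Q] {u : M →ₗ[A] N} {v : N →ₗ[A] P}
    {w : P →ₗ[A] Q} (h : Function.Exact u v) (h' : Function.Exact v w) [Module.Finite A M]
    (hw : Module.Finite A (LinearMap.ker w)) : Module.Finite A N := by
  rw [LinearMap.exact_iff.1 h'] at hw
  haveI : Module.Finite A (LinearMap.ker v) := by
    rw [LinearMap.exact_iff.1 h]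
    infer_instance
  haveI : Module.Finite A (N ⧸ LinearMap.ker v) :=
    Module.Finite.equiv v.quotKerEquivRange.symm
  exact Module.Finite.of_submodule_quotient (LinearMap.ker v)

/-- Stepping down needs finite cohomology of `P` and a finite kernel on the cohomology of `E`. -/
theorem canStep_of_finite {P : DRing.Cx A} {b m : ℤ}
    (hP : Module.Finite A (Dual.HD A (DRing.toD P) (m - 1)))
    (hE : ∀ (E : DRing.Cx A), DRing.VanishesOutside E m b → DRing.TermwiseFiniteFree E →
      ∀ w : Dual.HD A (DRing.toD E) m →ₗ[A] Dual.HD A (DRing.toD P) m, Function.Surjective w →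
        Module.Finite A (LinearMap.ker w)) :
    CanStep P b m := by
  intro E f hv hf hex
  have hT := DerivedCategory.mappingCone_triangle_distinguished f
  have h1 := (ShortComplex.ShortExact.moduleCat_exact_iff_function_exact _).1
    (DerivedCategory.HomologySequence.exact₃ _ hT (m - 1) m (by omega))
  have h2 := (ShortComplex.ShortExact.moduleCat_exact_iff_function_exact _).1
    (DerivedCategory.HomologySequence.exact₁ _ hT (m - 1) m (by omega))
  have hw : Function.Surjective ((DerivedCategory.homologyFunctor (ModuleCat.{u} A) m).map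
      (DerivedCategory.Q.map f)).hom :=
    (ModuleCat.epi_iff_surjective _).1 ((cone_exact_iff f m).1 hex).2
  have hfin : Module.Finite A ((DerivedCategory.homologyFunctor (ModuleCat.{u} A) (m - 1)).obj
      (DRing.toD (mappingCone f))) :=
    @finite_of_exact A _ _ _ _ _ _ _ _ _ _ _ _ _ _ _ _ h1 h2 hP (hE E hv hf _ hw)
  exact @Module.Finite.equiv _ _ _ _ _ _ _ _ hfin
    (homologyIso (mappingCone f) (m - 1)).toLinearEquiv

/-- Pseudo-coherence from the top cohomology. -/
theorem isPseudoCoherent_of_homology (m : ℤ) (K : Dual.D A)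
    (hvan : ∀ i : ℤ, m + 1 < i → Subsingleton (Dual.HD A K i))
    (hfp : Module.FinitePresentation A (Dual.HD A K (m + 1)))
    (hfin : Module.Finite A (Dual.HD A K m)) : DRing.IsPseudoCoherent A m K := by
  obtain ⟨P, hP, _, ⟨e⟩⟩ := exists_projective_rep K (m + 1) hvan
  refine DerBC.isPseudoCoherent_of_iso e (isPseudoCoherent_of_canStep hP m fun k hk hk' => ?_)
  let eH := fun i => ((DerivedCategory.homologyFunctor (ModuleCat.{u} A) i).mapIso e).toLinearEquiv
  refine canStep_of_finite ?_ fun E hv hf w hw => ?_
  · rcases (show k - 1 = m ∨ k - 1 = m + 1 by omega) with h | h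
    · rw [h]
      exact Module.Finite.equiv (eH m).symm
    · rw [h]
      haveI := hfp
      exact Module.Finite.equiv (eH (m + 1)).symm
  · have hfpP : Module.FinitePresentation A (Dual.HD A (DRing.toD P) k) := by
      rcases (show k = m + 1 ∨ k = m + 2 by omega) with h | h
      · subst h
        haveI := hfp
        exact Module.FinitePresentation.of_equiv (eH (m + 1)).symm
      · haveI : Subsingleton (Dual.HD A (DRing.toD P) k) :=
          subsingleton_HD_of_iso e.symm k (hvan k (by omega))
        infer_instance
    haveI : E.IsStrictlyLE (m + 1) := isStrictlyLE_of fun i hi => hv i (Or.inr hi)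
    haveI : Module.FinitePresentation A (E.homology k) :=
      DerBC.finitePresentation_homology E (m + 1) k (fun i => (hf i).1)
        (projective_of_finiteFree hf) fun i hi =>
          ShortComplex.exact_of_isZero_X₂ _ (hv i (Or.inr (by omega)))
    haveI : Module.FinitePresentation A (Dual.HD A (DRing.toD E) k) :=
      Module.FinitePresentation.of_equiv (homologyIso E k).toLinearEquiv.symm
    exact Module.Finite.of_fg (Module.FinitePresentation.fg_ker w hw)

/-- Pseudo-coherence over a coherent ring. -/
theorem isPseudoCoherent_iff_of_coherent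
    (hA : ∀ I : Ideal A, I.FG → Module.FinitePresentation A I) (K : Dual.D A) (m : ℤ) :
    DRing.IsPseudoCoherent A m K ↔
      (∃ b : ℤ, ∀ i : ℤ, b < i → Subsingleton (Dual.HD A K i)) ∧
        Module.Finite A (Dual.HD A K m) ∧
          ∀ i : ℤ, m < i → Module.FinitePresentation A (Dual.HD A K i) := by
  have hfree : ∀ (E : DRing.Cx A), DRing.TermwiseFiniteFree E →
      ∀ i, Module.FinitePresentation A (Dual.HD A (DRing.toD E) i) := fun E hf i => by
    haveI := finitePresentation_homology_of_coherent hA E i fun j => by
      haveI := (hf j).1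
      haveI := projective_of_finiteFree hf j
      exact Module.finitePresentation_of_projective A (E.X j)
    exact Module.FinitePresentation.of_equiv (homologyIso E i).toLinearEquiv.symm
  constructor
  · intro h
    obtain ⟨b, _, hb⟩ := exists_bound h
    obtain ⟨E, a, b', α, hv, hf, hi, he⟩ := h
    refine ⟨⟨b, hb⟩, ?_, fun i hmi => ?_⟩
    · haveI := hfree E hf m
      exact Module.Finite.of_surjective
        ((DerivedCategory.homologyFunctor (ModuleCat.{u} A) m).map α).hom
        ((ModuleCat.epi_iff_surjective _).1 he)
    · haveI := hfree E hf i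
      haveI := hi i hmi
      exact Module.FinitePresentation.of_equiv
        (asIso ((DerivedCategory.homologyFunctor (ModuleCat.{u} A) i).map α)).toLinearEquiv
  · rintro ⟨⟨b, hb⟩, hfin, hfp⟩
    obtain ⟨P, hP, _, ⟨e⟩⟩ := exists_projective_rep K b hb
    refine DerBC.isPseudoCoherent_of_iso e (isPseudoCoherent_of_canStep hP m fun k hk hk' => ?_)
    let eH := fun i => ((DerivedCategory.homologyFunctor (ModuleCat.{u} A) i).mapIso e).toLinearEquiv
    refine canStep_of_finite ?_ fun E hv hf w hw => ?_
    · rcases (show k - 1 = m ∨ m < k - 1 by omega) with h | h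
      · rw [h]
        exact Module.Finite.equiv (eH m).symm
      · haveI := hfp _ h
        exact Module.Finite.equiv (eH (k - 1)).symm
    · haveI := hfp k hk
      haveI : Module.FinitePresentation A (Dual.HD A (DRing.toD P) k) :=
        Module.FinitePresentation.of_equiv (eH k).symm
      haveI := hfree E hf k
      exact Module.Finite.of_fg (Module.FinitePresentation.fg_ker w hw)

theorem isPseudoCoherent'_iff_of_coherent
    (hA : ∀ I : Ideal A, I.FG → Module.FinitePresentation A I) (K : Dual.D A)
    (hb : ∃ b : ℤ, ∀ i : ℤ, b < i → Subsingleton (Dual.HD A K i)) :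
    DRing.IsPseudoCoherent' A K ↔ ∀ i : ℤ, Module.FinitePresentation A (Dual.HD A K i) := by
  simp only [isPseudoCoherent'_iff, isPseudoCoherent_iff_of_coherent hA]
  exact ⟨fun h i => (h (i - 1)).2.2 i (by omega),
    fun h m => ⟨hb, (haveI := h m; inferInstance), fun i _ => h i⟩⟩

end GrothLib.DR
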