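import Groth.Agent.Lib.DCxRing.Approx
import Mathlib.RingTheory.Noetherian.Basic

/-!
# Pseudo-coherent objects of `D(A)`
-/

universe u

open CategoryTheory Limits HomologicalComplex CochainComplex Pretriangulated

attribute [local instance] HasDerivedCategory.standard

namespace GrothLib.DR

variable {A : Type u} [CommRing A]

lemma subsingleton_HD_of_iso {K L : Dual.D A} (e : K ≅ L) (i : ℤ)
    (h : Subsingleton (Dual.HD A K i)) : Subsingleton (Dual.HD A L i) :=
  (((DerivedCategory.homologyFunctor (ModuleCat.{u} A) i).mapIso e).toLinearEquiv).toEquiv.symm.subsingleton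

/-- Pseudo-coherent objects have cohomology bounded above. -/
theorem exists_bound {K : Dual.D A} {m : ℤ} (h : DRing.IsPseudoCoherent A m K) :
    ∃ b : ℤ, m ≤ b ∧ ∀ i, b < i → Subsingleton (Dual.HD A K i) := by
  obtain ⟨E, a, b, α, hv, hf, hi, he⟩ := h
  refine ⟨max m b, le_max_left _ _, fun i hbi => ?_⟩
  haveI := hi i (by omega)
  haveI : Subsingleton (Dual.HD A (DRing.toD E) i) :=
    (exactAt_iff E i).1 (ShortComplex.exact_of_isZero_X₂ _ (hv i (Or.inr (by omega))))
  exact ((asIso ((DerivedCategory.homologyFunctor (ModuleCat.{u} A) i).map α)).toLinearEquiv).toEquiv.symm.subsingleton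

/-- An object without cohomology from `m` on is `m`-pseudo-coherent. -/
theorem isPseudoCoherent_of_vanishing (K : Dual.D A) (m : ℤ)
    (h : ∀ i, m ≤ i → Subsingleton (Dual.HD A K i)) : DRing.IsPseudoCoherent A m K := by
  let a := Approx.zero (A := A) (P := (HomologicalComplex.single (ModuleCat.{u} A) (ComplexShape.up ℤ) 0).obj
    (ModuleCat.of A (Fin 0 → A))) (b := 0) fun i hi => isZero_single_obj_X _ _ _ _ (by omega)
  have hz : ∀ i, IsZero ((DerivedCategory.homologyFunctor (ModuleCat.{u} A) i).obj (DRing.toD a.E)) :=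
    fun i => (subsingleton_iff_isZero _).1 ((exactAt_iff a.E i).1 (ShortComplex.exact_of_isZero_X₂ _
      (a.vanish i (by omega))))
  have hK : ∀ i, m ≤ i → IsZero ((DerivedCategory.homologyFunctor (ModuleCat.{u} A) i).obj K) :=
    fun i hi => (subsingleton_iff_isZero _).1 (h i hi)
  refine ⟨a.E, _, _, 0, a.vanish, a.free, fun i hi => ?_, ?_⟩
  · exact ⟨0, (hz i).eq_of_src _ _, (hK i hi.le).eq_of_src _ _⟩
  · exact (hK m le_rfl).epi _

/-- A bounded above complex of finite free modules is `m`-pseudo-coherent for every `m`. -/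
theorem isPseudoCoherent_of_finiteFree {E : DRing.Cx A} {b : ℤ} (hb : DRing.VanishesAbove E b)
    (hf : DRing.TermwiseFiniteFree E) (m : ℤ) : DRing.IsPseudoCoherent A m (DRing.toD E) := by
  have hv : DRing.VanishesOutside (DerBC.sigmaGE m E) m b := fun i hi => by
    rcases hi with hi | hi
    · exact DerBC.isZero_sigmaGE E hi
    · exact (hb i hi).of_mono ((DerBC.sigmaι m E).f i)
  obtain ⟨h1, h2⟩ := DerBC.sigmaι_homology m E
  have e : ∀ i, Arrow.mk ((DerivedCategory.homologyFunctor (ModuleCat.{u} A) i).map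
      (DerivedCategory.Q.map (DerBC.sigmaι m E))) ≅
      Arrow.mk (HomologicalComplex.homologyMap (DerBC.sigmaι m E) i) := fun i =>
    Arrow.isoMk ((DerivedCategory.homologyFunctorFactors _ i).app _)
      ((DerivedCategory.homologyFunctorFactors _ i).app _)
      (DerivedCategory.homologyFunctorFactors_hom_naturality (DerBC.sigmaι m E) i).symm
  exact ⟨DerBC.sigmaGE m E, m, b, DerivedCategory.Q.map (DerBC.sigmaι m E), hv,
    fun i => DerBC.finiteFree_sigmaGE _ i E (hf i),
    fun i hi => ((MorphismProperty.isomorphisms (ModuleCat.{u} A)).arrow_mk_iso_iff (e i)).2 (h1 i hi),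
    ((MorphismProperty.epimorphisms (ModuleCat.{u} A)).arrow_mk_iso_iff (e m)).2 h2⟩

theorem isPseudoCoherent_of_prime {K : Dual.D A} (h : DRing.IsPseudoCoherent' A K) (m : ℤ) :
    DRing.IsPseudoCoherent A m K := by
  obtain ⟨E, b, hb, hf, ⟨e⟩⟩ := h
  exact DerBC.isPseudoCoherent_of_iso e (isPseudoCoherent_of_finiteFree hb hf m)

/-- Being `m`-pseudo-coherent for every `m` is being pseudo-coherent. -/
theorem isPseudoCoherent'_of_forall {K : Dual.D A} (h : ∀ m, DRing.IsPseudoCoherent A m K) :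
    DRing.IsPseudoCoherent' A K := by
  obtain ⟨b, _, hb⟩ := exists_bound (h 0)
  obtain ⟨P, hP, _, ⟨e⟩⟩ := exists_projective_rep K b hb
  obtain ⟨E, f, hEb, hEf, hq⟩ := exists_finiteFree_quasiIso hP fun m _ =>
    canStep_of_isPseudoCoherent (DerBC.isPseudoCoherent_of_iso e.symm (h (m - 1)))
  exact ⟨E, b, hEb, hEf, ⟨asIso (DerivedCategory.Q.map f) ≪≫ e⟩⟩

theorem isPseudoCoherent'_iff {K : Dual.D A} :
    DRing.IsPseudoCoherent' A K ↔ ∀ m, DRing.IsPseudoCoherent A m K :=
  ⟨isPseudoCoherent_of_prime, isPseudoCoherent'_of_forall⟩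

lemma isPseudoCoherent'_of_iso {K L : Dual.D A} (e : K ≅ L) (h : DRing.IsPseudoCoherent' A K) :
    DRing.IsPseudoCoherent' A L :=
  let ⟨E, b, hb, hf, ⟨e'⟩⟩ := h
  ⟨E, b, hb, hf, ⟨e' ≪≫ e⟩⟩

theorem isPseudoCoherent'_shift {K : Dual.D A} (h : DRing.IsPseudoCoherent' A K) (n : ℤ) :
    DRing.IsPseudoCoherent' A (K⟦n⟧) :=
  isPseudoCoherent'_of_forall fun m =>
    DerBC.isPseudoCoherent_shift (isPseudoCoherent_of_prime h (m + n)) n m (by omega)

theorem isPseudoCoherent'_triangle (T : Triangle (Dual.D A)) (hT : T ∈ distTriang _) :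
    (DRing.IsPseudoCoherent' A T.obj₁ → DRing.IsPseudoCoherent' A T.obj₂ →
        DRing.IsPseudoCoherent' A T.obj₃) ∧
      (DRing.IsPseudoCoherent' A T.obj₁ → DRing.IsPseudoCoherent' A T.obj₃ →
        DRing.IsPseudoCoherent' A T.obj₂) ∧
      (DRing.IsPseudoCoherent' A T.obj₂ → DRing.IsPseudoCoherent' A T.obj₃ →
        DRing.IsPseudoCoherent' A T.obj₁) := by
  simp only [isPseudoCoherent'_iff]
  exact ⟨fun h1 h2 m => (DerBC.isPseudoCoherent_triangle T hT m).1 (h1 _) (h2 _),
    fun h1 h2 m => (DerBC.isPseudoCoherent_triangle T hT m).2.1 (h1 _) (h2 _),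
    fun h1 h2 m => by
      simpa using (DerBC.isPseudoCoherent_triangle T hT (m - 1)).2.2 (h1 _) (h2 _)⟩

/-- A general criterion via representatives. -/
theorem isPseudoCoherent_iff_canStep {P : DRing.Cx A} {b : ℤ} (hP : DRing.VanishesAbove P b) (m₀ : ℤ) :
    DRing.IsPseudoCoherent A m₀ (DRing.toD P) ↔ ∀ m, m₀ < m → m ≤ b + 1 → CanStep P b m :=
  ⟨fun h m hm _ => canStep_of_isPseudoCoherent (isPseudoCoherent_mono (by omega) h),
    isPseudoCoherent_of_canStep hP m₀⟩

/-- The cohomology sequence of a cone. -/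
theorem cone_sequence {E P : DRing.Cx A} (f : E ⟶ P) (i : ℤ) :
    ∃ (u : Dual.HD A (DRing.toD P) i →ₗ[A] Dual.HD A (DRing.toD (mappingCone f)) i)
      (v : Dual.HD A (DRing.toD (mappingCone f)) i →ₗ[A] Dual.HD A (DRing.toD E) (i + 1))
      (w : Dual.HD A (DRing.toD E) (i + 1) →ₗ[A] Dual.HD A (DRing.toD P) (i + 1)),
      Function.Exact u v ∧ Function.Exact v w := by
  have hT := DerivedCategory.mappingCone_triangle_distinguished f
  have h1 := DerivedCategory.HomologySequence.exact₃ _ hT i (i + 1) rfl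
  have h2 := DerivedCategory.HomologySequence.exact₁ _ hT i (i + 1) rfl
  exact ⟨_, _, _, (ShortComplex.ShortExact.moduleCat_exact_iff_function_exact _).1 h1,
    (ShortComplex.ShortExact.moduleCat_exact_iff_function_exact _).1 h2⟩

lemma finite_of_exact_noetherian [IsNoetherianRing A] {M N P : Type u} [AddCommGroup M] [Module A M]
    [AddCommGroup N] [Module A N] [AddCommGroup P] [Module A P] {u : M →ₗ[A] N} {v : N →ₗ[A] P}
    (h : Function.Exact u v) [Module.Finite A M] [Module.Finite A P] : Module.Finite A N := by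
  haveI : IsNoetherian A P := isNoetherian_of_isNoetherianRing_of_finite A P
  haveI : Module.Finite A (LinearMap.range v) := inferInstance
  haveI : Module.Finite A (LinearMap.ker v) := by
    rw [LinearMap.exact_iff.1 h]
    infer_instance
  haveI : Module.Finite A (N ⧸ LinearMap.ker v) :=
    Module.Finite.equiv v.quotKerEquivRange.symm
  exact Module.Finite.of_submodule_quotient (LinearMap.ker v)

end GrothLib.DR
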