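import Groth.Agent.Lib.DCxRing.Approx
import Groth.Agent.Lib.DCxRing.PC
import Groth.Agent.Lib.FlatCx.FlatSES
import Mathlib.Algebra.Homology.Embedding.CochainComplex

/-!
# Bounded above complexes of flat modules and tor amplitude
-/

universe u

open CategoryTheory Limits HomologicalComplex CochainComplex

attribute [local instance] HasDerivedCategory.standard

namespace GrothLib.DR

variable {A : Type u} [CommRing A]

/-- Exactness of `P ⊗ M` in degree `i`. -/
def TExact (P : DRing.Cx A) (M : Type u) [AddCommGroup M] [Module A M] (i : ℤ) : Prop :=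
  Function.Exact ((P.d (i - 1) i).hom.rTensor M) ((P.d i (i + 1)).hom.rTensor M)

lemma tExact_iff (P : DRing.Cx A) (M : Type u) [AddCommGroup M] [Module A M] (i : ℤ) :
    TExact P M i ↔ (DRing.tensorCx P (ModuleCat.of A M)).ExactAt i := by
  rw [exactAt_iff' _ (i - 1) i (i + 1) (by simp) (by simp),
    ShortComplex.ShortExact.moduleCat_exact_iff_function_exact]
  rfl

lemma function_exact_d (P : DRing.Cx A) (i j k : ℤ) (hij : i + 1 = j) (hjk : j + 1 = k) :
    P.ExactAt j ↔ Function.Exact (P.d i j).hom (P.d j k).hom := by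
  rw [exactAt_iff' P i j k (by simp; omega) (by simp; omega),
    ShortComplex.ShortExact.moduleCat_exact_iff_function_exact]
  rfl

/-- Where a bounded above flat complex is exact the kernels are flat. -/
theorem flat_ker_of_exact (P : DRing.Cx A) (b : ℤ) (hb : DRing.VanishesAbove P b)
    (n : ℤ) (hP : ∀ i, n ≤ i → Module.Flat A (P.X i)) (hex : ∀ i, n < i → P.ExactAt i) :
    ∀ i, n ≤ i → Module.Flat A (LinearMap.ker (P.d i (i + 1)).hom) := by
  have key : ∀ (k : ℕ) (i : ℤ), n ≤ i → b < i + k →
      Module.Flat A (LinearMap.ker (P.d i (i + 1)).hom) := by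
    intro k
    induction k with
    | zero =>
      intro i _ hib
      haveI := ModuleCat.subsingleton_of_isZero (hb i (by simpa using hib))
      infer_instance
    | succ k ih =>
      intro i hni hib
      haveI : Module.Flat A (LinearMap.ker (P.d (i + 1) (i + 1 + 1)).hom) :=
        ih (i + 1) (by omega) (by push_cast at hib ⊢; omega)
      haveI := hP i hni
      have hE := (function_exact_d P i (i + 1) (i + 1 + 1) rfl rfl).1 (hex (i + 1) (by omega))
      refine FlatCx.flat_of_exact_left (g := (LinearMap.ker (P.d i (i + 1)).hom).subtype)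
        (f := (P.d i (i + 1)).hom.codRestrict (LinearMap.ker (P.d (i + 1) (i + 1 + 1)).hom)
          fun x => (hE _).2 ⟨x, rfl⟩) Subtype.val_injective (fun y => ?_) ?_
      · obtain ⟨x, hx⟩ := (hE y.1).1 y.2
        exact ⟨x, Subtype.ext hx⟩
      · rw [LinearMap.exact_iff, LinearMap.ker_codRestrict, Submodule.range_subtype]
  exact fun i hi => key ((b - i).toNat + 1) i hi (by push_cast; omega)

/-- Tensoring preserves exactness of bounded above flat complexes. -/
theorem tExact_of_exact {P : DRing.Cx A} {b : ℤ} (hb : DRing.VanishesAbove P b)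
    (hP : DRing.TermwiseFlat P) {n : ℤ} (hex : ∀ i, n ≤ i → P.ExactAt i) (i : ℤ) (hi : n ≤ i)
    (M : Type u) [AddCommGroup M] [Module A M] : TExact P M i := by
  have hfl := flat_ker_of_exact P b hb n (fun j _ => hP j) fun j hj => hex j hj.le
  let d₀ := (P.d (i - 1) i).hom
  let d₁ := (P.d i (i + 1)).hom
  let d₂ := (P.d (i + 1) (i + 1 + 1)).hom
  let d₃ := (P.d (i + 1 + 1) (i + 1 + 1 + 1)).hom
  have h1 : Function.Exact d₀ d₁ := (function_exact_d P _ _ _ (by omega) rfl).1 (hex i hi)
  have h2 : Function.Exact d₁ d₂ := (function_exact_d P _ _ _ rfl rfl).1 (hex (i + 1) (by omega))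
  have h3 : Function.Exact d₂ d₃ := (function_exact_d P _ _ _ rfl rfl).1 (hex (i + 1 + 1) (by omega))
  let Z := LinearMap.ker d₂
  let p : P.X i →ₗ[A] Z := d₁.codRestrict Z fun x => (h2 _).2 ⟨x, rfl⟩
  have hp : Function.Surjective p := fun y => by
    obtain ⟨x, hx⟩ := (h2 y.1).1 y.2
    exact ⟨x, Subtype.ext hx⟩
  have hexp : Function.Exact d₀ p := fun x =>
    ⟨fun h => (h1 x).1 (congrArg Subtype.val h), fun h => Subtype.ext ((h1 x).2 h)⟩
  have hinj : Function.Injective (Z.subtype.rTensor M) := by
    haveI : Module.Flat A (LinearMap.ker d₃) := hfl (i + 1 + 1) (by omega)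
    refine FlatCx.rTensor_injective_of_flat (g := Z.subtype)
      (f := d₂.codRestrict (LinearMap.ker d₃) fun x => (h3 _).2 ⟨x, rfl⟩) Subtype.val_injective
      (fun y => ?_) ?_ M
    · obtain ⟨x, hx⟩ := (h3 y.1).1 y.2
      exact ⟨x, Subtype.ext hx⟩
    · rw [LinearMap.exact_iff, LinearMap.ker_codRestrict, Submodule.range_subtype]
  have hcomp : d₁.rTensor M = (Z.subtype.rTensor M).comp (p.rTensor M) := by
    rw [← LinearMap.rTensor_comp]; rfl
  intro x
  show d₁.rTensor M x = 0 ↔ x ∈ Set.range (d₀.rTensor M)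
  rw [← rTensor_exact M hexp hp x, hcomp, LinearMap.comp_apply, map_eq_zero_iff _ hinj]

/-- A cokernel is flat if the sequence before it stays exact after tensoring. -/
theorem flat_quotient_range {X Y Z : Type u} [AddCommGroup X] [Module A X] [AddCommGroup Y] [Module A Y]
    [AddCommGroup Z] [Module A Z] [Module.Flat A Z] (u : X →ₗ[A] Y) (v : Y →ₗ[A] Z)
    (h : ∀ (M : Type u) [AddCommGroup M] [Module A M], Function.Exact (u.rTensor M) (v.rTensor M)) :
    Module.Flat A (Z ⧸ LinearMap.range v) := by
  rw [Module.Flat.iff_lTensor_preserves_injective_linearMap]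
  intro N M _ _ _ _ g hg
  rw [injective_iff_map_eq_zero]
  intro x hx
  let q := (LinearMap.range v).mkQ
  have hvq : Function.Exact v q := LinearMap.exact_map_mkQ_range v
  have hq : Function.Surjective q := Submodule.mkQ_surjective _
  obtain ⟨z, rfl⟩ := LinearMap.rTensor_surjective N hq x
  have h1 : q.rTensor M (g.lTensor Z z) = 0 := by
    rw [← hx, ← LinearMap.comp_apply, ← LinearMap.comp_apply, LinearMap.rTensor_comp_lTensor,
      LinearMap.lTensor_comp_rTensor]
  obtain ⟨y, hy⟩ := (rTensor_exact M hvq hq _).1 h1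
  -- the image of `y` modulo `N` is a boundary
  let π := (LinearMap.range g).mkQ
  have hgπ : Function.Exact g π := LinearMap.exact_map_mkQ_range g
  have hπ : Function.Surjective π := Submodule.mkQ_surjective _
  have h2 : v.rTensor (M ⧸ LinearMap.range g) (π.lTensor Y y) = 0 := by
    rw [← LinearMap.comp_apply, LinearMap.rTensor_comp_lTensor, ← LinearMap.lTensor_comp_rTensor,
      LinearMap.comp_apply, hy]
    exact ((lTensor_exact Z hgπ hπ) _).2 ⟨z, rfl⟩
  obtain ⟨w, hw⟩ := ((h (M ⧸ LinearMap.range g)) _).1 h2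
  obtain ⟨w', rfl⟩ := LinearMap.lTensor_surjective X hπ w
  have h3 : π.lTensor Y (y - u.rTensor M w') = 0 := by
    rw [map_sub, ← hw, ← LinearMap.comp_apply, ← LinearMap.comp_apply, LinearMap.rTensor_comp_lTensor,
      LinearMap.lTensor_comp_rTensor, sub_self]
  obtain ⟨y', hy'⟩ := ((lTensor_exact Y hgπ hπ) _).1 h3
  have h4 : v.rTensor N y' = z := by
    refine Module.Flat.lTensor_preserves_injective_linearMap (M := Z) g hg ?_
    rw [← hy, ← LinearMap.comp_apply, LinearMap.lTensor_comp_rTensor, ← LinearMap.rTensor_comp_lTensor,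
      LinearMap.comp_apply, hy', map_sub, (h M).apply_apply_eq_zero w', sub_zero]
  rw [← h4]
  exact (rTensor_exact N hvq hq).apply_apply_eq_zero y'

lemma flat_cone {P Q : DRing.Cx A} (f : P ⟶ Q) (hP : DRing.TermwiseFlat P)
    (hQ : DRing.TermwiseFlat Q) : DRing.TermwiseFlat (mappingCone f) := fun i => by
  let e : (P.X (i + 1) × Q.X i) ≃ₗ[A] (mappingCone f).X i :=
    ((homotopyCofiber.XIsoBiprod f i (i + 1) (by simp)) ≪≫
      ModuleCat.biprodIsoProd _ _).toLinearEquiv.symm
  haveI := hP (i + 1)
  haveI := hQ i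
  haveI : Module.Flat A (P.X (i + 1) × Q.X i) :=
    FlatCx.flat_of_exact_mid (g := LinearMap.inl A _ _) (f := LinearMap.snd A _ _)
      LinearMap.inl_injective LinearMap.snd_surjective Function.Exact.inl_snd
  exact Module.Flat.of_linearEquiv e.symm

lemma exactAt_cone_of_quasiIso {P Q : DRing.Cx A} (f : P ⟶ Q)
    (hf : IsIso (DerivedCategory.Q.map f)) (i : ℤ) : (mappingCone f).ExactAt i :=
  (cone_exact_iff f i).2 ⟨fun _ _ => inferInstance, inferInstance⟩ i le_rfl

lemma termwiseFlat_of_projective {P : DRing.Cx A} (hP : ∀ i, Module.Projective A (P.X i)) :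
    DRing.TermwiseFlat P := fun i => by
  haveI := hP i
  infer_instance

/-- Exactness after tensoring only depends on the object of `D(A)`. -/
theorem tExact_congr {P Q : DRing.Cx A} {b c : ℤ} (hb : DRing.VanishesAbove P b)
    (hP : DRing.TermwiseFlat P) (hc : DRing.VanishesAbove Q c) (hQ : DRing.TermwiseFlat Q)
    (e : DRing.toD P ≅ DRing.toD Q) (M : Type u) [AddCommGroup M] [Module A M] (i : ℤ) :
    TExact P M i ↔ TExact Q M i := by
  obtain ⟨d, -, hd⟩ : ∃ d : ℤ, b ≤ d ∧ ∀ i, d < i → Subsingleton (Dual.HD A (DRing.toD P) i) :=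
    ⟨b, le_rfl, fun i hi => (exactAt_iff P i).1 (ShortComplex.exact_of_isZero_X₂ _ (hb i hi))⟩
  obtain ⟨R, hR, hRp, ⟨eR⟩⟩ := exists_projective_rep (DRing.toD P) d hd
  haveI := isKProjective R d hR hRp
  have key : ∀ (X : DRing.Cx A) (k : ℤ), DRing.VanishesAbove X k → DRing.TermwiseFlat X →
      (DRing.toD R ≅ DRing.toD X) → (TExact R M i ↔ TExact X M i) := by
    intro X k hk hX eX
    obtain ⟨f, hf⟩ := exists_lift R eX.hom
    have hiso : IsIso (DerivedCategory.Q.map f) := by rw [hf]; infer_instance
    have hCb : DRing.VanishesAbove (mappingCone f) (max d k) := fun j hj =>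
      isZero_cone_X f (hR (j + 1) (by omega)) (hk j (by omega))
    have hC : ∀ j, (mappingCone f).ExactAt j := exactAt_cone_of_quasiIso f hiso
    let T := (MonoidalCategory.tensorRight (ModuleCat.of A M)).mapHomologicalComplex (ComplexShape.up ℤ)
    have hT : ∀ j, (mappingCone (T.map f)).ExactAt j := fun j =>
      ((tExact_iff (mappingCone f) M j).1
        (tExact_of_exact hCb (flat_cone f (termwiseFlat_of_projective hRp) hX) (n := j)
          (fun l _ => hC l) j le_rfl M)).of_iso
        (mappingCone.mapHomologicalComplexIso f (MonoidalCategory.tensorRight (ModuleCat.of A M)))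
    haveI : IsIso ((DerivedCategory.homologyFunctor (ModuleCat.{u} A) i).map
        (DerivedCategory.Q.map (T.map f))) := ((cone_exact_iff (T.map f) (i - 1)).1 fun j _ => hT j).1 i
          (by omega)
    rw [tExact_iff, tExact_iff, exactAt_iff, exactAt_iff]
    exact (asIso ((DerivedCategory.homologyFunctor (ModuleCat.{u} A) i).map
      (DerivedCategory.Q.map (T.map f)))).toLinearEquiv.toEquiv.subsingleton_congr
  exact (key P b hb hP eR).symm.trans (key Q c hc hQ (eR ≪≫ e))

lemma tExact_of_isZero {P : DRing.Cx A} {i : ℤ} (h : IsZero (P.X i)) (M : Type u) [AddCommGroup M]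
    [Module A M] : TExact P M i := by
  rw [tExact_iff]
  exact ShortComplex.exact_of_isZero_X₂ _
    (Functor.map_isZero (MonoidalCategory.tensorRight (ModuleCat.of A M)) h)

lemma exactAt_of_tExact_self {P : DRing.Cx A} {i : ℤ} (h : TExact P A i) : P.ExactAt i := by
  rw [function_exact_d P (i - 1) i (i + 1) (by omega) rfl]
  exact Function.Exact.of_ladder_linearEquiv_of_exact
    (e₁ := TensorProduct.rid A _) (e₂ := TensorProduct.rid A _) (e₃ := TensorProduct.rid A _)
    (by ext; simp) (by ext; simp) h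

/-- The criterion for tor amplitude on a bounded above flat representative. -/
theorem hasTorAmplitudeIn_iff {P : DRing.Cx A} {c : ℤ} (hc : DRing.VanishesAbove P c)
    (hP : DRing.TermwiseFlat P) (a b : ℤ) :
    DRing.HasTorAmplitudeIn A a b (DRing.toD P) ↔
      ∀ (M : Type u) [AddCommGroup M] [Module A M] (i : ℤ), (i < a ∨ b < i) → TExact P M i := by
  constructor
  · rintro ⟨E, hv, hE, ⟨e⟩⟩ M _ _ i hi
    exact (tExact_congr (fun j hj => hv j (Or.inr hj)) hE hc hP e M i).1 (tExact_of_isZero (hv i hi) M)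
  · intro h
    have hex : ∀ i, b < i → P.ExactAt i := fun i hi => exactAt_of_tExact_self (h A i (Or.inr hi))
    haveI : P.IsLE b := by
      rw [isLE_iff]
      exact hex
    let Q₁ := P.truncLE b
    have e₁ : DRing.toD Q₁ ≅ DRing.toD P :=
      haveI := (P.quasiIso_ιTruncLE_iff b).2 inferInstance
      asIso (DerivedCategory.Q.map (P.ιTruncLE b))
    have hQ₁v : DRing.VanishesAbove Q₁ b := fun i hi => Q₁.isZero_of_isStrictlyLE b i hi
    have hQ₁f : DRing.TermwiseFlat Q₁ := fun i => by
      rcases lt_trichotomy i b with hi | rfl | hi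
      · haveI := hP i
        exact Module.Flat.of_linearEquiv (P.truncLEXIso b i hi).toLinearEquiv
      · let S := P.sc' (i - 1) i (i + 1)
        haveI : Module.Flat A S.moduleCatLeftHomologyData.K := flat_ker_of_exact P c hc i (fun j _ => hP j) hex i le_rfl
        exact Module.Flat.of_linearEquiv (P.truncLEXIsoCycles i ≪≫
          ShortComplex.cyclesMapIso (P.isoSc' (i - 1) i (i + 1) (by simp) (by simp)) ≪≫
            S.moduleCatCyclesIso).toLinearEquiv
      · haveI := ModuleCat.subsingleton_of_isZero (hQ₁v i hi)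
        infer_instance
    have hT : ∀ (M : Type u) [AddCommGroup M] [Module A M] (i : ℤ), (i < a ∨ b < i) → TExact Q₁ M i :=
      fun M _ _ i hi => (tExact_congr hQ₁v hQ₁f hc hP e₁ M i).2 (h M i hi)
    have hexa : ∀ i, i < a → P.ExactAt i := fun i hi => exactAt_of_tExact_self (h A i (Or.inl hi))
    haveI : Q₁.IsGE a := by
      rw [isGE_iff]
      intro i hi
      rw [exactAt_iff]
      exact subsingleton_HD_of_iso e₁.symm i ((exactAt_iff P i).1 (hexa i hi))
    let Q₂ := Q₁.truncGE a
    have e₂ : DRing.toD Q₁ ≅ DRing.toD Q₂ :=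
      haveI := (Q₁.quasiIso_πTruncGE_iff a).2 inferInstance
      asIso (DerivedCategory.Q.map (Q₁.πTruncGE a))
    let S := Q₁.sc' (a - 1) a (a + 1)
    let eTop : Q₂.X a ≅ ModuleCat.of A (Q₁.X a ⧸ LinearMap.range (Q₁.d (a - 1) a).hom) :=
      Q₁.truncGEXIsoOpcycles a ≪≫
        ShortComplex.opcyclesMapIso (Q₁.isoSc' (a - 1) a (a + 1) (by simp) (by simp)) ≪≫
          S.moduleCatOpcyclesIso
    refine ⟨Q₂, fun i hi => ?_, fun i => ?_, ⟨e₂.symm ≪≫ e₁⟩⟩
    · rcases hi with hi | hi
      · exact Q₂.isZero_of_isStrictlyGE a i hi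
      · rcases lt_trichotomy i a with hia | rfl | hia
        · exact Q₂.isZero_of_isStrictlyGE a i hia
        · haveI := ModuleCat.subsingleton_of_isZero (hQ₁v i hi)
          exact (ModuleCat.isZero_of_subsingleton _).of_iso eTop
        · exact (hQ₁v i hi).of_iso (Q₁.truncGEXIso a i hia)
    · rcases lt_trichotomy i a with hia | rfl | hia
      · haveI := ModuleCat.subsingleton_of_isZero (Q₂.isZero_of_isStrictlyGE a i hia)
        infer_instance
      · haveI := hQ₁f i
        haveI := flat_quotient_range (Q₁.d (i - 1 - 1) (i - 1)).hom (Q₁.d (i - 1) i).hom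
          fun M _ _ => by
            have := hT M (i - 1) (Or.inl (by omega))
            unfold TExact at this
            rwa [show i - 1 + 1 = i by omega] at this
        exact Module.Flat.of_linearEquiv eTop.toLinearEquiv
      · haveI := hQ₁f i
        exact Module.Flat.of_linearEquiv (Q₁.truncGEXIso a i hia).toLinearEquiv

end GrothLib.DR
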