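import Groth.Agent.Lib.DCxRing.PC
import Groth.Agent.Lib.DerCat.Truncation
import Mathlib.Algebra.Homology.DerivedCategory.ShortExact
import Mathlib.Algebra.Homology.HomologicalComplexAbelian

/-!
# Dévissage along stupid and canonical truncations
-/

universe u

open CategoryTheory Limits HomologicalComplex Pretriangulated

attribute [local instance] HasDerivedCategory.standard

namespace GrothLib.DR

variable {A : Type u} [CommRing A]

/-- A module placed in degree `n`, as a shift. -/
noncomputable def singleIsoShift (n : ℤ) (M : ModuleCat.{u} A) :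
    (DerivedCategory.singleFunctor (ModuleCat.{u} A) n).obj M ≅ (Dual.inD A M)⟦-n⟧ :=
  (((DerivedCategory.singleFunctors (ModuleCat.{u} A)).shiftIso (-n) n 0 (by omega)).app M).symm

/-- A complex concentrated in one degree. -/
noncomputable def toDSingleIso (n : ℤ) (M : ModuleCat.{u} A) :
    DRing.toD ((HomologicalComplex.single (ModuleCat.{u} A) (ComplexShape.up ℤ) n).obj M) ≅
      (Dual.inD A M)⟦-n⟧ :=
  (((SingleFunctors.evaluation _ _ n).mapIso
    (DerivedCategory.singleFunctorsPostcompQIso (ModuleCat.{u} A))).app M).symm ≪≫ singleIsoShift n M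

open DerBC

/-- The inclusion of stupid truncations. -/
noncomputable def sigmaMap (n : ℤ) (E : DRing.Cx A) : sigmaGE (n + 1) E ⟶ sigmaGE n E where
  f i := ModuleCat.ofHom (Submodule.inclusion (by
    split_ifs with h1 h2
    · exact le_rfl
    · omega
    · exact bot_le
    · exact le_rfl))
  comm' i j _ := by ext x; rfl

/-- The projection of the stupid truncation on its bottom term. -/
noncomputable def sigmaTop (n : ℤ) (E : DRing.Cx A) :
    sigmaGE n E ⟶ (HomologicalComplex.single (ModuleCat.{u} A) (ComplexShape.up ℤ) n).obj (E.X n) :=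
  mkHomToSingle ((sigmaι n E).f n) fun i hi =>
    (isZero_sigmaGE E (by simp only [ComplexShape.up_Rel] at hi; omega)).eq_of_src _ _

lemma sigmaMap_top (n : ℤ) (E : DRing.Cx A) : sigmaMap n E ≫ sigmaTop n E = 0 :=
  to_single_hom_ext ((isZero_sigmaGE E (by omega)).eq_of_src _ _)

lemma sigma_shortExact (n : ℤ) (E : DRing.Cx A) :
    (ShortComplex.mk _ _ (sigmaMap_top n E)).ShortExact := by
  refine HomologicalComplex.shortExact_of_degreewise_shortExact _ fun i => ?_
  let T := (ShortComplex.mk _ _ (sigmaMap_top n E)).map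
    (HomologicalComplex.eval (ModuleCat.{u} A) (ComplexShape.up ℤ) i)
  change T.ShortExact
  by_cases hi : i = n
  · subst hi
    have hz : IsZero T.X₁ := isZero_sigmaGE E (by omega)
    have hg : IsIso T.g := by
      change IsIso ((sigmaTop i E).f i)
      rw [sigmaTop, mkHomToSingle_f]
      have := isIso_sigmaι_f (i := i) E le_rfl
      infer_instance
    exact { exact := (T.exact_iff_mono (hz.eq_of_src _ _)).2 inferInstance
            mono_f := hz.mono _
            epi_g := inferInstance }
  · have hz : IsZero T.X₃ := isZero_single_obj_X (ComplexShape.up ℤ) n _ i hi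
    have hf : IsIso T.f := by
      change IsIso ((sigmaMap n E).f i)
      by_cases hni : n ≤ i
      · have hfac : (sigmaMap n E).f i ≫ (sigmaι n E).f i = (sigmaι (n + 1) E).f i := by ext x; rfl
        have := isIso_sigmaι_f (i := i) E (show n + 1 ≤ i by omega)
        have := isIso_sigmaι_f (i := i) E hni
        exact IsIso.of_isIso_fac_right hfac
      · exact (isZero_sigmaGE E (show i < n + 1 by omega)).isIso (isZero_sigmaGE E (by omega)) _
    exact { exact := (T.exact_iff_epi (hz.eq_of_tgt _ _)).2 inferInstance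
            mono_f := inferInstance
            epi_g := hz.epi _ }

lemma isZero_sigmaGE_of (n i : ℤ) (E : DRing.Cx A) (h : IsZero (E.X i)) :
    IsZero ((sigmaGE n E).X i) :=
  h.of_mono ((sigmaι n E).f i)

/-- Dévissage of a complex along its stupid truncations. -/
theorem prop_sigmaGE (Q : ObjectProperty (Dual.D A))
    (hiso : ∀ {X Y : Dual.D A}, (X ≅ Y) → Q X → Q Y)
    (hzero : ∀ X : Dual.D A, IsZero X → Q X)
    (hext : ∀ T : Triangle (Dual.D A), T ∈ distTriang _ → Q T.obj₁ → Q T.obj₃ → Q T.obj₂)
    (E : DRing.Cx A) (b : ℤ) (hb : DRing.VanishesAbove E b) (n : ℤ)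
    (hsingle : ∀ i, n ≤ i → i ≤ b → Q ((Dual.inD A (E.X i))⟦-i⟧)) :
    Q (DRing.toD (sigmaGE n E)) := by
  obtain ⟨k, hk⟩ : ∃ k : ℕ, b + 1 ≤ n + k := ⟨(b + 1 - n).toNat, by omega⟩
  induction k generalizing n with
  | zero =>
    refine hzero _ (Functor.map_isZero _ ((IsZero.iff_id_eq_zero _).2 (HomologicalComplex.hom_ext _ _
      fun i => ?_)))
    refine IsZero.eq_of_src ?_ _ _
    by_cases h : i < n
    · exact isZero_sigmaGE E h
    · exact isZero_sigmaGE_of n i E (hb i (by push_cast at hk; omega))
  | succ k ih =>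
    by_cases hnb : n ≤ b
    · exact hext _ (DerivedCategory.triangleOfSES_distinguished (sigma_shortExact n E))
        (ih (n + 1) (fun i hi hib => hsingle i (by omega) hib) (by push_cast at hk; omega))
        (hiso (toDSingleIso n (E.X n)).symm (hsingle n le_rfl hnb))
    · refine hzero _ (Functor.map_isZero _ ((IsZero.iff_id_eq_zero _).2 (HomologicalComplex.hom_ext _ _
        fun i => ?_)))
      refine IsZero.eq_of_src ?_ _ _
      by_cases h : i < n
      · exact isZero_sigmaGE E h
      · exact isZero_sigmaGE_of n i E (hb i (by omega))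

lemma isIso_sigmaι (n : ℤ) (E : DRing.Cx A) (h : ∀ i, i < n → IsZero (E.X i)) :
    IsIso (sigmaι n E) := by
  haveI : ∀ i, IsIso ((sigmaι n E).f i) := fun i => by
    by_cases hi : n ≤ i
    · exact isIso_sigmaι_f E hi
    · exact (isZero_sigmaGE E (by omega)).isIso (h i (by omega)) _
  exact HomologicalComplex.Hom.isIso_of_components _

/-- Dévissage of a bounded complex. -/
theorem prop_bounded (Q : ObjectProperty (Dual.D A))
    (hiso : ∀ {X Y : Dual.D A}, (X ≅ Y) → Q X → Q Y)
    (hzero : ∀ X : Dual.D A, IsZero X → Q X)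
    (hext : ∀ T : Triangle (Dual.D A), T ∈ distTriang _ → Q T.obj₁ → Q T.obj₃ → Q T.obj₂)
    (E : DRing.Cx A) (a b : ℤ) (hv : DRing.VanishesOutside E a b)
    (hsingle : ∀ i, a ≤ i → i ≤ b → Q ((Dual.inD A (E.X i))⟦-i⟧)) :
    Q (DRing.toD E) := by
  haveI := isIso_sigmaι a E fun i hi => hv i (Or.inl hi)
  exact hiso (DerivedCategory.Q.mapIso (asIso (sigmaι a E)))
    (prop_sigmaGE Q hiso hzero hext E b (fun i hi => hv i (Or.inr hi)) a hsingle)

open DerivedCategory in
/-- Dévissage of an object with bounded cohomology along canonical truncations. -/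
theorem prop_homology (Q : ObjectProperty (Dual.D A))
    (hiso : ∀ {X Y : Dual.D A}, (X ≅ Y) → Q X → Q Y)
    (hzero : ∀ X : Dual.D A, IsZero X → Q X)
    (hext : ∀ T : Triangle (Dual.D A), T ∈ distTriang _ → Q T.obj₁ → Q T.obj₃ → Q T.obj₂)
    (K : Dual.D A) (a b : ℤ) (hv : ∀ i, i < a ∨ b < i → Subsingleton (Dual.HD A K i))
    (hsingle : ∀ i, a ≤ i → i ≤ b → Q ((Dual.inD A (Dual.HD A K i))⟦-i⟧)) : Q K := by
  let H := fun i => DerivedCategory.homologyFunctor (ModuleCat.{u} A) i
  obtain ⟨k, hk⟩ : ∃ k : ℕ, b + 1 ≤ a + k := ⟨(b + 1 - a).toNat, by omega⟩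
  induction k generalizing K b with
  | zero =>
    exact hzero _ (GrothLib.DerTrunc.isZero_of_forall K fun i =>
      (subsingleton_iff_isZero _).1 (hv i (by omega)))
  | succ k ih =>
    by_cases hab : a ≤ b
    swap
    · exact hzero _ (GrothLib.DerTrunc.isZero_of_forall K fun i =>
        (subsingleton_iff_isZero _).1 (hv i (by omega)))
    let t : Triangulated.TStructure (Dual.D A) := DerivedCategory.TStructure.t
    have hT := t.triangleLTGE_distinguished b K
    let L := (t.truncLT b).obj K
    let U := (t.truncGE b).obj K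
    have hι : ∀ i, i < b → IsIso ((H i).map ((t.truncLTι b).app K)) := fun i hi =>
      GrothLib.DerTrunc.isIso_homology_truncLTι K b i hi
    have hπ : ∀ i, b ≤ i → IsIso ((H i).map ((t.truncGEπ b).app K)) := fun i hi =>
      GrothLib.DerTrunc.isIso_homology_truncGEπ K b i hi
    refine hext _ hT (ih L (b - 1) (fun i hi => ?_) (fun i hai hib => ?_) (by push_cast at hk; omega))
      ?_
    · by_cases h : i < b
      · haveI := hι i h
        exact @Equiv.subsingleton _ _
          ((asIso ((H i).map ((t.truncLTι b).app K))).toLinearEquiv).toEquiv (hv i (by omega))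
      · exact (subsingleton_iff_isZero _).2 (GrothLib.DerTrunc.isZero_homology_truncLT K b i (by omega))
    · haveI := hι i (by omega)
      exact hiso (((shiftFunctor (Dual.D A) (-i)).mapIso
        ((DerivedCategory.singleFunctor (ModuleCat.{u} A) 0).mapIso
          (asIso ((H i).map ((t.truncLTι b).app K))))).symm) (hsingle i hai (by omega))
    · haveI : U.IsGE b := by
        rw [DerivedCategory.isGE_iff]
        exact fun i hi => GrothLib.DerTrunc.isZero_homology_truncGE K b i hi
      haveI : U.IsLE b := by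
        rw [DerivedCategory.isLE_iff]
        intro i hi
        haveI := hπ i (by omega)
        exact ((subsingleton_iff_isZero _).1 (hv i (Or.inr hi))).of_iso
          (asIso ((H i).map ((t.truncGEπ b).app K))).symm
      obtain ⟨M, ⟨e⟩⟩ := DerivedCategory.exists_iso_singleFunctor_obj_of_isGE_of_isLE U b
      haveI := hπ b le_rfl
      let e' : M ≅ (H b).obj K := ((singleFunctorCompHomologyFunctorIso (ModuleCat.{u} A) b).app M).symm ≪≫
        (H b).mapIso e.symm ≪≫ (asIso ((H b).map ((t.truncGEπ b).app K))).symm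
      exact hiso ((e ≪≫ (DerivedCategory.singleFunctor (ModuleCat.{u} A) b).mapIso e' ≪≫
        singleIsoShift b _).symm) (hsingle b hab le_rfl)

end GrothLib.DR
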