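import Groth.Agent.Lib.DCxRing.InjAmp
import Groth.Agent.Lib.DCxRing.Flat
import Groth.Agent.Lib.DCxRing.Stupid
import Groth.Agent.Lib.DCxRing.DComplete.HomProj
import Mathlib.Algebra.Homology.DerivedCategory.DerivabilityStructureInjectives
import Mathlib.Algebra.Category.ModuleCat.EnoughInjectives
import Mathlib.RingTheory.Ideal.Quotient.Operations

/-!
# Morphisms out of a module placed in one degree; injective amplitude
-/

set_option autoImplicit false
universe u

open CategoryTheory CategoryTheory.Limits HomologicalComplex CochainComplex Pretriangulated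

attribute [local instance] HasDerivedCategory.standard

namespace GrothLib.DR

variable {A : Type u} [CommRing A]

/-- Morphisms `N → K⟦i⟧` are morphisms out of `N` in degree `i`. -/
noncomputable def extSingleEquiv (K : Dual.D A) (N : Type u) [AddCommGroup N] [Module A N] (i : ℤ) :
    (DRing.toD ((HomologicalComplex.single (ModuleCat.{u} A) (ComplexShape.up ℤ) i).obj (ModuleCat.of A N)) ⟶ K) ≃
      (Dual.inD A N ⟶ K⟦i⟧) :=
  (Iso.homFromEquiv (toDSingleIso i (ModuleCat.of A N))).trans
    (((shiftEquiv' (Dual.D A) (-i) i (neg_add_cancel i)).toAdjunction.homEquiv (Dual.inD A N) K))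

/-- Vanishing of morphisms out of a module in degree `i` into a K-injective complex. -/
theorem subsingleton_hom_from_single_iff (C : DRing.Cx A) [C.IsKInjective] (i : ℤ) (N : Type u) [AddCommGroup N]
    [Module A N] :
    Subsingleton (DRing.toD ((HomologicalComplex.single (ModuleCat.{u} A) (ComplexShape.up ℤ) i).obj
        (ModuleCat.of A N)) ⟶ DRing.toD C) ↔
      ∀ f : N →ₗ[A] C.X i, (∀ x, (C.d i (i + 1)).hom (f x) = 0) →
        ∃ h : N →ₗ[A] C.X (i - 1), ∀ x, (C.d (i - 1) i).hom (h x) = f x := by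
  let S : DRing.Cx A := (HomologicalComplex.single (ModuleCat.{u} A) (ComplexShape.up ℤ) i).obj (ModuleCat.of A N)
  let η := singleObjXSelf (ComplexShape.up ℤ) i (ModuleCat.of A N)
  constructor
  · intro hs f hf
    let φ : S ⟶ C := mkHomFromSingle (ModuleCat.ofHom f) fun k hk => by
      obtain rfl : i + 1 = k := hk
      exact ModuleCat.hom_ext (LinearMap.ext hf)
    obtain ⟨hh⟩ : Nonempty (Homotopy φ 0) := by
      refine ⟨HomotopyCategory.homotopyOfEq _ _ ((CochainComplex.IsKInjective.Qh_map_bijective _ C).1 ?_)⟩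
      let eA := DerivedCategory.quotientCompQhIso (ModuleCat.{u} A)
      have hu := eA.hom.naturality φ
      have hv := eA.hom.naturality (0 : S ⟶ C)
      rw [show DerivedCategory.Q.map φ = DerivedCategory.Q.map (0 : S ⟶ C) from Subsingleton.elim (α := DRing.toD S ⟶ DRing.toD C) _ _] at hu
      exact (cancel_mono (eA.hom.app C)).1 (hu.trans hv.symm)
    have hc := hh.comm i
    rw [dNext_eq _ (show (ComplexShape.up ℤ).Rel i (i + 1) from rfl),
      prevD_eq _ (show (ComplexShape.up ℤ).Rel (i - 1) i from by simp),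
      show S.d i (i + 1) = 0 from (isZero_single_obj_X _ _ _ _ (by omega)).eq_of_tgt _ _,
      zero_comp, zero_add, zero_f, add_zero] at hc
    refine ⟨(η.inv ≫ hh.hom i (i - 1)).hom, fun x => ?_⟩
    have hf' : φ.f i = η.hom ≫ ModuleCat.ofHom f := mkHomFromSingle_f _ _
    rw [hf'] at hc
    have hc' := congrArg (η.inv ≫ ·) hc
    simp only [Iso.inv_hom_id_assoc] at hc'
    exact (ConcreteCategory.congr_hom hc' x).symm
  · intro h
    suffices h0 : ∀ ξ : DRing.toD S ⟶ DRing.toD C, ξ = 0 from ⟨fun a b => (h0 a).trans (h0 b).symm⟩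
    intro ξ
    obtain ⟨φ, rfl⟩ := exists_lift_inj ξ
    obtain ⟨k, hk⟩ := h (η.inv ≫ φ.f i).hom fun x => by
      have hz : (η.inv ≫ φ.f i) ≫ C.d i (i + 1) = 0 := by
        rw [Category.assoc, φ.comm, show S.d i (i + 1) = 0 from
          (isZero_single_obj_X _ _ _ _ (by omega)).eq_of_tgt _ _, zero_comp, comp_zero]
      exact ConcreteCategory.congr_hom hz x
    let hom : ∀ p q, (ComplexShape.up ℤ).Rel q p → (S.X p ⟶ C.X q) := fun p q hqp =>
      if hp : p = i then
        eqToHom (congrArg S.X hp) ≫ η.hom ≫ ModuleCat.ofHom k ≫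
          eqToHom (congrArg C.X (show i - 1 = q by simp only [ComplexShape.up_Rel] at hqp; omega))
      else 0
    have hnull : φ = Homotopy.nullHomotopicMap' hom := by
      refine from_single_hom_ext ?_
      rw [Homotopy.nullHomotopicMap'_f (show (ComplexShape.up ℤ).Rel (i - 1) i from by simp)
        (show (ComplexShape.up ℤ).Rel i (i + 1) from rfl),
        show S.d i (i + 1) = 0 from (isZero_single_obj_X _ _ _ _ (by omega)).eq_of_tgt _ _,
        zero_comp, zero_add]
      simp only [hom, dif_pos, eqToHom_refl, Category.id_comp, Category.comp_id, Category.assoc]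
      rw [← cancel_epi η.inv]
      simp only [Iso.inv_hom_id_assoc]
      exact ModuleCat.hom_ext (LinearMap.ext fun x => (hk x).symm)
    rw [hnull, DerivedCategory.Q_map_eq_of_homotopy _ (Homotopy.nullHomotopy' hom), Functor.map_zero]

/-- Bounded below complexes of injectives. -/
lemma isKInjective_of_termwiseInjective {C : DRing.Cx A} {a : ℤ} (ha : ∀ i, i < a → IsZero (C.X i))
    (hC : DRing.TermwiseInjective C) : C.IsKInjective :=
  haveI : C.IsStrictlyGE a := (CochainComplex.isStrictlyGE_iff C a).2 ha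
  haveI : ∀ n, CategoryTheory.Injective (C.X n) := fun n =>
    (Module.injective_iff_injective_object (R := A) (C.X n)).1 (hC n)
  CochainComplex.isKInjective_of_injective C a

/-- Representatives by injectives vanishing below `a`. -/
theorem exists_injective_rep (K : Dual.D A) (a : ℤ) (ha : ∀ i, i < a → Subsingleton (Dual.HD A K i)) :
    ∃ C : DRing.Cx A, (∀ i, i < a → IsZero (C.X i)) ∧ DRing.TermwiseInjective C ∧
      Nonempty (DRing.toD C ≅ K) := by
  haveI : K.IsGE a := by
    rw [DerivedCategory.isGE_iff]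
    exact fun i hi => (subsingleton_iff_isZero _).1 (ha i hi)
  obtain ⟨Y, hY, ⟨eY⟩⟩ := DerivedCategory.exists_iso_Q_obj_of_isGE K a
  obtain ⟨L, hL, i, hi⟩ := CochainComplex.Plus.exists_quasiIso_injective
    (C := ModuleCat.{u} A) ⟨Y, a, hY⟩ a
  let I : DRing.Cx A := ((InjectiveObject.ι (ModuleCat.{u} A)).mapHomologicalComplex (.up ℤ)).obj L.obj
  haveI : CochainComplex.IsStrictlyGE I a :=
    (CochainComplex.isStrictlyGE_mapHomologicalComplex_obj_iff _ (InjectiveObject.ι _) _).2 hL
  haveI : QuasiIso i.hom := hi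
  exact ⟨I, fun j hj => I.isZero_of_isStrictlyGE a j hj,
    fun n => (Module.injective_iff_injective_object (R := A) (I.X n)).2 (L.obj.X n).property,
    ⟨(asIso (DerivedCategory.Q.map i.hom)).symm ≪≫ eY.symm⟩⟩

theorem subsingleton_ext_of_injAmp {K : Dual.D A} {a b : ℤ} (h : DRing.HasInjAmplitudeIn A a b K)
    (N : Type u) [AddCommGroup N] [Module A N] (i : ℤ) (hi : i < a ∨ b < i) :
    Subsingleton (Dual.inD A N ⟶ K⟦i⟧) := by
  obtain ⟨E, hv, hE, ⟨e⟩⟩ := h
  haveI := isKInjective_of_termwiseInjective (fun j hj => hv j (Or.inl hj)) hE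
  refine (extSingleEquiv K N i).symm.subsingleton_congr.2 ((Iso.homToEquiv e).symm.subsingleton_congr.2
    ((subsingleton_hom_from_single_iff E i N).2 fun f _ => ⟨0, fun x => ?_⟩))
  haveI := ModuleCat.subsingleton_of_isZero (hv i hi)
  exact Subsingleton.elim _ _

/-- Cohomology is detected by morphisms out of the ring. -/
theorem subsingleton_HD_of_hom_ring (K : Dual.D A) (i : ℤ) (h : Subsingleton (Dual.inD A A ⟶ K⟦i⟧)) :
    Subsingleton (Dual.HD A K i) := by
  haveI : Projective (ModuleCat.of A A) := (IsProjective.iff_projective (R := A) A).1 inferInstance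
  haveI : Subsingleton (ModuleCat.of A A ⟶ (DerivedCategory.homologyFunctor (ModuleCat.{u} A) i).obj K) :=
    (Equiv.ofBijective _ (DCpl.homHn_bijective (ModuleCat.of A A) K i)).subsingleton_congr.1 h
  refine subsingleton_of_forall_eq 0 fun x => ?_
  have := ConcreteCategory.congr_hom (Subsingleton.elim (α := ModuleCat.of A A ⟶
    (DerivedCategory.homologyFunctor (ModuleCat.{u} A) i).obj K) (ModuleCat.ofHom (LinearMap.toSpanSingleton A _ x)) 0) 1
  exact (one_smul A x).symm.trans this

/-- Injective amplitude from vanishing on cyclic modules. -/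
theorem hasInjAmplitudeIn_of_cyclic (K : Dual.D A) (a b : ℤ)
    (h : ∀ (I : Ideal A) (i : ℤ), (i < a ∨ b < i) → Subsingleton (Dual.inD A (A ⧸ I) ⟶ K⟦i⟧)) :
    DRing.HasInjAmplitudeIn A a b K := by
  have hH : ∀ i, (i < a ∨ b < i) → Subsingleton (Dual.HD A K i) := fun i hi => by
    refine subsingleton_HD_of_hom_ring K i ?_
    exact (Iso.homFromEquiv ((DerivedCategory.singleFunctor (ModuleCat.{u} A) 0).mapIso
      (Submodule.quotEquivOfEqBot (⊥ : Ideal A) rfl).toModuleIso)).subsingleton_congr.1 (h ⊥ i hi)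
  obtain ⟨C, hCv, hCi, ⟨e⟩⟩ := exists_injective_rep K a fun i hi => hH i (Or.inl hi)
  haveI := isKInjective_of_termwiseInjective hCv hCi
  have hex : ∀ i, b < i → C.ExactAt i := fun i hi =>
    (exactAt_iff C i).2 (subsingleton_HD_of_iso e.symm i (hH i (Or.inr hi)))
  haveI : C.IsLE b := by
    rw [isLE_iff]
    exact hex
  let C₂ := C.truncLE b
  have e₂ : DRing.toD C₂ ≅ DRing.toD C :=
    haveI := (C.quasiIso_ιTruncLE_iff b).2 inferInstance
    asIso (DerivedCategory.Q.map (C.ιTruncLE b))
  -- the cycles in degree `b` form an injective module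
  let Z := LinearMap.ker (C.d b (b + 1)).hom
  have hZ : Module.Injective A Z := by
    rw [← Module.Baer.iff_injective]
    intro I g
    haveI := hCi b
    obtain ⟨G, hG⟩ := Module.Injective.extension_property A (C.X b) I A I.subtype Subtype.val_injective
      (Z.subtype.comp g)
    let f : A ⧸ I →ₗ[A] C.X (b + 1) := Submodule.liftQ I ((C.d b (b + 1)).hom.comp G) fun x hx => by
      have h1 : G x = (g ⟨x, hx⟩ : C.X b) := LinearMap.congr_fun hG ⟨x, hx⟩
      change (C.d b (b + 1)).hom (G x) = 0
      rw [h1]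
      exact (g ⟨x, hx⟩).2
    have hC' := (subsingleton_hom_from_single_iff C (b + 1) (A ⧸ I)).1 ((Iso.homToEquiv e).subsingleton_congr.2
      ((extSingleEquiv K (A ⧸ I) (b + 1)).subsingleton_congr.2 (h I (b + 1) (Or.inr (by omega))))) f fun q => by
        obtain ⟨x, rfl⟩ := I.mkQ_surjective q
        exact ConcreteCategory.congr_hom (C.d_comp_d b (b + 1) (b + 1 + 1)) (G x)
    have hC'' : ∀ m, b + 1 - 1 = m → ∃ k : A ⧸ I →ₗ[A] C.X m, ∀ q, (C.d m (b + 1)).hom (k q) = f q := by
      rintro m rfl
      exact hC'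
    obtain ⟨k, hk⟩ := hC'' b (by omega)
    refine ⟨(G - k.comp I.mkQ).codRestrict Z fun x => ?_, fun x hx => Subtype.ext ?_⟩
    · change (C.d b (b + 1)).hom (G x - k (I.mkQ x)) = 0
      rw [map_sub, hk]
      exact sub_self _
    · change G x - k (I.mkQ x) = _
      rw [show I.mkQ x = 0 from (Submodule.Quotient.mk_eq_zero I).2 hx, map_zero, sub_zero]
      exact LinearMap.congr_fun hG ⟨x, hx⟩
  let S := C.sc' (b - 1) b (b + 1)
  let eTop : C₂.X b ≅ ModuleCat.of A Z :=
    C.truncLEXIsoCycles b ≪≫
      ShortComplex.cyclesMapIso (C.isoSc' (b - 1) b (b + 1) (by simp) (by simp)) ≪≫ S.moduleCatCyclesIso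
  refine ⟨C₂, fun i hi => ?_, fun i => ?_, ⟨e₂ ≪≫ e⟩⟩
  · rcases hi with hi | hi
    · rcases lt_trichotomy i b with hib | rfl | hib
      · exact (hCv i hi).of_iso (C.truncLEXIso b i hib)
      · haveI := ModuleCat.subsingleton_of_isZero (hCv i hi)
        exact (ModuleCat.isZero_of_subsingleton _).of_iso eTop
      · exact C₂.isZero_of_isStrictlyLE b i hib
    · exact C₂.isZero_of_isStrictlyLE b i hi
  · rcases lt_trichotomy i b with hib | rfl | hib
    · haveI := hCi i
      haveI : Injective (C.X i) := (Module.injective_iff_injective_object (R := A) (C.X i)).1 (hCi i)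
      exact (Module.injective_iff_injective_object (R := A) _).2 (Injective.of_iso (C.truncLEXIso b i hib).symm inferInstance)
    · haveI : Injective (ModuleCat.of A Z) := (Module.injective_iff_injective_object (R := A) Z).1 hZ
      exact (Module.injective_iff_injective_object (R := A) _).2 (Injective.of_iso eTop.symm inferInstance)
    · exact (Module.injective_iff_injective_object (R := A) _).2 (C₂.isZero_of_isStrictlyLE b i hib).injective

end GrothLib.DR
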