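import Groth.Agent.Lib.DCxRing.Stupid
import Groth.Agent.Lib.DCxRing.Homology

/-!
# Pseudo-coherence: dévissage and direct summands
-/

universe u

open CategoryTheory Limits HomologicalComplex CochainComplex Pretriangulated

attribute [local instance] HasDerivedCategory.standard

namespace GrothLib.DR

variable {A : Type u} [CommRing A]

lemma subsingleton_HD_of_isZero {K : Dual.D A} (h : IsZero K) (i : ℤ) :
    Subsingleton (Dual.HD A K i) :=
  (subsingleton_iff_isZero _).2 ((DerivedCategory.homologyFunctor (ModuleCat.{u} A) i).map_isZero h)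

theorem isPseudoCoherent_shift_inD {M : Type u} [AddCommGroup M] [Module A M] {m i : ℤ}
    (h : DRing.IsPseudoCoherentModule A (m - i) M) :
    DRing.IsPseudoCoherent A m ((Dual.inD A M)⟦-i⟧) :=
  DerBC.isPseudoCoherent_shift h (-i) m (by omega)

/-- A bounded above complex of suitably pseudo-coherent modules. -/
theorem isPseudoCoherent_of_termwise {K : DRing.Cx A} {b m : ℤ} (hb : DRing.VanishesAbove K b)
    (h : ∀ i, m ≤ i → i ≤ b → DRing.IsPseudoCoherentModule A (m - i) (K.X i)) :
    DRing.IsPseudoCoherent A m (DRing.toD K) := by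
  have h1 : DRing.IsPseudoCoherent A m (DRing.toD (DerBC.sigmaGE m K)) :=
    prop_sigmaGE (DRing.IsPseudoCoherent A m) (fun e h => DerBC.isPseudoCoherent_of_iso e h)
      (fun X hX => isPseudoCoherent_of_vanishing X m fun i _ => subsingleton_HD_of_isZero hX i)
      (fun T hT h1 h3 => (DerBC.isPseudoCoherent_triangle T hT m).2.1 h1 h3)
      K b hb m fun i hi hib => isPseudoCoherent_shift_inD (h i hi hib)
  obtain ⟨hi, he⟩ := DerBC.sigmaι_homology m K
  have e : ∀ i, Arrow.mk ((DerivedCategory.homologyFunctor (ModuleCat.{u} A) i).map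
      (DerivedCategory.Q.map (DerBC.sigmaι m K))) ≅
      Arrow.mk (HomologicalComplex.homologyMap (DerBC.sigmaι m K) i) := fun i =>
    Arrow.isoMk ((DerivedCategory.homologyFunctorFactors _ i).app _)
      ((DerivedCategory.homologyFunctorFactors _ i).app _)
      (DerivedCategory.homologyFunctorFactors_hom_naturality (DerBC.sigmaι m K) i).symm
  have hC := (cone_exact_iff (DerBC.sigmaι m K) m).2
    ⟨fun i hmi => ((MorphismProperty.isomorphisms (ModuleCat.{u} A)).arrow_mk_iso_iff (e i)).2 (hi i hmi),
      ((MorphismProperty.epimorphisms (ModuleCat.{u} A)).arrow_mk_iso_iff (e m)).2 he⟩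
  exact (DerBC.isPseudoCoherent_triangle _
    (DerivedCategory.mappingCone_triangle_distinguished (DerBC.sigmaι m K)) m).2.1 h1
    (isPseudoCoherent_of_vanishing _ m fun i hmi => (exactAt_iff _ i).1 (hC i hmi))

/-- An object with suitably pseudo-coherent cohomology. -/
theorem isPseudoCoherent_of_homologyModules {K : Dual.D A} {b m : ℤ}
    (hb : ∀ i, b < i → Subsingleton (Dual.HD A K i))
    (h : ∀ i, m ≤ i → i ≤ b → DRing.IsPseudoCoherentModule A (m - i) (Dual.HD A K i)) :
    DRing.IsPseudoCoherent A m K := by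
  let t : Triangulated.TStructure (Dual.D A) := DerivedCategory.TStructure.t
  let U := (t.truncGE m).obj K
  let H := fun i => DerivedCategory.homologyFunctor (ModuleCat.{u} A) i
  have hU : DRing.IsPseudoCoherent A m U := by
    refine prop_homology (DRing.IsPseudoCoherent A m) (fun e h => DerBC.isPseudoCoherent_of_iso e h)
      (fun X hX => isPseudoCoherent_of_vanishing X m fun i _ => subsingleton_HD_of_isZero hX i)
      (fun T hT h1 h3 => (DerBC.isPseudoCoherent_triangle T hT m).2.1 h1 h3) U m b (fun i hi => ?_)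
      fun i hi hib => ?_
    · by_cases him : i < m
      · exact (subsingleton_iff_isZero _).2 (DerTrunc.isZero_homology_truncGE K m i him)
      · haveI := DerTrunc.isIso_homology_truncGEπ K m i (by omega)
        exact @Equiv.subsingleton _ _ ((asIso ((H i).map ((t.truncGEπ m).app K))).toLinearEquiv).toEquiv.symm
          (hb i (by omega))
    · haveI := DerTrunc.isIso_homology_truncGEπ K m i hi
      exact DerBC.isPseudoCoherent_of_iso
        ((CategoryTheory.shiftFunctor (Dual.D A) (-i)).mapIso ((DerivedCategory.singleFunctor (ModuleCat.{u} A) 0).mapIso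
          (asIso ((H i).map ((t.truncGEπ m).app K))))) (isPseudoCoherent_shift_inD (h i hi hib))
  exact (DerBC.isPseudoCoherent_triangle _ (t.triangleLTGE_distinguished m K) m).2.1
    (isPseudoCoherent_of_vanishing _ m fun i hi =>
      (subsingleton_iff_isZero _).2 (DerTrunc.isZero_homology_truncLT K m i hi)) hU

lemma exactAt_of_retract {X Y : DRing.Cx A} (s : X ⟶ Y) (r : Y ⟶ X) (h : s ≫ r = 𝟙 X) {i : ℤ}
    (hY : Y.ExactAt i) : X.ExactAt i := by
  rw [exactAt_iff_isZero_homology] at hY ⊢
  exact (IsZero.iff_id_eq_zero _).2 (by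
    rw [← HomologicalComplex.homologyMap_id, ← h, HomologicalComplex.homologyMap_comp,
      hY.eq_of_tgt (HomologicalComplex.homologyMap s i) 0, zero_comp])

lemma finite_homology_of_retract {X Y : DRing.Cx A} (s : X ⟶ Y) (r : Y ⟶ X) (h : s ≫ r = 𝟙 X)
    {i : ℤ} (hY : Module.Finite A (Y.homology i)) : Module.Finite A (X.homology i) := by
  refine Module.Finite.of_surjective (HomologicalComplex.homologyMap r i).hom fun x =>
    ⟨(HomologicalComplex.homologyMap s i).hom x, ?_⟩
  have := congrArg (fun g : X ⟶ X => (HomologicalComplex.homologyMap g i).hom x) h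
  simpa [HomologicalComplex.homologyMap_comp] using this

lemma cone_map_comp {E E' E'' P P' P'' : DRing.Cx A} (f : E ⟶ P) (f' : E' ⟶ P') (f'' : E'' ⟶ P'')
    (a : E ⟶ E') (b : P ⟶ P') (a' : E' ⟶ E'') (b' : P' ⟶ P'')
    (h : f ≫ b = a ≫ f') (h' : f' ≫ b' = a' ≫ f'') :
    mappingCone.map f f' a b h ≫ mappingCone.map f' f'' a' b' h' =
      mappingCone.map f f'' (a ≫ a') (b ≫ b') (by rw [reassoc_of% h, h', Category.assoc]) :=
  (mappingCone.map_comp f f' f'' a b h a' b' h').symm

/-- Direct summands of pseudo-coherent objects. -/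
theorem isPseudoCoherent_of_biprod (K L : Dual.D A) [HasBinaryBiproduct K L] (m : ℤ)
    (h : DRing.IsPseudoCoherent A m (K ⊞ L)) :
    DRing.IsPseudoCoherent A m K ∧ DRing.IsPseudoCoherent A m L := by
  obtain ⟨b, -, hb⟩ := exists_bound h
  let H := fun i => DerivedCategory.homologyFunctor (ModuleCat.{u} A) i
  have hK : ∀ i, b < i → Subsingleton (Dual.HD A K i) := fun i hi => by
    haveI := hb i hi
    refine Function.Injective.subsingleton (f := ((H i).map (biprod.inl : K ⟶ K ⊞ L)).hom) ?_
    haveI : IsSplitMono (biprod.inl : K ⟶ K ⊞ L) := ⟨⟨⟨biprod.fst, biprod.inl_fst⟩⟩⟩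
    exact (ModuleCat.mono_iff_injective _).1 inferInstance
  have hL : ∀ i, b < i → Subsingleton (Dual.HD A L i) := fun i hi => by
    haveI := hb i hi
    refine Function.Injective.subsingleton (f := ((H i).map (biprod.inr : L ⟶ K ⊞ L)).hom) ?_
    haveI : IsSplitMono (biprod.inr : L ⟶ K ⊞ L) := ⟨⟨⟨biprod.snd, biprod.inr_snd⟩⟩⟩
    exact (ModuleCat.mono_iff_injective _).1 inferInstance
  obtain ⟨P, hP, -, ⟨eP⟩⟩ := exists_projective_rep K b hK
  obtain ⟨Q, hQ, -, ⟨eQ⟩⟩ := exists_projective_rep L b hL
  let e : DRing.toD (P ⊞ Q) ≅ K ⊞ L :=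
    { hom := biprod.lift (DerivedCategory.Q.map biprod.fst ≫ eP.hom)
        (DerivedCategory.Q.map biprod.snd ≫ eQ.hom)
      inv := biprod.desc (eP.inv ≫ DerivedCategory.Q.map biprod.inl)
        (eQ.inv ≫ DerivedCategory.Q.map biprod.inr)
      hom_inv_id := by
        simp only [biprod.lift_desc, Category.assoc, Iso.hom_inv_id_assoc, ← Functor.map_comp,
          ← Functor.map_add, biprod.total, CategoryTheory.Functor.map_id]
      inv_hom_id := by
        apply biprod.hom_ext' <;> apply biprod.hom_ext <;>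
          simp [← Functor.map_comp_assoc] }
  have hPQ : DRing.IsPseudoCoherent A m (DRing.toD (P ⊞ Q)) := DerBC.isPseudoCoherent_of_iso e.symm h
  have key : ∀ n : ℕ, b + 1 - n ≥ m → Nonempty (Approx P b n) ∧ Nonempty (Approx Q b n) := by
    intro n
    induction n with
    | zero => exact fun _ => ⟨⟨Approx.zero hP⟩, ⟨Approx.zero hQ⟩⟩
    | succ n ih =>
      intro hn
      obtain ⟨⟨p⟩, ⟨q⟩⟩ := ih (by push_cast at hn; omega)
      let F := biprod.map p.f q.f
      let ι₁ := mappingCone.map p.f F biprod.inl biprod.inl (by simp [F])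
      let π₁ := mappingCone.map F p.f biprod.fst biprod.fst (by simp [F])
      let ι₂ := mappingCone.map q.f F biprod.inr biprod.inr (by simp [F])
      let π₂ := mappingCone.map F q.f biprod.snd biprod.snd (by simp [F])
      have h₁ : ι₁ ≫ π₁ = 𝟙 _ := by
        simp only [ι₁, π₁, cone_map_comp, biprod.inl_fst, mappingCone.map_id]
      have h₂ : ι₂ ≫ π₂ = 𝟙 _ := by
        simp only [ι₂, π₂, cone_map_comp, biprod.inr_snd, mappingCone.map_id]
      have htot : π₁ ≫ ι₁ + π₂ ≫ ι₂ = 𝟙 _ := by
        simp only [ι₁, π₁, ι₂, π₂, cone_map_comp]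
        ext i : 1
        rw [mappingCone.ext_from_iff F (i + 1) i rfl]
        have hX : ∀ (U V : DRing.Cx A) (j : ℤ), (biprod.fst : U ⊞ V ⟶ U).f j ≫ (biprod.inl : U ⟶ U ⊞ V).f j +
            (biprod.snd : U ⊞ V ⟶ V).f j ≫ (biprod.inr : V ⟶ U ⊞ V).f j = 𝟙 _ := fun U V j =>
          congrArg (fun g : U ⊞ V ⟶ U ⊞ V => g.f j) biprod.total
        constructor
        · simp only [mappingCone.map, mappingCone.mapOfHomotopy, Preadditive.comp_add,
            HomologicalComplex.add_f_apply]
          simp
          rw [← Category.assoc, ← Category.assoc, ← Preadditive.add_comp, hX, Category.id_comp]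
        · simp only [mappingCone.map, mappingCone.mapOfHomotopy, Preadditive.comp_add,
            HomologicalComplex.add_f_apply]
          simp
          rw [← Category.assoc, ← Category.assoc, ← Preadditive.add_comp, hX, Category.id_comp]
      have hex : ∀ i, b + 1 - n ≤ i → (mappingCone F).ExactAt i := fun i hi => by
        rw [exactAt_iff_isZero_homology, IsZero.iff_id_eq_zero, ← HomologicalComplex.homologyMap_id,
          ← htot, HomologicalComplex.homologyMap_add, HomologicalComplex.homologyMap_comp,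
          HomologicalComplex.homologyMap_comp,
          ((exactAt_iff_isZero_homology _ i).1 (p.exact i hi)).eq_of_tgt
            (HomologicalComplex.homologyMap π₁ i) 0,
          ((exactAt_iff_isZero_homology _ i).1 (q.exact i hi)).eq_of_tgt
            (HomologicalComplex.homologyMap π₂ i) 0, zero_comp, zero_comp, add_zero]
      have hv : DRing.VanishesOutside (p.E ⊞ q.E) (b + 1 - n) b := fun i hi =>
        ((biprod_isZero_iff _ _).2 ⟨p.vanish i hi, q.vanish i hi⟩).of_iso
          (HomologicalComplex.biprodXIso _ _ i)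
      have hf : DRing.TermwiseFiniteFree (p.E ⊞ q.E) := fun i => by
        let e' : (p.E.X i × q.E.X i) ≃ₗ[A] (p.E ⊞ q.E).X i :=
          ((HomologicalComplex.biprodXIso _ _ i) ≪≫ ModuleCat.biprodIsoProd _ _).toLinearEquiv.symm
        haveI := (p.free i).1
        haveI := (p.free i).2
        haveI := (q.free i).1
        haveI := (q.free i).2
        exact ⟨Module.Finite.equiv e', Module.Free.of_equiv e'⟩
      have hfin := finite_cone F hv hf
        (isPseudoCoherent_mono (by push_cast at hn; omega) hPQ) hex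
      obtain ⟨E₁, ι₁', f₁, -, v₁, fr₁, -, x₁⟩ := exists_step p.f _ (by omega) p.vanish p.free p.exact
        (finite_homology_of_retract ι₁ π₁ h₁ hfin)
      obtain ⟨E₂, ι₂', f₂, -, v₂, fr₂, -, x₂⟩ := exists_step q.f _ (by omega) q.vanish q.free q.exact
        (finite_homology_of_retract ι₂ π₂ h₂ hfin)
      exact ⟨⟨⟨E₁, f₁, fun i hi => v₁ i (by push_cast at hi; omega), fr₁,
          fun i hi => x₁ i (by push_cast at hi; omega)⟩⟩,
        ⟨⟨E₂, f₂, fun i hi => v₂ i (by push_cast at hi; omega), fr₂,
          fun i hi => x₂ i (by push_cast at hi; omega)⟩⟩⟩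
  by_cases hmb : m ≤ b + 1
  · obtain ⟨⟨p⟩, ⟨q⟩⟩ := key (b + 1 - m).toNat (by omega)
    exact ⟨DerBC.isPseudoCoherent_of_iso eP
        (isPseudoCoherent_of_cone p.f p.vanish p.free fun i hi => p.exact i (by omega)),
      DerBC.isPseudoCoherent_of_iso eQ
        (isPseudoCoherent_of_cone q.f q.vanish q.free fun i hi => q.exact i (by omega))⟩
  · exact ⟨isPseudoCoherent_of_vanishing K m fun i hi => hK i (by omega),
      isPseudoCoherent_of_vanishing L m fun i hi => hL i (by omega)⟩

end GrothLib.DR
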