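import Groth.Agent.Lib.DCxRing.PerfectModule
import Groth.Agent.Lib.DCxRing.Homology
import Groth.Agent.Lib.DCxRing.Devissage
import Groth.Agent.Lib.Serre.Regular
import Mathlib.RingTheory.Spectrum.Prime.FreeLocus
import Mathlib.RingTheory.Ideal.KrullsHeightTheorem

/-!
# Perfect objects over regular rings

Over a Noetherian ring with regular local rings, finite modules have finite projective dimension
(the Krull dimension may be infinite), so perfect means bounded with finite cohomology.
-/

set_option autoImplicit false
universe u

open CategoryTheory TensorProduct TopologicalSpace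

attribute [local instance] HasDerivedCategory.standard

namespace GrothLib.DR

variable {A : Type u} [CommRing A] [IsNoetherianRing A]

theorem isOpen_pdLE_locus (n : ℕ) : ∀ (M : Type u) [AddCommGroup M] [Module A M] [Module.Finite A M],
    IsOpen {p : PrimeSpectrum A |
      Serre.PdLE (Localization.AtPrime p.asIdeal) (Localization.AtPrime p.asIdeal ⊗[A] M) n} := by
  induction n with
  | zero =>
    intro M _ _ _
    have := Module.finitePresentation_of_finite A M
    convert Module.isOpen_freeLocus (R := A) (M := M) using 1
    ext p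
    rw [Set.mem_ofPred, Serre.pdLE_zero_iff, Module.mem_freeLocus_iff_tensor p (Localization.AtPrime p.asIdeal)]
    exact ⟨fun h => Module.free_of_flat_of_isLocalRing, fun h => Module.Projective.of_free⟩
  | succ n ih =>
    intro M _ _ _
    obtain ⟨k, f, hf⟩ := Module.Finite.exists_fin' A M
    convert ih (LinearMap.ker f) using 1
    ext p
    exact Serre.pdLE_baseChange_succ_iff _ f hf
      (Module.Flat.lTensor_preserves_injective_linearMap _ Subtype.val_injective) n

theorem pdLE_of_forall_prime (n : ℕ) : ∀ (M : Type u) [AddCommGroup M] [Module A M] [Module.Finite A M],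
    (∀ p : PrimeSpectrum A,
      Serre.PdLE (Localization.AtPrime p.asIdeal) (Localization.AtPrime p.asIdeal ⊗[A] M) n) →
    Serre.PdLE A M n := by
  induction n with
  | zero =>
    intro M _ _ _ h
    have := Module.finitePresentation_of_finite A M
    rw [Serre.pdLE_zero_iff, ← Module.freeLocus_eq_univ_iff, Set.eq_univ_iff_forall]
    intro p
    rw [Module.mem_freeLocus_iff_tensor p (Localization.AtPrime p.asIdeal)]
    have := Serre.pdLE_zero_iff.1 (h p)
    exact Module.free_of_flat_of_isLocalRing
  | succ n ih =>
    intro M _ _ _ h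
    obtain ⟨k, f, hf⟩ := Module.Finite.exists_fin' A M
    rw [Serre.pdLE_succ_iff f hf n]
    exact ih _ fun p => (Serre.pdLE_baseChange_succ_iff _ f hf
      (Module.Flat.lTensor_preserves_injective_linearMap _ Subtype.val_injective) n).1 (h p)

/-- Finite modules over a regular ring have finite projective dimension. -/
theorem exists_pdLE_of_regular (hreg : ∀ p : PrimeSpectrum A, IsRegularLocalRing (Localization.AtPrime p.asIdeal))
    (M : Type u) [AddCommGroup M] [Module A M] [Module.Finite A M] : ∃ n, Serre.PdLE A M n := by
  have hloc : ∀ p : PrimeSpectrum A, ∃ n, Serre.PdLE (Localization.AtPrime p.asIdeal)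
      (Localization.AtPrime p.asIdeal ⊗[A] M) n := fun p => by
    have := hreg p
    obtain ⟨d, hd⟩ : ∃ d : ℕ, ringKrullDim (Localization.AtPrime p.asIdeal) = d :=
      ⟨_, IsRegularLocalRing.spanFinrank_maximalIdeal.symm⟩
    exact ⟨d, Serre.pdLE_of_isRegularLocalRing _ d hd _⟩
  choose n hn using hloc
  obtain ⟨s, hs⟩ := CompactSpace.elim_nhds_subcover (fun p => {q : PrimeSpectrum A |
      Serre.PdLE (Localization.AtPrime q.asIdeal) (Localization.AtPrime q.asIdeal ⊗[A] M) (n p)})
    fun p => (isOpen_pdLE_locus (n p) M).mem_nhds (hn p)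
  refine ⟨s.sup n, pdLE_of_forall_prime _ M fun q => ?_⟩
  have hq : q ∈ ⋃ p ∈ s, {q : PrimeSpectrum A |
      Serre.PdLE (Localization.AtPrime q.asIdeal) (Localization.AtPrime q.asIdeal ⊗[A] M) (n p)} := by
    rw [hs]; trivial
  obtain ⟨p, hp, hqp⟩ := Set.mem_iUnion₂.1 hq
  exact Serre.pdLE_mono (Finset.le_sup hp) hqp

/-- Finite modules over a regular ring are perfect. -/
theorem isPerfectModule_of_regular (hreg : ∀ p : PrimeSpectrum A, IsRegularLocalRing (Localization.AtPrime p.asIdeal))
    (M : Type u) [AddCommGroup M] [Module A M] [Module.Finite A M] : DRing.IsPerfectModule A M := by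
  obtain ⟨n, hn⟩ := exists_pdLE_of_regular hreg M
  have hR : ∀ I : Ideal A, I.FG → Module.FinitePresentation A I := fun I hI => by
    haveI := Module.Finite.of_fg hI
    exact Module.finitePresentation_of_finite A I
  refine isPerfect_iff.2 ⟨(isPseudoCoherent'_iff_of_coherent hR _
    ⟨0, fun i hi => subsingleton_HD_inD M i (by omega)⟩).2 fun i => ?_,
    -(n : ℤ), 0, hasTorAmplitudeIn_of_projectiveDimension n M hn⟩
  simp only [Module.finitePresentation_iff_finite]
  rcases eq_or_ne i 0 with rfl | hi
  · exact Module.Finite.equiv (inDHomologyIso M).toLinearEquiv.symm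
  · haveI := subsingleton_HD_inD (A := A) M i hi
    infer_instance

/-- Bounded objects with finite cohomology over a regular ring are perfect. -/
theorem isPerfect_of_regular (hreg : ∀ p : PrimeSpectrum A, IsRegularLocalRing (Localization.AtPrime p.asIdeal))
    (K : Dual.D A) (a b : ℤ) (hb : ∀ i : ℤ, (i < a ∨ b < i) → Subsingleton (Dual.HD A K i))
    (hK : ∀ i : ℤ, Module.Finite A (Dual.HD A K i)) : DRing.IsPerfect A K :=
  prop_homology (DRing.IsPerfect A) (fun e h => isPerfect_of_iso e h) (fun _ hX => isPerfect_of_isZero hX)
    (fun T hT => (isPerfect_triangle T hT).2.1) K a b hb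
    fun i _ _ => by
      have := hK i
      exact isPerfect_shift (isPerfectModule_of_regular hreg _) (-i)

theorem finite_homology_of_isPerfect {K : Dual.D A} (h : DRing.IsPerfect A K) (i : ℤ) :
    Module.Finite A (Dual.HD A K i) := by
  have hR : ∀ I : Ideal A, I.FG → Module.FinitePresentation A I := fun I hI => by
    haveI := Module.Finite.of_fg hI
    exact Module.finitePresentation_of_finite A I
  have h' := ((isPseudoCoherent_iff_of_coherent hR K i).1 (isPseudoCoherent_of_prime (isPerfect_iff.1 h).1 i)).2.1
  exact h'

end GrothLib.DR
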