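import Groth.Agent.Lib.DCxRing.Perfect
import Groth.Agent.Lib.DerCat.BoundedDevissage
import Groth.Agent.Lib.SiteDer.LocGen
import Groth.Agent.Lib.TriCat.Torsion
import Groth.Agent.Lib.OX.PerfectEnvelope
import Mathlib.Algebra.Homology.DerivedCategory.Linear
import Mathlib.Algebra.Homology.ShortComplex.Linear

/-! # Cones of multiplication maps in `D(A)`: torsion objects and their perfect generators -/

set_option autoImplicit false
set_option maxHeartbeats 800000
universe u

open CategoryTheory CategoryTheory.Limits Pretriangulated DerivedCategory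
open GrothLib.SiteDer (theta)

attribute [local instance] HasDerivedCategory.standard

namespace GrothLib.DR

section General

universe t w v u'

theorem homologyFunctor_map_smul_id {R : Type t} [Ring R] {C : Type u'} [Category.{v} C] [Abelian C] [Linear R C]
    [HasDerivedCategory.{w} C] (r : R) (E : DerivedCategory C) (j : ℤ) :
    (homologyFunctor C j).map (r • 𝟙 E) = r • 𝟙 _ := by
  let H := homologyFunctor C j
  have key : ∀ F : CochainComplex C ℤ, H.map (r • 𝟙 (Q.obj F)) = r • 𝟙 _ := fun F => by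
    rw [← Q.map_id, ← Q.map_smul, ← cancel_mono ((homologyFunctorFactors C j).hom.app F)]
    refine ((homologyFunctorFactors C j).hom.naturality (r • 𝟙 F)).trans ?_
    rw [Linear.smul_comp, Category.id_comp]
    change _ ≫ ShortComplex.homologyMap _ = _
    rw [show (HomologicalComplex.shortComplexFunctor _ _ j).map (r • 𝟙 F) = r • 𝟙 (F.sc j) from
      ShortComplex.hom_ext _ _ rfl rfl rfl, ShortComplex.homologyMap_smul, ShortComplex.homologyMap_id,
      Linear.comp_smul]
    exact congrArg (r • ·) (Category.comp_id _)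
  let e := Q.objObjPreimageIso E
  have h : r • 𝟙 E = e.inv ≫ (r • 𝟙 _) ≫ e.hom := by
    rw [Linear.smul_comp, Category.id_comp, Linear.comp_smul, e.inv_hom_id]
  rw [h, H.map_comp, H.map_comp, key, Linear.smul_comp, Category.id_comp, Linear.comp_smul, ← H.map_comp,
    e.inv_hom_id, H.map_id]

end General

variable {A : Type u} [CommRing A]

noncomputable instance linearD : Linear A (Dual.D A) :=
  inferInstanceAs (Linear A (DerivedCategory (ModuleCat.{u} A)))

instance linearShiftD (n : ℤ) : (shiftFunctor (Dual.D A) n).Linear A :=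
  inferInstanceAs ((shiftFunctor (DerivedCategory (ModuleCat.{u} A)) n).Linear A)

theorem homology_map_smul_id (r : A) (E : Dual.D A) (j : ℤ) :
    (homologyFunctor (ModuleCat.{u} A) j).map (r • 𝟙 E) = r • 𝟙 _ :=
  homologyFunctor_map_smul_id r E j

theorem theta_smul (r : A) {E : Dual.D A} {j : ℤ} {M : ModuleCat.{u} A}
    (φ : (singleFunctor (ModuleCat.{u} A) j).obj M ⟶ E) : theta (r • φ) = r • theta φ := by
  rw [show r • φ = φ ≫ (r • 𝟙 E) by rw [Linear.comp_smul, Category.comp_id], SiteDer.theta_comp,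
    homology_map_smul_id, Linear.comp_smul]
  exact congrArg (r • ·) (Category.comp_id _)

/-- All cohomology modules are `f`-power torsion. -/
def IsTorsion (f : A) (E : Dual.D A) : Prop :=
  ∀ (j : ℤ) (x : (homologyFunctor (ModuleCat.{u} A) j).obj E), ∃ k : ℕ, f ^ k • x = 0

theorem torsionHom_gen {f : A} {E : Dual.D A} (hE : IsTorsion f E) :
    TriCat.TorsionHom f E ((singleFunctor (ModuleCat.{u} A) 0).obj (ModuleCat.of A A)) := fun n => by
  refine TriCat.torsion_of_iso (((singleFunctors (ModuleCat.{u} A)).shiftIso n (-n) 0 (by omega)).app _).symm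
    fun φ => ?_
  obtain ⟨k, hk⟩ := hE (-n) ((theta φ).hom (1 : A))
  refine ⟨k, (DerTheta.thetaBij_of_projective (ModuleCat.of A A) (-n) E).1 ?_⟩
  show theta (f ^ k • φ) = theta 0
  rw [theta_smul, SiteDer.theta_zero]
  exact ModuleCat.hom_ext (LinearMap.ext_ring hk)

/-- Induction from the ring to perfect complexes. -/
theorem thick_induction {P : Dual.D A → Prop} (hP : TriCat.Thick P)
    (h : P ((singleFunctor (ModuleCat.{u} A) 0).obj (ModuleCat.of A A))) {M : Dual.D A}
    (hM : DRing.IsPerfect A M) : P M := by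
  obtain ⟨E, a, b, hv, hp, ⟨e⟩⟩ := hM
  refine hP.of_iso e (DerCat.prop_Q_of_bounded hP (b + 1 - a).toNat E a (fun i hi => hv i (by omega)) fun i => ?_)
  have := (hp i).1
  have := (hp i).2
  let S := singleFunctor (ModuleCat.{u} A) i
  refine OX.prop_finite_projective (P := fun N => P (S.obj N)) (fun Z hZ => hP.zero (S.map_isZero hZ))
    (fun {M₁ M₂ M} i₁ p₁ i₂ p₂ h hA hB => hP.total (S.map i₁) (S.map p₁) (S.map i₂) (S.map p₂)
      (by rw [← S.map_comp, ← S.map_comp, ← S.map_add, h, S.map_id]) hA hB) ?_ (E.X i)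
  exact hP.of_iso (((singleFunctors (ModuleCat.{u} A)).shiftIso (-i) i 0 (by omega)).app _) (hP.shift (-i) h)

theorem torsionHom_of_isPerfect {f : A} {E M : Dual.D A} (hE : IsTorsion f E) (hM : DRing.IsPerfect A M) :
    TriCat.TorsionHom f E M :=
  thick_induction (TriCat.thick_torsionHom f E) (torsionHom_gen hE) hM

/-- `f` is nilpotent on `P`. -/
def Nil (f : A) (P : Dual.D A) : Prop := ∃ k : ℕ, f ^ k • 𝟙 P = 0

theorem Nil.torsionHom {f : A} {P : Dual.D A} (h : Nil f P) (E : Dual.D A) : TriCat.TorsionHom f E P :=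
  fun n φ => by
    obtain ⟨k, hk⟩ := h
    refine ⟨k, ?_⟩
    have h2 : (shiftFunctor (Dual.D A) n).map (f ^ k • 𝟙 P) = 0 := by rw [hk, Functor.map_zero]
    rw [Functor.map_smul, CategoryTheory.Functor.map_id] at h2
    rw [← Category.id_comp φ, ← Linear.smul_comp, h2, zero_comp]

theorem nil_of_torsionHom {f : A} {P : Dual.D A} (h : TriCat.TorsionHom f P P) : Nil f P :=
  TriCat.torsion_of_iso ((shiftFunctorZero (Dual.D A) ℤ).app P) (h 0) (𝟙 P)

theorem Nil.isTorsion {f : A} {P : Dual.D A} (h : Nil f P) : IsTorsion f P := fun j x => by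
  obtain ⟨k, hk⟩ := h
  refine ⟨k, ?_⟩
  have h2 := congrArg (homologyFunctor (ModuleCat.{u} A) j).map hk
  rw [homology_map_smul_id, Functor.map_zero] at h2
  exact LinearMap.congr_fun (congrArg ModuleCat.Hom.hom h2) x

theorem nil_of_isTorsion {f : A} {P : Dual.D A} (hP : DRing.IsPerfect A P) (h : IsTorsion f P) : Nil f P :=
  nil_of_torsionHom (torsionHom_of_isPerfect h hP)

theorem nil_cone_of_nil {f : A} {T : Triangle (Dual.D A)} (hT : T ∈ distTriang _) (h₁ : Nil f T.obj₁)
    (h₂ : Nil f T.obj₂) : Nil f T.obj₃ :=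
  nil_of_torsionHom ((TriCat.thick_torsionHom f _).cone T hT (h₁.torsionHom _) (h₂.torsionHom _))

theorem nil_fibre_of_nil {f : A} {T : Triangle (Dual.D A)} (hT : T ∈ distTriang _) (h₂ : Nil f T.obj₂)
    (h₃ : Nil f T.obj₃) : Nil f T.obj₁ :=
  nil_of_torsionHom ((TriCat.thick_torsionHom f _).ext₁ T hT (h₂.torsionHom _) (h₃.torsionHom _))

theorem nil_cone_self {f g : A} (hg : ∃ k : ℕ, g = f ^ k) {P C : Dual.D A} {m₂ : P ⟶ C} {m₃ : C ⟶ P⟦(1 : ℤ)⟧}
    (hT : Triangle.mk (g • 𝟙 P) m₂ m₃ ∈ distTriang _) : Nil f C := by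
  obtain ⟨k, rfl⟩ := hg
  have h₁ : f ^ k • m₂ = 0 := by
    rw [← Category.id_comp m₂, ← Linear.smul_comp]
    exact comp_distTriang_mor_zero₁₂ _ hT
  have h₂ : f ^ k • m₃ = 0 := by
    have h := comp_distTriang_mor_zero₃₁ _ hT
    change m₃ ≫ (f ^ k • 𝟙 P)⟦(1 : ℤ)⟧' = 0 at h
    rwa [Functor.map_smul, CategoryTheory.Functor.map_id, Linear.comp_smul, Category.comp_id] at h
  obtain ⟨ψ, hψ⟩ := Triangle.yoneda_exact₃ _ hT (f ^ k • 𝟙 C) (by
    change m₂ ≫ _ = 0
    rw [Linear.comp_smul, Category.comp_id, h₁])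
  refine ⟨k + k, ?_⟩
  rw [pow_add, mul_smul, hψ]
  change f ^ k • (m₃ ≫ ψ) = 0
  rw [← Linear.smul_comp, h₂, zero_comp]

theorem isPerfect_gen : DRing.IsPerfect A ((singleFunctor (ModuleCat.{u} A) 0).obj (ModuleCat.of A A)) :=
  ⟨(HomologicalComplex.single (ModuleCat.{u} A) (ComplexShape.up ℤ) 0).obj (ModuleCat.of A A), 0, 0,
    fun i hi => HomologicalComplex.isZero_single_obj_X _ _ _ _ (by omega), fun i => by
      by_cases h : i = 0
      · subst h
        have e := (HomologicalComplex.singleObjXSelf (ComplexShape.up ℤ) (0 : ℤ) (ModuleCat.of A A)).toLinearEquiv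
        exact ⟨Module.Finite.equiv e.symm, Module.Projective.of_equiv e.symm⟩
      · haveI := ModuleCat.subsingleton_of_isZero
          (HomologicalComplex.isZero_single_obj_X (ComplexShape.up ℤ) 0 (ModuleCat.of A A) i h)
        exact ⟨inferInstance, inferInstance⟩,
    ⟨((singleFunctorIsoCompQ (ModuleCat.{u} A) 0).app (ModuleCat.of A A)).symm⟩⟩

theorem isZero_of_homology (E : Dual.D A) (h : ∀ j, IsZero ((homologyFunctor (ModuleCat.{u} A) j).obj E)) :
    IsZero E := by
  obtain ⟨Z, hZ⟩ : ∃ Z : Dual.D A, IsZero Z := HasZeroObject.zero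
  have : IsIso (0 : Z ⟶ E) := (DerivedCategory.isIso_iff _ _).2 fun j =>
    ⟨0, ((homologyFunctor (ModuleCat.{u} A) j).map_isZero hZ).eq_of_src _ _, (h j).eq_of_src _ _⟩
  exact hZ.of_iso (asIso (0 : Z ⟶ E)).symm

/-- Perfect generators of the objects with cohomology supported at `V(fs)`. -/
theorem exists_nil_generator (fs : List A) : ∃ P : Dual.D A, DRing.IsPerfect A P ∧ (∀ f ∈ fs, Nil f P) ∧
    ∀ E : Dual.D A, (∀ f ∈ fs, IsTorsion f E) → (∀ (n : ℤ) (φ : P⟦n⟧ ⟶ E), φ = 0) → IsZero E := by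
  induction fs with
  | nil =>
    refine ⟨_, isPerfect_gen, fun f hf => absurd hf List.not_mem_nil, fun E _ h => ?_⟩
    refine isZero_of_homology E fun j => ?_
    haveI : Subsingleton ((homologyFunctor (ModuleCat.{u} A) j).obj E) := ⟨fun x y => by
      obtain ⟨φ, hφ⟩ := (DerTheta.thetaBij_of_projective (ModuleCat.of A A) j E).2
        (ModuleCat.ofHom (LinearMap.toSpanSingleton A _ (x - y)))
      obtain rfl : φ = 0 := by
        rw [← cancel_epi (((singleFunctors (ModuleCat.{u} A)).shiftIso (-j) j 0 (by omega)).app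
          (ModuleCat.of A A)).hom, comp_zero]
        exact h (-j) _
      have h1 := LinearMap.congr_fun (congrArg ModuleCat.Hom.hom (SiteDer.theta_zero.symm.trans hφ)) (1 : A)
      exact sub_eq_zero.1 (by simpa using h1.symm)⟩
    exact ModuleCat.isZero_of_subsingleton _
  | cons f fs ih =>
    obtain ⟨P, hP, hnil, hgen⟩ := ih
    obtain ⟨C, m₂, m₃, hT⟩ := distinguished_cocone_triangle (f • 𝟙 P)
    refine ⟨C, (isPerfect_triangle _ hT).1 hP hP, fun g hg => ?_, fun E hE h => hgen E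
      (fun g hg => hE g (List.mem_cons_of_mem _ hg)) fun n φ =>
        TriCat.eq_zero_of_cone_torsion hT (torsionHom_of_isPerfect (hE f List.mem_cons_self) hP) h n φ⟩
    rcases List.mem_cons.1 hg with rfl | hg
    · exact nil_cone_self ⟨1, (pow_one g).symm⟩ hT
    · exact nil_cone_of_nil hT (hnil g hg) (hnil g hg)

/-- Maps from perfect objects to torsion objects factor through perfect torsion objects. -/
theorem exists_factor_nil (fs : List A) {C : Dual.D A} (hC : ∀ f ∈ fs, IsTorsion f C) {R₀ : Dual.D A}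
    (hR : DRing.IsPerfect A R₀) (φ : R₀ ⟶ C) : ∃ (R₁ : Dual.D A) (q : R₀ ⟶ R₁) (ψ : R₁ ⟶ C),
      DRing.IsPerfect A R₁ ∧ (∀ f ∈ fs, Nil f R₁) ∧ φ = q ≫ ψ ∧ ∀ g, Nil g R₀ → Nil g R₁ := by
  induction fs with
  | nil => exact ⟨R₀, 𝟙 _, φ, hR, fun f hf => absurd hf List.not_mem_nil, (Category.id_comp φ).symm, fun _ h => h⟩
  | cons f fs ih =>
    obtain ⟨R₁, q, ψ, hR₁, hnil, hφ, hkeep⟩ := ih fun g hg => hC g (List.mem_cons_of_mem _ hg)
    obtain ⟨k, hk⟩ := TriCat.torsion_of_iso ((shiftFunctorZero (Dual.D A) ℤ).app R₁)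
      (torsionHom_of_isPerfect (hC f List.mem_cons_self) hR₁ 0) ψ
    obtain ⟨R₂, m₂, m₃, hT⟩ := distinguished_cocone_triangle (f ^ k • 𝟙 R₁)
    obtain ⟨χ, hχ⟩ := TriCat.exists_factor_cone hT (g := f ^ k) ψ (Iso.refl R₁) rfl hk
    refine ⟨R₂, q ≫ m₂, χ, (isPerfect_triangle _ hT).1 hR₁ hR₁, fun g hg => ?_,
      by rw [hφ, hχ]; exact (Category.assoc _ _ _).symm, fun g hg => nil_cone_of_nil hT (hkeep g hg) (hkeep g hg)⟩
    rcases List.mem_cons.1 hg with rfl | hg
    · exact nil_cone_self ⟨k, rfl⟩ hT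
    · exact nil_cone_of_nil hT (hnil g hg) (hnil g hg)

end GrothLib.DR
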