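import Groth.Agent.Lib.DCxRing.Homology
import Mathlib.Algebra.Homology.ShortComplex.ExactFunctor
import Mathlib.RingTheory.RingHom.Flat

/-!
# Exact functors, flat base change and pseudo-coherence
-/

universe u

open CategoryTheory Limits HomologicalComplex CochainComplex

attribute [local instance] HasDerivedCategory.standard

namespace GrothLib.DR

variable {A B : Type u} [CommRing A] [CommRing B]

lemma preservesFiniteLimits_extendScalars (φ : A →+* B) (hφ : φ.Flat) :
    PreservesFiniteLimits (ModuleCat.extendScalars.{u, u, u} φ) := by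
  haveI : (ModuleCat.extendScalars.{u, u, u} φ).PreservesHomology :=
    Functor.preservesHomology_of_map_exact _ fun S hS => by
      rw [ShortComplex.ShortExact.moduleCat_exact_iff_function_exact] at hS ⊢
      letI := φ.toAlgebra
      haveI : Module.Flat A B := hφ
      exact Module.Flat.lTensor_exact (R := A) B hS
  exact Functor.preservesFiniteLimits_of_preservesHomology _

lemma flat_algebraMap [Algebra A B] [Module.Flat A B] : (algebraMap A B).Flat :=
  RingHom.flat_algebraMap_iff.2 inferInstance

variable (F : ModuleCat.{u} A ⥤ ModuleCat.{u} B) [F.Additive] [PreservesFiniteLimits F]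
  [PreservesFiniteColimits F]

/-- Homology commutes with exact functors. -/
noncomputable def mapHomologyIso (P : DRing.Cx A) (i : ℤ) :
    ((F.mapHomologicalComplex (ComplexShape.up ℤ)).obj P).homology i ≅ F.obj (P.homology i) :=
  (P.sc i).mapHomologyIso F

lemma exactAt_map_exact {P : DRing.Cx A} {i : ℤ} (h : P.ExactAt i) :
    ((F.mapHomologicalComplex (ComplexShape.up ℤ)).obj P).ExactAt i := by
  rw [exactAt_iff_isZero_homology] at h ⊢
  exact (F.map_isZero h).of_iso (mapHomologyIso F P i)

/-- Exact functors respect isomorphisms in the derived category. -/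
noncomputable def toDMapCongr {P Q : DRing.Cx A} (e : DRing.toD P ≅ DRing.toD Q) :
    DRing.toD ((F.mapHomologicalComplex (ComplexShape.up ℤ)).obj P) ≅
      DRing.toD ((F.mapHomologicalComplex (ComplexShape.up ℤ)).obj Q) :=
  (F.mapDerivedCategoryFactors.app P).symm ≪≫ F.mapDerivedCategory.mapIso e ≪≫
    F.mapDerivedCategoryFactors.app Q

omit [PreservesFiniteLimits F] [PreservesFiniteColimits F] in
lemma vanishesOutside_map {P : DRing.Cx A} {a b : ℤ} (h : DRing.VanishesOutside P a b) :
    DRing.VanishesOutside ((F.mapHomologicalComplex (ComplexShape.up ℤ)).obj P) a b :=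
  fun i hi => F.map_isZero (h i hi)

/-- Exact functors preserving finite free modules preserve pseudo-coherence. -/
theorem isPseudoCoherent_map
    (hF : ∀ M : ModuleCat.{u} A, Module.Finite A M → Module.Free A M →
      Module.Finite B (F.obj M) ∧ Module.Free B (F.obj M))
    {P : DRing.Cx A} {m : ℤ} (h : DRing.IsPseudoCoherent A m (DRing.toD P)) :
    DRing.IsPseudoCoherent B m (DRing.toD ((F.mapHomologicalComplex (ComplexShape.up ℤ)).obj P)) := by
  obtain ⟨E, a, b, f, hv, hf, hex⟩ := exists_cone_of_isPseudoCoherent h
  exact isPseudoCoherent_of_cone ((F.mapHomologicalComplex (ComplexShape.up ℤ)).map f)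
    (vanishesOutside_map F hv) (fun i => hF (E.X i) (hf i).1 (hf i).2) fun i hi =>
      (exactAt_map_exact F (hex i hi)).of_iso (mappingCone.mapHomologicalComplexIso f F)

omit [PreservesFiniteLimits F] [PreservesFiniteColimits F] in
/-- An additive functor applied to a module placed in degree `0`. -/
theorem nonempty_map_inD (M : Type u) [AddCommGroup M] [Module A M] :
    Nonempty (DRing.toD ((F.mapHomologicalComplex (ComplexShape.up ℤ)).obj
      ((HomologicalComplex.single (ModuleCat.{u} A) (ComplexShape.up ℤ) 0).obj (ModuleCat.of A M))) ≅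
        (DerivedCategory.singleFunctor (ModuleCat.{u} B) 0).obj (F.obj (ModuleCat.of A M))) :=
  ⟨DerivedCategory.Q.mapIso ((singleMapHomologicalComplex F (ComplexShape.up ℤ) 0).app _) ≪≫
    (((SingleFunctors.evaluation _ _ 0).mapIso
      (DerivedCategory.singleFunctorsPostcompQIso (ModuleCat.{u} B))).app _).symm⟩

lemma nonempty_extendScalars_aux (inst : Algebra A B) (φ : A →+* B) (h : inst = φ.toAlgebra)
    (M : Type u) [AddCommGroup M] [Module A M] :
    Nonempty (ModuleCat.of B (TensorProduct A B M) ≅
      (ModuleCat.extendScalars.{u, u, u} φ).obj (ModuleCat.of A M)) := by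
  subst h
  exact ⟨Iso.refl _⟩

/-- Extension of scalars is the tensor product. -/
theorem nonempty_extendScalars_iso [Algebra A B] (M : Type u) [AddCommGroup M] [Module A M] :
    Nonempty (ModuleCat.of B (TensorProduct A B M) ≅
      (ModuleCat.extendScalars.{u, u, u} (algebraMap A B)).obj (ModuleCat.of A M)) :=
  nonempty_extendScalars_aux ‹Algebra A B› _ (Algebra.algebra_ext _ _ fun _ => rfl) M

end GrothLib.DR
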