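import Groth.Agent.Lib.DCxRing.Splitting
import Mathlib.CategoryTheory.Limits.ConcreteCategory.Basic
import Mathlib.Algebra.Category.ModuleCat.FilteredColimits
import Mathlib.CategoryTheory.Filtered.Basic

/-!
# Morphisms to filtered colimits of modules placed in one degree
-/

set_option autoImplicit false
universe u

open CategoryTheory CategoryTheory.Limits HomologicalComplex CochainComplex Pretriangulated

attribute [local instance] HasDerivedCategory.standard

namespace GrothLib.DR

variable {A : Type u} [CommRing A] {J : Type u} [SmallCategory J] [IsFiltered J]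
  {F : J ⥤ ModuleCat.{u} A} {c : Cocone F} (hc : IsColimit c)

include hc in
/-- A map from a finite free module to a filtered colimit factors. -/
theorem exists_lift_colimit (M : Type u) [AddCommGroup M] [Module A M] [Module.Finite A M] [Module.Free A M]
    (g : M →ₗ[A] c.pt) : ∃ (j : J) (g₀ : M →ₗ[A] F.obj j), (c.ι.app j).hom.comp g₀ = g := by
  classical
  let b := Module.Free.chooseBasis A M
  choose jb xb hxb using fun i => Concrete.isColimit_exists_rep F hc (g (b i))
  obtain ⟨j, hj⟩ := IsFiltered.sup_objs_exists (Finset.univ.image jb)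
  let f : ∀ i, jb i ⟶ j := fun i => (hj (Finset.mem_image_of_mem _ (Finset.mem_univ i))).some
  refine ⟨j, b.constr A fun i => (F.map (f i)).hom (xb i), b.ext fun i => ?_⟩
  rw [LinearMap.comp_apply, b.constr_basis]
  exact (ConcreteCategory.congr_hom (c.w (f i)) (xb i)).trans (hxb i)

include hc in
/-- A map from a finite module vanishing in a filtered colimit vanishes at some stage. -/
theorem exists_zero_colimit (M : Type u) [AddCommGroup M] [Module A M] [Module.Finite A M] {j : J}
    (g₀ : M →ₗ[A] F.obj j) (h : (c.ι.app j).hom.comp g₀ = 0) :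
    ∃ (j' : J) (f : j ⟶ j'), (F.map f).hom.comp g₀ = 0 := by
  classical
  obtain ⟨s, hs⟩ := (Module.Finite.fg_top : (⊤ : Submodule A M).FG)
  suffices h' : ∀ t : Finset M, ∃ (j' : J) (f : j ⟶ j'), ∀ x ∈ t, (F.map f).hom (g₀ x) = 0 by
    obtain ⟨j', f, hf⟩ := h' s
    exact ⟨j', f, LinearMap.ext_on hs fun x hx => hf x hx⟩
  intro t
  induction t using Finset.induction_on with
  | empty => exact ⟨j, 𝟙 j, fun x hx => absurd hx (Finset.notMem_empty x)⟩
  | insert a t _ ih =>
    obtain ⟨j₁, f₁, h₁⟩ := ih
    have h0 : c.ι.app j (g₀ a) = c.ι.app j 0 := by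
      rw [map_zero]
      exact LinearMap.congr_fun h a
    obtain ⟨k, fa, ga, hk⟩ := (Concrete.isColimit_rep_eq_iff_exists (F := F) hc (g₀ a) 0).1 h0
    obtain ⟨l, p, q, hpq⟩ := IsFilteredOrEmpty.cocone_objs j₁ k |>.elim fun l hl => hl.elim fun p hl => hl.elim
      fun q _ => (⟨IsFiltered.coeq (f₁ ≫ p) (fa ≫ q), p ≫ IsFiltered.coeqHom _ _, q ≫ IsFiltered.coeqHom _ _,
        by simpa using IsFiltered.coeq_condition (f₁ ≫ p) (fa ≫ q)⟩ :
          ∃ (l : J) (p : j₁ ⟶ l) (q : k ⟶ l), f₁ ≫ p = fa ≫ q)
    refine ⟨l, f₁ ≫ p, fun x hx => ?_⟩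
    rcases Finset.mem_insert.1 hx with rfl | hx
    · rw [hpq, Functor.map_comp]
      show (F.map q).hom ((F.map fa).hom (g₀ x)) = 0
      rw [show (F.map fa).hom (g₀ x) = 0 from hk.trans (map_zero _), map_zero]
    · rw [Functor.map_comp]
      show (F.map p).hom ((F.map f₁).hom (g₀ x)) = 0
      rw [h₁ x hx, map_zero]

omit [IsFiltered J] in
/-- Functoriality of the map to a single complex. -/
theorem toSingleD_comp (C : DRing.Cx A) (n : ℤ) {M N : Type u} [AddCommGroup M] [Module A M] [AddCommGroup N]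
    [Module A N] (u : M →ₗ[A] N) (g : C.X n →ₗ[A] M) (hg : ∀ x, g ((C.d (n - 1) n).hom x) = 0) :
    toSingleD C n g hg ≫ (CategoryTheory.shiftFunctor (Dual.D A) (-n)).map
        ((DerivedCategory.singleFunctor (ModuleCat.{u} A) 0).map (ModuleCat.ofHom u)) =
      toSingleD C n (u.comp g) (fun x => by rw [LinearMap.comp_apply, hg, map_zero]) := by
  let ι : HomologicalComplex.single (ModuleCat.{u} A) (ComplexShape.up ℤ) n ⋙ DerivedCategory.Q ≅
      DerivedCategory.singleFunctor (ModuleCat.{u} A) 0 ⋙ CategoryTheory.shiftFunctor (Dual.D A) (-n) :=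
    ((SingleFunctors.evaluation _ _ n).mapIso
      (DerivedCategory.singleFunctorsPostcompQIso (ModuleCat.{u} A))).symm ≪≫
      ((DerivedCategory.singleFunctors (ModuleCat.{u} A)).shiftIso (-n) n 0 (by omega)).symm
  have hn : DerivedCategory.Q.map ((HomologicalComplex.single (ModuleCat.{u} A) (ComplexShape.up ℤ) n).map
      (ModuleCat.ofHom u)) ≫ (toDSingleIso n (ModuleCat.of A N)).hom =
        (toDSingleIso n (ModuleCat.of A M)).hom ≫ (CategoryTheory.shiftFunctor (Dual.D A) (-n)).map
          ((DerivedCategory.singleFunctor (ModuleCat.{u} A) 0).map (ModuleCat.ofHom u)) :=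
    ι.hom.naturality (ModuleCat.ofHom u)
  rw [toSingleD, Category.assoc, ← hn, ← Category.assoc, ← Functor.map_comp, toSingleD]
  congr 2
  refine to_single_hom_ext ?_
  simp only [HomologicalComplex.comp_f, toSingleMap, mkHomToSingle_f, single_map_f_self]
  simp only [Category.assoc, Iso.inv_hom_id_assoc]
  rw [← Category.assoc, ← ModuleCat.ofHom_comp]

omit [IsFiltered J] in
/-- Morphisms from a K-projective complex to a module in degree `n` come from cocycles. -/
theorem exists_toSingleD (P : DRing.Cx A) [P.IsKProjective] (n : ℤ) {M : Type u} [AddCommGroup M] [Module A M]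
    (ξ : DRing.toD P ⟶ (Dual.inD A M)⟦-n⟧) : ∃ g hg, toSingleD P n g hg = ξ := by
  let S := (HomologicalComplex.single (ModuleCat.{u} A) (ComplexShape.up ℤ) n).obj (ModuleCat.of A M)
  let η := singleObjXSelf (ComplexShape.up ℤ) n (ModuleCat.of A M)
  obtain ⟨φ, hφ⟩ := exists_lift P (ξ ≫ (toDSingleIso n (ModuleCat.of A M)).inv)
  have hz : P.d (n - 1) n ≫ φ.f n = 0 := by
    rw [← φ.comm, show S.d (n - 1) n = 0 from (isZero_single_obj_X _ _ _ _ (by omega)).eq_of_src _ _, comp_zero]
  refine ⟨(φ.f n ≫ η.hom).hom, fun x => ?_, ?_⟩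
  · simpa using ConcreteCategory.congr_hom (congrArg (· ≫ η.hom) hz) x
  · have : toSingleMap P n (φ.f n ≫ η.hom).hom (fun x => by
        simpa using ConcreteCategory.congr_hom (congrArg (· ≫ η.hom) hz) x) = φ := by
      refine to_single_hom_ext ?_
      simp [toSingleMap, mkHomToSingle_f, η]
    rw [toSingleD, this, hφ, Category.assoc, Iso.inv_hom_id, Category.comp_id]

omit [IsFiltered J] in
/-- A coboundary gives the zero morphism. -/
theorem toSingleD_eq_zero_iff (P : DRing.Cx A) [P.IsKProjective] (n : ℤ) {M : Type u} [AddCommGroup M]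
    [Module A M] (g : P.X n →ₗ[A] M) (hg : ∀ x, g ((P.d (n - 1) n).hom x) = 0) :
    toSingleD P n g hg = 0 ↔ ∃ h : P.X (n + 1) →ₗ[A] M, ∀ x, h ((P.d n (n + 1)).hom x) = g x := by
  let S := (HomologicalComplex.single (ModuleCat.{u} A) (ComplexShape.up ℤ) n).obj (ModuleCat.of A M)
  let η := singleObjXSelf (ComplexShape.up ℤ) n (ModuleCat.of A M)
  have hf : (toSingleMap P n g hg).f n = ModuleCat.ofHom g ≫ η.inv := mkHomToSingle_f _ _
  constructor
  · intro h0
    have h1 : DerivedCategory.Q.map (toSingleMap P n g hg) = DerivedCategory.Q.map 0 := by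
      rw [Functor.map_zero, ← cancel_mono (toDSingleIso n (ModuleCat.of A M)).hom, zero_comp]
      exact h0
    obtain ⟨hh⟩ := (map_eq_iff P _ _).1 h1
    have hcm := hh.comm n
    rw [dNext_eq _ (show (ComplexShape.up ℤ).Rel n (n + 1) from rfl),
      prevD_eq _ (show (ComplexShape.up ℤ).Rel (n - 1) n from by simp),
      show S.d (n - 1) n = 0 from (isZero_single_obj_X _ _ _ _ (by omega)).eq_of_src _ _,
      comp_zero, add_zero, zero_f, add_zero, hf] at hcm
    refine ⟨(hh.hom (n + 1) n ≫ η.hom).hom, fun x => ?_⟩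
    have hc' := congrArg (· ≫ η.hom) hcm
    simp only [Category.assoc, Iso.inv_hom_id, Category.comp_id] at hc'
    exact (ConcreteCategory.congr_hom hc' x).symm
  · rintro ⟨k, hk⟩
    let hom : ∀ i j, (ComplexShape.up ℤ).Rel j i → (P.X i ⟶ S.X j) := fun i j hji =>
      if hj : j = n then
        eqToHom (congrArg P.X (show i = n + 1 by simp only [ComplexShape.up_Rel] at hji; omega)) ≫
          ModuleCat.ofHom k ≫ η.inv ≫ eqToHom (congrArg S.X hj.symm)
      else 0
    have hnull : toSingleMap P n g hg = Homotopy.nullHomotopicMap' hom := by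
      refine to_single_hom_ext ?_
      rw [Homotopy.nullHomotopicMap'_f (show (ComplexShape.up ℤ).Rel (n - 1) n from by simp)
        (show (ComplexShape.up ℤ).Rel n (n + 1) from rfl),
        show S.d (n - 1) n = 0 from (isZero_single_obj_X _ _ _ _ (by omega)).eq_of_src _ _,
        comp_zero, add_zero, hf]
      simp only [hom, dif_pos, eqToHom_refl, Category.id_comp, Category.comp_id]
      rw [← cancel_mono η.hom]
      simp only [Category.assoc, Iso.inv_hom_id, Category.comp_id]
      exact ModuleCat.hom_ext (LinearMap.ext fun x => (hk x).symm)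
    rw [toSingleD, hnull, DerivedCategory.Q_map_eq_of_homotopy _ (Homotopy.nullHomotopy' hom), Functor.map_zero,
      zero_comp]

end GrothLib.DR
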