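import Groth.Agent.Lib.DCxRing.Amplitude
import Groth.Agent.Lib.DCxRing.Devissage
import Mathlib.RingTheory.Flat.EquationalCriterion

/-!
# Perfect objects of `D(A)`
-/

universe u

open CategoryTheory Limits HomologicalComplex CochainComplex Pretriangulated

attribute [local instance] HasDerivedCategory.standard

namespace GrothLib.DR

variable {A : Type u} [CommRing A]

lemma isPseudoCoherentModule_finite_free (M : Type u) [AddCommGroup M] [Module A M] [Module.Finite A M]
    [Module.Free A M] (m : ℤ) : DRing.IsPseudoCoherentModule A m M := by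
  refine ⟨(HomologicalComplex.single (ModuleCat.{u} A) (ComplexShape.up ℤ) 0).obj (ModuleCat.of A M), 0, 0,
    (((SingleFunctors.evaluation _ _ 0).mapIso
      (DerivedCategory.singleFunctorsPostcompQIso (ModuleCat.{u} A))).app (ModuleCat.of A M)).inv,
    fun i hi => isZero_single_obj_X _ _ _ _ (by omega), fun i => ?_,
    fun i _ => inferInstance, inferInstance⟩
  by_cases h : i = 0
  · subst h
    let e := (singleObjXSelf (ComplexShape.up ℤ) 0 (ModuleCat.of A M)).toLinearEquiv.symm
    exact ⟨Module.Finite.equiv e, Module.Free.of_equiv e⟩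
  · haveI := ModuleCat.subsingleton_of_isZero
      (isZero_single_obj_X (ComplexShape.up ℤ) 0 (ModuleCat.of A M) i h)
    exact ⟨inferInstance, inferInstance⟩

/-- Finite projective modules are pseudo-coherent. -/
theorem isPseudoCoherentModule_finiteProjective (M : Type u) [AddCommGroup M] [Module A M]
    [Module.Finite A M] [Module.Projective A M] (m : ℤ) : DRing.IsPseudoCoherentModule A m M := by
  obtain ⟨k, hk⟩ : ∃ k : ℕ, 1 ≤ m + k := ⟨(1 - m).toNat, by omega⟩
  induction k generalizing m M with
  | zero =>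
    exact isPseudoCoherent_of_vanishing _ m fun i hi => subsingleton_HD_inD M i (by omega)
  | succ k ih =>
    obtain ⟨r, π, hπ⟩ := Module.Finite.exists_fin' A M
    obtain ⟨s, hs⟩ := Module.projective_lifting_property π LinearMap.id hπ
    let S := ShortComplex.mk (ModuleCat.ofHom (LinearMap.ker π).subtype) (ModuleCat.ofHom π)
      (by ext x; exact x.2)
    have hS : S.ShortExact :=
      { exact := (ShortComplex.ShortExact.moduleCat_exact_iff_function_exact _).2 (LinearMap.exact_subtype_ker_map π)
        mono_f := (ModuleCat.mono_iff_injective _).2 Subtype.val_injective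
        epi_g := (ModuleCat.epi_iff_surjective _).2 hπ }
    let p : (Fin r → A) →ₗ[A] LinearMap.ker π := (LinearMap.id - s.comp π).codRestrict _ fun x => by
      rw [LinearMap.mem_ker]
      show π (x - s (π x)) = 0
      rw [map_sub, sub_eq_zero]
      exact (congrArg (fun g : M →ₗ[A] M => g (π x)) hs).symm
    have hp : p.comp (LinearMap.ker π).subtype = LinearMap.id := by
      ext x : 2
      simp [p, show π (x : Fin r → A) = 0 from x.2]
    haveI : Module.Finite A (LinearMap.ker π) :=
      Module.Finite.of_surjective p fun x => ⟨x, congrArg (· x) hp⟩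
    haveI : Module.Projective A (LinearMap.ker π) := Module.Projective.of_split _ p hp
    exact (DerBC.isPseudoCoherent_triangle _ hS.singleTriangle_distinguished m).1
      (ih (LinearMap.ker π) (m + 1) (by push_cast at hk; omega))
      (isPseudoCoherentModule_finite_free (Fin r → A) m)

/-- Bounded above complexes of finite projective modules are pseudo-coherent. -/
theorem isPseudoCoherent_of_finiteProjective {E : DRing.Cx A} {b : ℤ} (hb : DRing.VanishesAbove E b)
    (hE : DRing.TermwiseFiniteProjective E) (m : ℤ) : DRing.IsPseudoCoherent A m (DRing.toD E) :=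
  isPseudoCoherent_of_termwise hb fun i _ _ => by
    haveI := (hE i).1
    haveI := (hE i).2
    exact isPseudoCoherentModule_finiteProjective (E.X i) (m - i)

/-- Bounded complexes of finite projective modules have tor amplitude. -/
theorem hasTorAmplitudeIn_of_finiteProjective {E : DRing.Cx A} {a b : ℤ}
    (hv : DRing.VanishesOutside E a b) (hE : DRing.TermwiseFiniteProjective E) :
    DRing.HasTorAmplitudeIn A a b (DRing.toD E) :=
  ⟨E, hv, termwiseFlat_of_projective fun i => (hE i).2, ⟨Iso.refl _⟩⟩

/-- Pseudo-coherence and tor amplitude give a finite projective representative. -/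
theorem exists_finiteProjective {K : Dual.D A} {m n : ℤ} (hmn : m ≤ n)
    (hK : DRing.IsPseudoCoherent A (m - 1) K) (hT : DRing.HasTorAmplitudeIn A m n K) :
    ∃ E : DRing.Cx A, DRing.VanishesOutside E m n ∧ DRing.TermwiseFiniteProjective E ∧
      Nonempty (DRing.toD E ≅ K) := by
  obtain ⟨P, hP, hPp, ⟨eP⟩⟩ := exists_rep hT
  have hPf := termwiseFlat_of_projective hPp
  obtain ⟨a⟩ := exists_approx hP (n + 2 - m).toNat fun k hk _ => canStep_of_isPseudoCoherent
    (isPseudoCoherent_mono (show m - 1 ≤ k - 1 by omega) (DerBC.isPseudoCoherent_of_iso eP.symm hK))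
  have hTP := hasTorAmplitudeIn_of_iso eP.symm hT
  haveI : P.IsGE m := by
    rw [CochainComplex.isGE_iff]
    exact fun i hi => (exactAt_iff P i).2 (subsingleton_HD_of_amplitude hTP i (Or.inl hi))
  let E' := a.E.truncGE m
  let Q := P.truncGE m
  let g : E' ⟶ Q := truncGEMap a.f m
  haveI : QuasiIso g := by
    rw [CochainComplex.quasiIso_truncGEMap_iff]
    intro i hi
    have h1 : IsIso ((DerivedCategory.homologyFunctor (ModuleCat.{u} A) i).map
        (DerivedCategory.Q.map a.f)) :=
      ((cone_exact_iff a.f (m - 1)).1 fun j hj => a.exact j (by omega)).1 i (by omega)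
    rw [quasiIsoAt_iff_isIso_homologyMap]
    exact ((MorphismProperty.isomorphisms (ModuleCat.{u} A)).arrow_mk_iso_iff
      (Arrow.isoMk ((DerivedCategory.homologyFunctorFactors _ i).app _)
        ((DerivedCategory.homologyFunctorFactors _ i).app _)
        (DerivedCategory.homologyFunctorFactors_hom_naturality a.f i).symm)).1 h1
  have top : ∀ (R : DRing.Cx A), Nonempty ((R.truncGE m).X m ≅
      ModuleCat.of A (R.X m ⧸ LinearMap.range (R.d (m - 1) m).hom)) := fun R =>
    ⟨R.truncGEXIsoOpcycles m ≪≫
      ShortComplex.opcyclesMapIso (R.isoSc' (m - 1) m (m + 1) (by simp) (by simp)) ≪≫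
        (R.sc' (m - 1) m (m + 1)).moduleCatOpcyclesIso⟩
  have hQf : DRing.TermwiseFlat Q := fun i => by
    rcases lt_trichotomy i m with hi | rfl | hi
    · haveI := ModuleCat.subsingleton_of_isZero (Q.isZero_of_isStrictlyGE m i hi)
      infer_instance
    · haveI := hPf i
      haveI := flat_quotient_range (P.d (i - 1 - 1) (i - 1)).hom (P.d (i - 1) i).hom fun M _ _ => by
        have := (hasTorAmplitudeIn_iff hP hPf i n).1 hTP M (i - 1) (Or.inl (by omega))
        unfold TExact at this
        rwa [show i - 1 + 1 = i by omega] at this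
      obtain ⟨e⟩ := top P
      exact Module.Flat.of_linearEquiv e.toLinearEquiv
    · haveI := hPf i
      exact Module.Flat.of_linearEquiv (P.truncGEXIso m i hi).toLinearEquiv
  have hQv : ∀ i, n < i → IsZero (Q.X i) := fun i hi =>
    (hP i hi).of_iso (P.truncGEXIso m i (by omega))
  have hE'v : DRing.VanishesOutside E' m n := fun i hi => by
    rcases hi with hi | hi
    · exact E'.isZero_of_isStrictlyGE m i hi
    · exact (a.vanish i (Or.inr hi)).of_iso (a.E.truncGEXIso m i (by omega))
  have hE'f : ∀ i, m < i → Module.Finite A (E'.X i) ∧ Module.Free A (E'.X i) := fun i hi => by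
    let e := (a.E.truncGEXIso m i hi).toLinearEquiv.symm
    haveI := (a.free i).1
    haveI := (a.free i).2
    exact ⟨Module.Finite.equiv e, Module.Free.of_equiv e⟩
  -- the bottom term
  have hfp : Module.FinitePresentation A (E'.X m) := by
    obtain ⟨e⟩ := top a.E
    haveI := (a.free m).1
    haveI := projective_of_finiteFree a.free m
    haveI := (a.free (m - 1)).1
    haveI := Module.finitePresentation_of_projective A (a.E.X m)
    haveI : Module.FinitePresentation A (a.E.X m ⧸ LinearMap.range (a.E.d (m - 1) m).hom) :=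
      Module.finitePresentation_of_surjective (LinearMap.range (a.E.d (m - 1) m).hom).mkQ
        (Submodule.mkQ_surjective _) ((Submodule.ker_mkQ (LinearMap.range (a.E.d (m - 1) m).hom)).symm ▸
          Submodule.fg_range (a.E.d (m - 1) m).hom)
    exact Module.FinitePresentation.of_equiv e.toLinearEquiv.symm
  let C := mappingCone g
  have hCex : ∀ i, C.ExactAt i := exactAt_cone_of_quasiIso g inferInstance
  have hCb : DRing.VanishesAbove C n := fun i hi =>
    isZero_cone_X g (hE'v (i + 1) (Or.inr (by omega))) (hQv i hi)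
  have hCf : ∀ i, m ≤ i → Module.Flat A (C.X i) := fun i hi => by
    let e : (E'.X (i + 1) × Q.X i) ≃ₗ[A] C.X i :=
      ((homotopyCofiber.XIsoBiprod g i (i + 1) (by simp)) ≪≫
        ModuleCat.biprodIsoProd _ _).toLinearEquiv.symm
    haveI := hQf i
    haveI : Module.Free A (E'.X (i + 1)) := (hE'f (i + 1) (by omega)).2
    haveI : Module.Flat A (E'.X (i + 1) × Q.X i) :=
      FlatCx.flat_of_exact_mid (g := LinearMap.inl A _ _) (f := LinearMap.snd A _ _)
        LinearMap.inl_injective LinearMap.snd_surjective Function.Exact.inl_snd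
    exact Module.Flat.of_linearEquiv e.symm
  haveI hker := flat_ker_of_exact C n hCb m hCf (fun i _ => hCex i) m le_rfl
  have hz : IsZero (C.X (m - 1 - 1)) :=
    isZero_cone_X g (hE'v _ (Or.inl (by omega))) (Q.isZero_of_isStrictlyGE m _ (by omega))
  have hE := (function_exact_d C (m - 1) m (m + 1) (by omega) rfl).1 (hCex m)
  haveI : Module.Flat A (C.X (m - 1)) := by
    refine Module.Flat.of_linearEquiv (LinearEquiv.ofBijective
      ((C.d (m - 1) m).hom.codRestrict (LinearMap.ker (C.d m (m + 1)).hom) fun x => (hE _).2 ⟨x, rfl⟩)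
      ⟨?_, fun y => ?_⟩)
    · refine (injective_iff_map_eq_zero _).2 fun x hx => ?_
      obtain ⟨y, rfl⟩ := ((function_exact_d C (m - 1 - 1) (m - 1) m (by omega) (by omega)).1
        (hCex (m - 1)) x).1 (congrArg Subtype.val hx)
      haveI := ModuleCat.subsingleton_of_isZero hz
      rw [Subsingleton.elim y 0, map_zero]
    · obtain ⟨x, hx⟩ := (hE y.1).1 y.2
      exact ⟨x, Subtype.ext hx⟩
  haveI : Module.Flat A (E'.X m) :=
    Module.Flat.of_retract ((mappingCone.inl g).v m (m - 1) (by omega)).hom
      ((mappingCone.fst g).1.v (m - 1) m (by omega)).hom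
      (congrArg ModuleCat.Hom.hom (mappingCone.inl_v_fst_v g m (m - 1) (by omega)))
  refine ⟨E', hE'v, fun i => ?_, ⟨asIso (DerivedCategory.Q.map g) ≪≫
    (haveI := (P.quasiIso_πTruncGE_iff m).2 inferInstance
     (asIso (DerivedCategory.Q.map (P.πTruncGE m))).symm) ≪≫ eP⟩⟩
  rcases lt_trichotomy i m with hi | rfl | hi
  · haveI := ModuleCat.subsingleton_of_isZero (hE'v i (Or.inl hi))
    exact ⟨inferInstance, inferInstance⟩
  · haveI := hfp
    exact ⟨inferInstance, Module.Flat.projective_of_finitePresentation⟩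
  · haveI := (hE'f i hi).2
    exact ⟨(hE'f i hi).1, Module.Projective.of_free⟩

/-- Perfect objects are the pseudo-coherent objects of finite tor dimension. -/
theorem isPerfect_iff {K : Dual.D A} :
    DRing.IsPerfect A K ↔ DRing.IsPseudoCoherent' A K ∧ DRing.HasFiniteTorDimCx A K := by
  constructor
  · rintro ⟨E, a, b, hv, hE, ⟨e⟩⟩
    exact ⟨isPseudoCoherent'_of_forall fun m => DerBC.isPseudoCoherent_of_iso e
      (isPseudoCoherent_of_finiteProjective (fun i hi => hv i (Or.inr hi)) hE m),
      a, b, hasTorAmplitudeIn_of_iso e (hasTorAmplitudeIn_of_finiteProjective hv hE)⟩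
  · rintro ⟨hK, a, b, hT⟩
    obtain ⟨E, hv, hE, e⟩ := exists_finiteProjective (le_max_left a b)
      (isPseudoCoherent_of_prime hK (a - 1)) (hasTorAmplitudeIn_mono le_rfl (le_max_right a b) hT)
    exact ⟨E, a, max a b, hv, hE, e⟩

lemma isPerfect_of_iso {K L : Dual.D A} (e : K ≅ L) (h : DRing.IsPerfect A K) : DRing.IsPerfect A L :=
  let ⟨E, a, b, hv, hf, ⟨e'⟩⟩ := h
  ⟨E, a, b, hv, hf, ⟨e' ≪≫ e⟩⟩

theorem isPerfect_of_isZero {K : Dual.D A} (h : IsZero K) : DRing.IsPerfect A K :=
  isPerfect_iff.2 ⟨isPseudoCoherent'_of_forall fun m => isPseudoCoherent_of_vanishing K m fun i _ =>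
    subsingleton_HD_of_isZero h i, 0, 0, hasTorAmplitudeIn_of_isZero h 0 0⟩

theorem isPerfect_shift {K : Dual.D A} (h : DRing.IsPerfect A K) (n : ℤ) :
    DRing.IsPerfect A (K⟦n⟧) := by
  obtain ⟨hK, a, b, hT⟩ := isPerfect_iff.1 h
  exact isPerfect_iff.2 ⟨isPseudoCoherent'_shift hK n, a - n, b - n,
    hasTorAmplitudeIn_shift hT n _ _ (by omega) (by omega)⟩

/-- Two out of three for perfect objects. -/
theorem isPerfect_triangle (T : Triangle (Dual.D A)) (hT : T ∈ distTriang _) :
    (DRing.IsPerfect A T.obj₁ → DRing.IsPerfect A T.obj₂ → DRing.IsPerfect A T.obj₃) ∧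
      (DRing.IsPerfect A T.obj₁ → DRing.IsPerfect A T.obj₃ → DRing.IsPerfect A T.obj₂) ∧
      (DRing.IsPerfect A T.obj₂ → DRing.IsPerfect A T.obj₃ → DRing.IsPerfect A T.obj₁) := by
  obtain ⟨p₃, p₂, p₁⟩ := isPseudoCoherent'_triangle T hT
  simp only [isPerfect_iff]
  refine ⟨?_, ?_, ?_⟩
  · rintro ⟨k₁, a, b, h₁⟩ ⟨k₂, c, d, h₂⟩
    exact ⟨p₃ k₁ k₂, min (a - 1) c, max (b - 1) d, hasTorAmplitudeIn_obj₃ T hT
      (hasTorAmplitudeIn_mono (by omega) (by omega) h₁) (hasTorAmplitudeIn_mono (by omega) (by omega) h₂)⟩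
  · rintro ⟨k₁, a, b, h₁⟩ ⟨k₃, c, d, h₃⟩
    exact ⟨p₂ k₁ k₃, min a c, max b d, hasTorAmplitudeIn_obj₂ T hT
      (hasTorAmplitudeIn_mono (by omega) (by omega) h₁) (hasTorAmplitudeIn_mono (by omega) (by omega) h₃)⟩
  · rintro ⟨k₂, a, b, h₂⟩ ⟨k₃, c, d, h₃⟩
    exact ⟨p₁ k₂ k₃, min (a - 1) c + 1, max (b - 1) d + 1, hasTorAmplitudeIn_obj₁ T hT
      (hasTorAmplitudeIn_mono (by omega) (by omega) h₂) (hasTorAmplitudeIn_mono (by omega) (by omega) h₃)⟩

end GrothLib.DR
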