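import Groth.Agent.Lib.DCxRing.CompactSeq
import Groth.Agent.Lib.DCxRing.Perfect
import Groth.Agent.Lib.DCxRing.ColimHom
import Groth.Agent.Lib.TriCat.FinHom
import Mathlib.Data.Int.Interval

/-!
# Perfect objects and compact objects of `D(A)`
-/

set_option autoImplicit false
universe w u

open CategoryTheory CategoryTheory.Limits HomologicalComplex Pretriangulated

attribute [local instance] HasDerivedCategory.standard

namespace GrothLib.DR

variable {A : Type u} [CommRing A]

instance hasExactColimitsOfShape_discrete (I : Type u) :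
    HasExactColimitsOfShape (Discrete I) (ModuleCat.{u} A) := AB4OfSize.ofShape _

instance hasColimitsOfShape_ulift_D (I : Type u) :
    HasColimitsOfShape (Discrete (ULift.{u + 1} I)) (Dual.D A) :=
  haveI : HasColimitsOfShape (Discrete I) (Dual.D A) := HoCat.derivedCategory_hasColimitsOfShape
  hasColimitsOfShape_of_equivalence (Discrete.equivalence Equiv.ulift.symm)

section Support

variable {I : Type w} [HasColimitsOfShape (Discrete I) (ModuleCat.{u} A)] (C : I → DRing.Cx A)

open Classical in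
/-- The projection of a coproduct of complexes to finitely many summands. -/
noncomputable def supportProj (S : Finset I) : (∐ C) ⟶ ∐ C :=
  Sigma.desc fun i => if i ∈ S then Sigma.ι C i else 0

open Classical in
lemma ι_supportProj (S : Finset I) (i : I) :
    Sigma.ι C i ≫ supportProj C S = if i ∈ S then Sigma.ι C i else 0 := Sigma.ι_desc _ _

open Classical in
lemma supportProj_eq_sum (S : Finset I) : supportProj C S = ∑ i ∈ S, Sigma.π C i ≫ Sigma.ι C i := by
  classical
  refine Sigma.hom_ext _ _ fun k => ?_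
  rw [ι_supportProj, Preadditive.comp_sum]
  split_ifs with h
  · rw [Finset.sum_eq_single k ?_ (fun h' => absurd h h')]
    · rw [← Category.assoc, Sigma.ι_π_eq_id, Category.id_comp]
    · intro j _ hj
      rw [← Category.assoc, Sigma.ι_π_of_ne C (Ne.symm hj), zero_comp]
  · refine (Finset.sum_eq_zero fun j hj => ?_).symm
    rw [← Category.assoc, Sigma.ι_π_of_ne C (fun e : k = j => h (e ▸ hj)), zero_comp]

lemma supportProj_comp {S T : Finset I} (h : S ⊆ T) : supportProj C S ≫ supportProj C T = supportProj C S := by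
  classical
  refine Sigma.hom_ext _ _ fun k => ?_
  rw [← Category.assoc, ι_supportProj]
  split_ifs with hk
  · rw [ι_supportProj, if_pos (h hk)]
  · rw [zero_comp]

/-- An element fixed by a projection is fixed by any larger one. -/
lemma supportProj_fixed_mono {S T : Finset I} (h : S ⊆ T) {k : ℤ} {x : (∐ C).X k}
    (hx : (supportProj C S).f k x = x) : (supportProj C T).f k x = x := by
  conv_lhs => rw [← hx]
  rw [← ConcreteCategory.comp_apply, ← HomologicalComplex.comp_f, supportProj_comp C h, hx]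

/-- Elements of a coproduct of complexes have finite support. -/
theorem exists_support (k : ℤ) (x : (∐ C).X k) : ∃ S : Finset I, (supportProj C S).f k x = x := by
  classical
  let V : Submodule A ((∐ C).X k) :=
    { carrier := {x | ∃ S : Finset I, (supportProj C S).f k x = x}
      zero_mem' := ⟨∅, map_zero _⟩
      add_mem' := by
        rintro a b ⟨S, hS⟩ ⟨T, hT⟩
        exact ⟨S ∪ T, by rw [map_add, supportProj_fixed_mono C Finset.subset_union_left hS,
          supportProj_fixed_mono C Finset.subset_union_right hT]⟩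
      smul_mem' := by
        rintro r a ⟨S, hS⟩
        exact ⟨S, by rw [map_smul, hS]⟩ }
  let ev := HomologicalComplex.eval (ModuleCat.{u} A) (ComplexShape.up ℤ) k
  have h0 : ModuleCat.ofHom V.mkQ = 0 := by
    refine (isColimitOfPreserves ev (colimit.isColimit (Discrete.functor C))).hom_ext fun ⟨i⟩ => ?_
    refine ModuleCat.hom_ext (LinearMap.ext fun y => ?_)
    refine (Submodule.Quotient.mk_eq_zero V).2 ⟨{i}, ?_⟩
    show ((Sigma.ι C i).f k ≫ (supportProj C {i}).f k) y = (Sigma.ι C i).f k y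
    rw [← HomologicalComplex.comp_f, ι_supportProj, if_pos (Finset.mem_singleton_self i)]
  have hx : V.mkQ x = 0 := LinearMap.congr_fun (congrArg ModuleCat.Hom.hom h0) x
  exact (Submodule.Quotient.mk_eq_zero V).1 hx

/-- A map from a bounded complex of finite modules into a coproduct factors through a finite part. -/
theorem exists_support_hom (P : DRing.Cx A) {a b : ℤ} (hv : DRing.VanishesOutside P a b)
    (hf : ∀ k, Module.Finite A (P.X k)) (f : P ⟶ ∐ C) : ∃ S : Finset I, f ≫ supportProj C S = f := by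
  classical
  choose G hG using fun k => (hf k).fg_top
  choose S hS using fun (k : ℤ) (x : P.X k) => exists_support C k (f.f k x)
  refine ⟨(Finset.Icc a b).biUnion fun k => (G k).biUnion (S k), ?_⟩
  refine HomologicalComplex.hom_ext _ _ fun k => ?_
  by_cases hk : k < a ∨ b < k
  · exact (hv k hk).eq_of_src _ _
  · refine ModuleCat.hom_ext (LinearMap.ext_on (hG k) fun x hx => ?_)
    refine supportProj_fixed_mono C ?_ (hS k x)
    intro i hi
    simp only [Finset.mem_biUnion, Finset.mem_Icc]
    exact ⟨k, by omega, x, hx, hi⟩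

end Support

/-- Compactness in the form used below. -/
def CompactD (K : Dual.D A) : Prop :=
  ∀ (I : Type u) (X : ULift.{u + 1} I → Dual.D A) [HasCoproduct X], TriCat.FinHom X K

theorem compactD_of_iso {K L : Dual.D A} (e : K ≅ L) (h : CompactD K) : CompactD L :=
  fun I X _ => (h I X).of_iso e

/-- Perfect objects are compact. -/
theorem compactD_of_isPerfect {K : Dual.D A} (h : DRing.IsPerfect A K) : CompactD K := by
  classical
  obtain ⟨P, a, b, hv, hP, ⟨e⟩⟩ := h
  refine compactD_of_iso e fun I X _ φ => ?_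
  haveI := isKProjective P b (fun i hi => hv i (Or.inr hi)) fun i => (hP i).2
  let C : I → DRing.Cx A := fun i => DerivedCategory.Q.objPreimage (X ⟨i⟩)
  let ε : ∀ i, DerivedCategory.Q.obj (C i) ≅ X ⟨i⟩ := fun i => DerivedCategory.Q.objObjPreimageIso (X ⟨i⟩)
  let e₁ : (∐ X) ⟶ DerivedCategory.Q.obj (∐ C) :=
    Sigma.desc fun i => (ε i.down).inv ≫ DerivedCategory.Q.map (Sigma.ι C i.down)
  let e₂ : DerivedCategory.Q.obj (∐ C) ⟶ ∐ X :=
    (PreservesCoproduct.iso DerivedCategory.Q C).hom ≫ Sigma.desc fun i => (ε i).hom ≫ Sigma.ι X ⟨i⟩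
  have hι : ∀ i, DerivedCategory.Q.map (Sigma.ι C i) ≫ e₂ = (ε i).hom ≫ Sigma.ι X ⟨i⟩ := fun i => by
    rw [← ι_comp_sigmaComparison DerivedCategory.Q C i, Category.assoc,
      ← PreservesCoproduct.inv_hom DerivedCategory.Q C, Iso.inv_hom_id_assoc, Sigma.ι_desc]
  have h12 : e₁ ≫ e₂ = 𝟙 _ := by
    refine Sigma.hom_ext _ _ fun i => ?_
    rw [Sigma.ι_desc_assoc, Category.assoc, hι, Iso.inv_hom_id_assoc, Category.comp_id]
  obtain ⟨f, hf⟩ := exists_lift P (φ ≫ e₁)
  obtain ⟨S, hS⟩ := exists_support_hom C P hv (fun k => (hP k).1) f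
  have key : φ = ∑ i ∈ S, (DerivedCategory.Q.map (f ≫ Sigma.π C i) ≫ (ε i).hom) ≫ Sigma.ι X ⟨i⟩ := by
    calc φ = DerivedCategory.Q.map (f ≫ supportProj C S) ≫ e₂ := by
          rw [hS, hf, Category.assoc, h12, Category.comp_id]
      _ = _ := by
          rw [supportProj_eq_sum, Preadditive.comp_sum, Functor.map_sum, Preadditive.sum_comp]
          refine Finset.sum_congr rfl fun i _ => ?_
          rw [← Category.assoc f, Functor.map_comp, Category.assoc, hι, Category.assoc]
  rw [key]
  exact sum_mem (S := (PerfAux.homSumToHomCoprod (DRing.toD P) X).range) fun i _ =>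
    TriCat.ι_mem_range X _ _ _

section SingleMap

variable (C : DRing.Cx A) (n : ℤ) {M N : Type u} [AddCommGroup M] [Module A M] [AddCommGroup N] [Module A N]

lemma toSingleMap_comp (u : M →ₗ[A] N) (g : C.X n →ₗ[A] M) (hg : ∀ x, g ((C.d (n - 1) n).hom x) = 0)
    (hu : ∀ x, (u.comp g) ((C.d (n - 1) n).hom x) = 0) :
    toSingleMap C n g hg ≫ (HomologicalComplex.single (ModuleCat.{u} A) (ComplexShape.up ℤ) n).map (ModuleCat.ofHom u) = toSingleMap C n (u.comp g) hu := by
  refine to_single_hom_ext ?_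
  simp only [HomologicalComplex.comp_f, toSingleMap, mkHomToSingle_f, single_map_f_self]
  simp only [Category.assoc, Iso.inv_hom_id_assoc]
  rw [← Category.assoc, ← ModuleCat.ofHom_comp]

lemma toSingleD_sub (g g' : C.X n →ₗ[A] M) (hg : ∀ x, g ((C.d (n - 1) n).hom x) = 0)
    (hg' : ∀ x, g' ((C.d (n - 1) n).hom x) = 0) (hd : ∀ x, (g - g') ((C.d (n - 1) n).hom x) = 0) :
    toSingleD C n (g - g') hd = toSingleD C n g hg - toSingleD C n g' hg' := by
  have e : toSingleMap C n (g - g') hd = toSingleMap C n g hg - toSingleMap C n g' hg' := by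
    refine to_single_hom_ext ?_
    simp only [HomologicalComplex.sub_f_apply, toSingleMap, mkHomToSingle_f]
    rw [← Preadditive.sub_comp]
    rfl
  rw [toSingleD, e, Functor.map_sub, Preadditive.sub_comp]
  rfl

/-- Cocycles differing by a coboundary give the same morphism. -/
theorem toSingleD_congr [C.IsKProjective] (g g' : C.X n →ₗ[A] M) (hg : ∀ x, g ((C.d (n - 1) n).hom x) = 0)
    (hg' : ∀ x, g' ((C.d (n - 1) n).hom x) = 0) (h : C.X (n + 1) →ₗ[A] M)
    (hh : ∀ x, h ((C.d n (n + 1)).hom x) = g x - g' x) : toSingleD C n g hg = toSingleD C n g' hg' := by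
  have hd : ∀ x, (g - g') ((C.d (n - 1) n).hom x) = 0 := fun x => by
    rw [LinearMap.sub_apply, hg, hg', sub_zero]
  have h0 := (toSingleD_eq_zero_iff C n (g - g') hd).2 ⟨h, fun x => (hh x).trans (LinearMap.sub_apply g g' x).symm⟩
  rw [toSingleD_sub C n g g' hg hg'] at h0
  exact sub_eq_zero.1 h0

end SingleMap

open Classical in
/-- A morphism from a compact object to a coproduct of complexes has finite support. -/
theorem exists_support_of_compact {K : Dual.D A} (hK : CompactD K) {I : Type u} (C : I → DRing.Cx A)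
    (z : K ⟶ DerivedCategory.Q.obj (∐ C)) :
    ∃ S : Finset I, z ≫ DerivedCategory.Q.map (supportProj C S) = z := by
  let Q := DerivedCategory.Q (C := ModuleCat.{u} A)
  let X : ULift.{u + 1} I → Dual.D A := fun i => Q.obj (C i.down)
  let e₁ : Q.obj (∐ C) ⟶ ∐ X := (PreservesCoproduct.iso Q C).hom ≫ Sigma.desc fun i => Sigma.ι X ⟨i⟩
  let e₂ : (∐ X) ⟶ Q.obj (∐ C) := Sigma.desc fun i => Q.map (Sigma.ι C i.down)
  have hι : ∀ i, Q.map (Sigma.ι C i) ≫ e₁ = Sigma.ι X ⟨i⟩ := fun i => by
    rw [← ι_comp_sigmaComparison Q C i, Category.assoc, ← PreservesCoproduct.inv_hom Q C,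
      Iso.inv_hom_id_assoc, Sigma.ι_desc]
  have h12 : e₁ ≫ e₂ = 𝟙 _ := by
    refine (isColimitOfPreserves Q (colimit.isColimit (Discrete.functor C))).hom_ext fun ⟨i⟩ => ?_
    show Q.map (Sigma.ι C i) ≫ e₁ ≫ e₂ = Q.map (Sigma.ι C i) ≫ 𝟙 _
    rw [← Category.assoc, hι, Sigma.ι_desc, Category.comp_id]
  obtain ⟨d, hd⟩ := hK I X (z ≫ e₁)
  refine ⟨(DFinsupp.support d).image ULift.down, ?_⟩
  have hz : z = ∑ i ∈ DFinsupp.support d, d i ≫ Q.map (Sigma.ι C i.down) := by
    calc z = PerfAux.homSumToHomCoprod K X d ≫ e₂ := by rw [hd, Category.assoc, h12, Category.comp_id]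
      _ = _ := by
        conv_lhs => rw [← DirectSum.sum_support_of d, map_sum, Preadditive.sum_comp]
        refine Finset.sum_congr rfl fun i _ => ?_
        rw [TriCat.homSum_of, Category.assoc, Sigma.ι_desc]
  conv_lhs => rw [hz, Preadditive.sum_comp]
  conv_rhs => rw [hz]
  refine Finset.sum_congr rfl fun i hi => ?_
  rw [Category.assoc, ← Functor.map_comp, ι_supportProj, if_pos (Finset.mem_image_of_mem _ hi)]

/-- For all but finitely many `n` the canonical morphism to the cokernel in degree `n` vanishes. -/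
theorem exists_finset_toSingleD_mkQ (C : DRing.Cx A) (hK : CompactD (DRing.toD C)) :
    ∃ S : Finset ℤ, ∀ n ∉ S, toSingleD C n (LinearMap.range (C.d (n - 1) n).hom).mkQ
      (fun w => (Submodule.Quotient.mk_eq_zero _).2 ⟨w, rfl⟩) = 0 := by
  classical
  let W : ULift.{u} ℤ → DRing.Cx A := fun i =>
    (HomologicalComplex.single (ModuleCat.{u} A) (ComplexShape.up ℤ) i.down).obj
      (ModuleCat.of A (C.X i.down ⧸ LinearMap.range (C.d (i.down - 1) i.down).hom))
  let p : ∀ n : ℤ, C ⟶ W ⟨n⟩ := fun n => toSingleMap C n (LinearMap.range (C.d (n - 1) n).hom).mkQ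
    fun w => (Submodule.Quotient.mk_eq_zero _).2 ⟨w, rfl⟩
  let f : C ⟶ ∐ W :=
    { f := fun k => (p k ≫ Sigma.ι W ⟨k⟩).f k
      comm' := fun i j hij => by
        obtain rfl : i + 1 = j := hij
        rw [(p i ≫ Sigma.ι W ⟨i⟩).comm, ← (p (i + 1) ≫ Sigma.ι W ⟨i + 1⟩).comm]
        have h1 : (p i ≫ Sigma.ι W ⟨i⟩).f (i + 1) = 0 :=
          (congrArg (· ≫ (Sigma.ι W ⟨i⟩).f (i + 1))
            ((isZero_single_obj_X _ _ _ _ (show i + 1 ≠ i by omega)).eq_of_tgt ((p i).f (i + 1)) 0)).trans zero_comp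
        have h2 : (p (i + 1) ≫ Sigma.ι W ⟨i + 1⟩).f i = 0 :=
          (congrArg (· ≫ (Sigma.ι W ⟨i + 1⟩).f i)
            ((isZero_single_obj_X _ _ _ _ (show i ≠ i + 1 by omega)).eq_of_tgt ((p (i + 1)).f i) 0)).trans zero_comp
        rw [h1, h2, comp_zero, zero_comp] }
  have hfπ : ∀ n, f ≫ Sigma.π W ⟨n⟩ = p n := fun n => by
    refine to_single_hom_ext ?_
    show (p n ≫ Sigma.ι W ⟨n⟩).f n ≫ (Sigma.π W ⟨n⟩).f n = (p n).f n
    rw [HomologicalComplex.comp_f, Category.assoc, ← HomologicalComplex.comp_f, Sigma.ι_π_eq_id,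
      HomologicalComplex.id_f, Category.comp_id]
  obtain ⟨S, hS⟩ := exists_support_of_compact hK W (DerivedCategory.Q.map f)
  refine ⟨S.image ULift.down, fun n hn => ?_⟩
  have h0 : DerivedCategory.Q.map (p n) = 0 := by
    rw [← hfπ, Functor.map_comp, ← hS, Category.assoc, ← Functor.map_comp, supportProj_eq_sum,
      Preadditive.sum_comp, Finset.sum_eq_zero, Functor.map_zero, comp_zero]
    intro j hj
    rw [Category.assoc, Sigma.ι_π_of_ne W (fun e : j = ⟨n⟩ => hn (Finset.mem_image.2 ⟨j, hj, e ▸ rfl⟩)),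
      comp_zero]
  exact (congrArg (· ≫ _) h0).trans zero_comp

/-- A compact object has bounded projective amplitude. -/
theorem exists_hasProjAmp_of_compact {K : Dual.D A} (hK : CompactD K) : ∃ a b : ℤ, a ≤ b ∧ HasProjAmp K a b := by
  obtain ⟨C, ⟨e⟩⟩ : ∃ C : DRing.Cx A, Nonempty (DRing.toD C ≅ K) :=
    ⟨_, ⟨DerivedCategory.Q.objObjPreimageIso K⟩⟩
  obtain ⟨S, hS⟩ := exists_finset_toSingleD_mkQ C (compactD_of_iso e.symm hK)
  have hH : ∀ n ∉ S, Subsingleton (Dual.HD A K n) := fun n hn => by
    refine subsingleton_HD_of_iso e n ((exactAt_iff C n).1 ?_)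
    rw [element_exact C (n - 1) n (n + 1) (by omega) rfl]
    intro x hx
    obtain ⟨c, rfl⟩ := exists_cycle C n x hx
    have := (toSingleD_homology_iff C n _ _ c).1 (by rw [hS n hn, Functor.map_zero]; rfl)
    exact (Submodule.Quotient.mk_eq_zero _).1 this
  obtain ⟨b, hb⟩ := S.bddAbove
  obtain ⟨P, hPv, hPp, ⟨eP⟩⟩ := exists_projective_rep K b fun n hn => hH n fun h => by
    have := hb h
    omega
  haveI := isKProjective P b hPv hPp
  obtain ⟨T, hT⟩ := exists_finset_toSingleD_mkQ P (compactD_of_iso eP.symm hK)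
  obtain ⟨a₁, ha₁⟩ := S.bddBelow
  obtain ⟨a₂, ha₂⟩ := T.bddBelow
  let a := min (min a₁ a₂) b
  refine ⟨a, b, min_le_right _ _, hasProjAmp_of_vanishing K a b ?_ ?_⟩
  · intro n hn
    refine hH n fun h => ?_
    have h1 : n ≤ b := hb h
    have h2 : a₁ ≤ n := ha₁ h
    have h3 : a ≤ a₁ := (min_le_left _ _).trans (min_le_left _ _)
    omega
  · intro N _ _
    refine (Iso.homFromEquiv eP).symm.subsingleton_congr.2 ⟨fun x y => ?_⟩
    suffices h0 : ∀ ξ : DRing.toD P ⟶ (Dual.inD A N)⟦-(a - 1)⟧, ξ = 0 from (h0 x).trans (h0 y).symm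
    intro ξ
    obtain ⟨g, hg, rfl⟩ := exists_toSingleD P (a - 1) ξ
    have hle : LinearMap.range (P.d (a - 1 - 1) (a - 1)).hom ≤ LinearMap.ker g := by
      rintro _ ⟨w, rfl⟩
      exact hg w
    have := toSingleD_comp P (a - 1) (Submodule.liftQ _ g hle)
      (LinearMap.range (P.d (a - 1 - 1) (a - 1)).hom).mkQ (fun w => (Submodule.Quotient.mk_eq_zero _).2 ⟨w, rfl⟩)
    rw [hT (a - 1) (fun h => by
      have h1 : a₂ ≤ a - 1 := ha₂ h
      have h2 : a ≤ a₂ := (min_le_left _ _).trans (min_le_right _ _)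
      omega), zero_comp] at this
    simp only [Submodule.liftQ_mkQ] at this
    exact this.symm

/-- The bottom term of a compact bounded complex of projectives is finite up to a coboundary. -/
theorem exists_finite_bottom {P : DRing.Cx A} {a b : ℤ} (hv : DRing.VanishesOutside P a b)
    (hP : ∀ i, Module.Projective A (P.X i)) (hK : CompactD (DRing.toD P)) :
    ∃ (J : Type u) (_ : Fintype J) (g : P.X a →ₗ[A] J → A) (r : (J → A) →ₗ[A] P.X a)
      (h : P.X (a + 1) →ₗ[A] P.X a), ∀ x, h ((P.d a (a + 1)).hom x) = x - r (g x) := by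
  classical
  haveI := hP a
  haveI := isKProjective P b (fun i hi => hv i (Or.inr hi)) hP
  obtain ⟨s, hs⟩ := Module.projective_def'.1 (hP a)
  let F := ModuleCat.of A (P.X a →₀ A)
  let sg := HomologicalComplex.single (ModuleCat.{u} A) (ComplexShape.up ℤ) a
  let C : P.X a → DRing.Cx A := fun _ => sg.obj (ModuleCat.of A A)
  let ξ : P.X a → (A →ₗ[A] (∐ C).X a) := fun j =>
    ((singleObjXSelf (ComplexShape.up ℤ) a (ModuleCat.of A A)).inv ≫ (Sigma.ι C j).f a).hom
  let χ : sg.obj F ⟶ ∐ C := mkHomFromSingle (ModuleCat.ofHom (Finsupp.lsum A ξ)) fun k hk => by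
    refine ModuleCat.hom_ext (Finsupp.lhom_ext fun j y => ?_)
    show ((∐ C).d a k).hom (Finsupp.lsum A ξ (Finsupp.single j y)) = 0
    rw [Finsupp.lsum_single]
    show ((singleObjXSelf (ComplexShape.up ℤ) a (ModuleCat.of A A)).inv ≫ (Sigma.ι C j).f a ≫ (∐ C).d a k) y = 0
    rw [(Sigma.ι C j).comm, show (C j).d a k = 0 from (isZero_single_obj_X _ _ _ _ (by
      simp only [ComplexShape.up_Rel] at hk; omega)).eq_of_tgt _ _, zero_comp, comp_zero]
    rfl
  let Φ : (∐ C) ⟶ sg.obj (P.X a) := Sigma.desc fun j => sg.map (ModuleCat.ofHom (LinearMap.toSpanSingleton A (P.X a) j))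
  have hz : ∀ x, s ((P.d (a - 1) a).hom x) = 0 := fun x => by
    haveI := ModuleCat.subsingleton_of_isZero (hv (a - 1) (Or.inl (by omega)))
    rw [Subsingleton.elim x 0, map_zero, map_zero]
  obtain ⟨S, hS⟩ := exists_support_of_compact hK C (DerivedCategory.Q.map (toSingleMap P a s hz ≫ χ))
  let v : (P.X a →₀ A) →ₗ[A] P.X a :=
    ∑ j ∈ S, (LinearMap.toSpanSingleton A (P.X a) j).comp (Finsupp.lapply j)
  have hχf : χ.f a = (singleObjXSelf (ComplexShape.up ℤ) a F).hom ≫ ModuleCat.ofHom (Finsupp.lsum A ξ) :=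
    mkHomFromSingle_f _ _
  have hsingle : ∀ (T : Finset (P.X a)) (j : P.X a) (y : A),
      (∑ i ∈ T, (LinearMap.toSpanSingleton A (P.X a) i).comp (Finsupp.lapply i)) (Finsupp.single j y) =
        if j ∈ T then y • j else 0 := by
    intro T j y
    simp only [LinearMap.coe_sum, Finset.sum_apply, LinearMap.comp_apply, Finsupp.lapply_apply,
      LinearMap.toSpanSingleton_apply, Finsupp.single_apply, ite_smul, zero_smul, Finset.sum_ite_eq]
  have hΦ : χ ≫ Φ = sg.map (ModuleCat.ofHom (Finsupp.linearCombination A id)) := by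
    refine from_single_hom_ext ?_
    rw [HomologicalComplex.comp_f, hχf, single_map_f_self, Category.assoc, cancel_epi]
    refine ModuleCat.hom_ext (Finsupp.lhom_ext fun j y => ?_)
    show Φ.f a (Finsupp.lsum A ξ (Finsupp.single j y)) = _
    rw [Finsupp.lsum_single]
    show ((singleObjXSelf (ComplexShape.up ℤ) a (ModuleCat.of A A)).inv ≫ (Sigma.ι C j).f a ≫ Φ.f a) y = _
    rw [← HomologicalComplex.comp_f, Sigma.ι_desc, single_map_f_self]
    simp [sg]
  have hΦS : χ ≫ supportProj C S ≫ Φ = sg.map (ModuleCat.ofHom v) := by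
    refine from_single_hom_ext ?_
    rw [HomologicalComplex.comp_f, hχf, single_map_f_self, Category.assoc, cancel_epi]
    refine ModuleCat.hom_ext (Finsupp.lhom_ext fun j y => ?_)
    show (supportProj C S ≫ Φ).f a (Finsupp.lsum A ξ (Finsupp.single j y)) = _
    rw [Finsupp.lsum_single]
    show ((singleObjXSelf (ComplexShape.up ℤ) a (ModuleCat.of A A)).inv ≫ (Sigma.ι C j).f a ≫
      (supportProj C S ≫ Φ).f a) y = _
    rw [← HomologicalComplex.comp_f, ← Category.assoc, ι_supportProj]
    split_ifs with hj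
    · rw [Sigma.ι_desc, single_map_f_self]
      simp [sg, v, Finsupp.single_apply, hj, ite_smul]
    · simp [v, Finsupp.single_apply, hj, ite_smul]
  have hD : toSingleD P a ((Finsupp.linearCombination A id).comp s) (fun x => by
        rw [LinearMap.comp_apply, hz, map_zero]) =
      toSingleD P a (v.comp s) (fun x => by rw [LinearMap.comp_apply, hz, map_zero]) := by
    refine congrArg (· ≫ _) ?_
    rw [← toSingleMap_comp P a _ s hz, ← toSingleMap_comp P a _ s hz, ← hΦ, ← hΦS, ← Category.assoc,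
      Functor.map_comp, ← hS, Category.assoc, ← Functor.map_comp, ← Functor.map_comp, Category.assoc]
  let g : P.X a →ₗ[A] S → A := LinearMap.pi fun j => (Finsupp.lapply j.1).comp s
  let r : (S → A) →ₗ[A] P.X a := Fintype.linearCombination A (fun j : S => j.1)
  obtain ⟨h, hh⟩ := (toSingleD_eq_zero_iff P a ((Finsupp.linearCombination A id).comp s - v.comp s) (fun x => by
    simp [hz])).1 (by rw [toSingleD_sub P a _ _ (fun x => by simp [hz]) (fun x => by simp [hz]), hD, sub_self])
  refine ⟨S, inferInstance, g, r, h, fun x => ?_⟩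
  rw [hh, LinearMap.sub_apply, hs, LinearMap.id_apply]
  congr 1
  simp only [v, g, r, LinearMap.comp_apply, LinearMap.coe_sum, Finset.sum_apply, Fintype.linearCombination_apply,
    LinearMap.toSpanSingleton_apply, Finsupp.lapply_apply, LinearMap.pi_apply]
  exact (Finset.sum_coe_sort S fun j => s x j • j).symm

lemma isPerfect_single (a : ℤ) (F : Type u) [AddCommGroup F] [Module A F] [Module.Finite A F]
    [Module.Projective A F] : DRing.IsPerfect A ((Dual.inD A F)⟦-a⟧) := by
  refine ⟨(HomologicalComplex.single (ModuleCat.{u} A) (ComplexShape.up ℤ) a).obj (ModuleCat.of A F), a, a,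
    fun i hi => isZero_single_obj_X _ _ _ _ (by omega), fun i => ?_, ⟨toDSingleIso a (ModuleCat.of A F)⟩⟩
  by_cases h : i = a
  · subst h
    have e := (singleObjXSelf (ComplexShape.up ℤ) i (ModuleCat.of A F)).toLinearEquiv
    exact ⟨Module.Finite.equiv e.symm, Module.Projective.of_equiv e.symm⟩
  · haveI := ModuleCat.subsingleton_of_isZero (isZero_single_obj_X (ComplexShape.up ℤ) a (ModuleCat.of A F) i h)
    exact ⟨inferInstance, inferInstance⟩

/-- A compact object of bounded projective amplitude is perfect. -/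
theorem isPerfect_of_compact_projAmp : ∀ (n : ℕ) (K : Dual.D A) (a : ℤ), CompactD K →
    HasProjAmp K a (a + n) → DRing.IsPerfect A K := by
  intro n
  induction n with
  | zero =>
    rintro K a hK ⟨P, hv, hP, ⟨e⟩⟩
    obtain ⟨J, _, g, r, h, hh⟩ := exists_finite_bottom hv hP (compactD_of_iso e.symm hK)
    refine ⟨P, a, a, fun i hi => hv i (by omega), fun i => ⟨?_, hP i⟩, ⟨e⟩⟩
    by_cases hi : i = a
    · subst hi
      haveI := ModuleCat.subsingleton_of_isZero (hv (i + 1) (Or.inr (by omega)))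
      refine Module.Finite.of_surjective r fun x => ⟨g x, ?_⟩
      have := hh x
      rw [Subsingleton.elim ((P.d i (i + 1)).hom x) 0, map_zero, eq_comm, sub_eq_zero] at this
      exact this.symm
    · haveI := ModuleCat.subsingleton_of_isZero (hv i (by omega))
      infer_instance
  | succ n ih =>
    rintro K a hK ⟨P, hv, hP, ⟨e⟩⟩
    haveI := isKProjective P (a + (n + 1 : ℕ)) (fun i hi => hv i (Or.inr hi)) hP
    refine isPerfect_of_iso e ?_
    have hPK : CompactD (DRing.toD P) := compactD_of_iso e.symm hK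
    obtain ⟨J, _, g, r, h, hh⟩ := exists_finite_bottom hv hP hPK
    have hg0 : ∀ {M : Type u} [AddCommGroup M] [Module A M] (f : P.X a →ₗ[A] M) (x : P.X (a - 1)),
        f ((P.d (a - 1) a).hom x) = 0 := fun f x => by
      haveI := ModuleCat.subsingleton_of_isZero (hv (a - 1) (Or.inl (by omega)))
      rw [Subsingleton.elim x 0, map_zero, map_zero]
    let q : DRing.toD P ⟶ (Dual.inD A (J → A))⟦-a⟧ := toSingleD P a g (hg0 g)
    obtain ⟨R', i₁, δ, hT⟩ := distinguished_cocone_triangle₁ q
    let T := Triangle.mk i₁ q δ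
    have hF : DRing.IsPerfect A ((Dual.inD A (J → A))⟦-a⟧) := isPerfect_single a (J → A)
    have hR : CompactD R' := fun I X _ =>
      TriCat.FinHom.ext₃ (T := T.invRotate.invRotate) (inv_rot_of_distTriang _ (inv_rot_of_distTriang _ hT))
        (compactD_of_isPerfect (isPerfect_shift hF (-1)) I X)
        (compactD_of_iso ((shiftFunctorCompIsoId (Dual.D A) (-1 : ℤ) 1 (by omega)).app (DRing.toD P)).symm hPK I X)
    have hv' : ∀ (i : ℤ), (i ≤ a ∨ a + 1 + n < i) → ∀ (N : Type u) [AddCommGroup N] [Module A N],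
        Subsingleton (R' ⟶ (Dual.inD A N)⟦-i⟧) := by
      intro i hi N _ _
      suffices h0 : ∀ y : R' ⟶ (Dual.inD A N)⟦-i⟧, y = 0 from ⟨fun x y => (h0 x).trans (h0 y).symm⟩
      intro y
      have hFa : HasProjAmp (T.invRotate.obj₁) (a + 1) (a + 1) := by
        obtain ⟨E, -, -, -⟩ := hF
        refine ⟨(HomologicalComplex.single (ModuleCat.{u} A) (ComplexShape.up ℤ) (a + 1)).obj (ModuleCat.of A (J → A)),
          fun k hk => isZero_single_obj_X _ _ _ _ (by omega), fun k => ?_,
          ⟨toDSingleIso (a + 1) (ModuleCat.of A (J → A)) ≪≫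
            (shiftFunctorAdd' (Dual.D A) (-a) (-1) (-(a + 1)) (by omega)).app (Dual.inD A (J → A))⟩⟩
        by_cases hk : k = a + 1
        · subst hk
          exact Module.Projective.of_equiv (singleObjXSelf (ComplexShape.up ℤ) _ (ModuleCat.of A (J → A))).toLinearEquiv.symm
        · haveI := ModuleCat.subsingleton_of_isZero
            (isZero_single_obj_X (ComplexShape.up ℤ) (a + 1) (ModuleCat.of A (J → A)) k hk)
          infer_instance
      haveI := subsingleton_hom_of_hasProjAmp hFa i (by omega) N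
      obtain ⟨y', hy'⟩ : ∃ y' : DRing.toD P ⟶ (Dual.inD A N)⟦-i⟧, y = i₁ ≫ y' :=
        Triangle.yoneda_exact₂ T.invRotate (inv_rot_of_distTriang _ hT) y (Subsingleton.elim _ _)
      by_cases hia : i = a
      · subst hia
        obtain ⟨u, hu, rfl⟩ := exists_toSingleD P i y'
        have h1 := toSingleD_comp P i (u.comp r) g (hg0 g)
        have h2 : toSingleD P i u hu = toSingleD P i ((u.comp r).comp g) (fun x => hg0 _ x) :=
          toSingleD_congr P i _ _ _ _ (u.comp h) fun x => by
            simp only [LinearMap.comp_apply, hh, map_sub]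
        rw [hy', h2, ← h1, ← Category.assoc]
        exact (congrArg (· ≫ _) (comp_distTriang_mor_zero₁₂ T hT)).trans zero_comp
      · haveI := subsingleton_hom_of_hasProjAmp (K := DRing.toD P) ⟨P, hv, hP, ⟨Iso.refl _⟩⟩ i (by omega) N
        rw [hy', Subsingleton.elim y' 0, comp_zero]
    have hamp : HasProjAmp R' (a + 1) (a + 1 + n) :=
      hasProjAmp_of_vanishing R' (a + 1) (a + 1 + n)
        (fun i hi => subsingleton_HD_of_hom_single R' i (hv' i (by omega)))
        (hv' (a + 1 - 1) (by omega))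
    exact (isPerfect_triangle T hT).2.1 (ih R' (a + 1) hR hamp) hF

/-- Perfect objects are exactly the compact ones. -/
theorem isPerfect_iff_compactD {K : Dual.D A} : DRing.IsPerfect A K ↔ CompactD K := by
  refine ⟨compactD_of_isPerfect, fun hK => ?_⟩
  obtain ⟨a, b, hab, h⟩ := exists_hasProjAmp_of_compact hK
  obtain ⟨n, rfl⟩ := Int.le.dest hab
  exact isPerfect_of_compact_projAmp n K a hK h

end GrothLib.DR
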