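import Groth.Agent.Lib.DCxRing.KoszulCone
import Groth.Agent.Lib.DCxRing.PC
import Groth.Agent.Lib.DerBC.FiniteHomology
import Groth.Agent.Lib.DerBC.Triang

/-!
# Approximation by perfect complexes supported on `V(fs)`

Maps from finite free modules placed in degree `b` factor through perfect `fs`-nilpotent objects as soon as the
cohomology of the target is `fs`-torsion in the `#fs` degrees below `b`; killing top cohomology this way gives
approximations with support.
-/

set_option autoImplicit false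
universe u

open CategoryTheory CategoryTheory.Limits CategoryTheory.Pretriangulated DerivedCategory
open ZeroObject

attribute [local instance] HasDerivedCategory.standard

namespace GrothLib.DR

open GrothLib.SiteDer (theta)

variable {A : Type u} [CommRing A]

/-- The cohomology in degree `j` is `f`-power torsion. -/
def TorsionAt (f : A) (E : Dual.D A) (j : ℤ) : Prop :=
  ∀ x : (homologyFunctor (ModuleCat.{u} A) j).obj E, ∃ k : ℕ, f ^ k • x = 0

/-- Maps out of shifts of `R` see only the degrees `[b - k, b]`, up to `f`-torsion. -/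
def WinHom (f : A) (b k : ℤ) (R : Dual.D A) : Prop :=
  ∀ (n : ℤ) (C : Dual.D A), (∀ j, b - n - k ≤ j → j ≤ b - n → TorsionAt f C j) →
    ∀ φ : R⟦n⟧ ⟶ C, ∃ m : ℕ, f ^ m • φ = 0

theorem winHom_single (f : A) (b : ℤ) (r : ℕ) :
    WinHom f b 0 ((singleFunctor (ModuleCat.{u} A) b).obj (ModuleCat.of A (Fin r → A))) := fun n C hC => by
  refine TriCat.torsion_of_iso (((singleFunctors (ModuleCat.{u} A)).shiftIso n (b - n) b (by omega)).app _).symm
    fun φ => ?_
  choose m hm using fun i : Fin r =>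
    hC (b - n) (by omega) le_rfl ((theta φ).hom (Pi.single i (1 : A)))
  have : Projective (ModuleCat.of A (Fin r → A)) :=
    (IsProjective.iff_projective (R := A) (Fin r → A)).1 inferInstance
  refine ⟨Finset.univ.sup m, (DerTheta.thetaBij_of_projective (ModuleCat.of A (Fin r → A)) (b - n) C).1 ?_⟩
  show theta (f ^ Finset.univ.sup m • φ) = theta 0
  rw [theta_smul, SiteDer.theta_zero]
  refine ModuleCat.hom_ext ((Pi.basisFun A (Fin r)).ext fun i => ?_)
  obtain ⟨d, hd⟩ := Nat.exists_eq_add_of_le (Finset.le_sup (f := m) (Finset.mem_univ i))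
  rw [Pi.basisFun_apply]
  change f ^ Finset.univ.sup m • (theta φ).hom (Pi.single i 1) = 0
  rw [hd, add_comm, pow_add, mul_smul, hm i, smul_zero]

theorem winHom_cone {f : A} {b k : ℤ} {T : Triangle (Dual.D A)} (hT : T ∈ distTriang _) (hk : 0 ≤ k)
    (h₁ : WinHom f b k T.obj₁) (h₂ : WinHom f b k T.obj₂) : WinHom f b (k + 1) T.obj₃ := fun n C hC φ => by
  have hT' := Triangle.shift_distinguished _ hT n
  let S := (Triangle.shiftFunctor (Dual.D A) n).obj T
  let φ' : S.obj₃ ⟶ C := φ
  obtain ⟨m, hm⟩ := h₂ n C (fun j hj hj' => hC j (by omega) hj') (S.mor₂ ≫ φ')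
  obtain ⟨ψ, hψ⟩ := Triangle.yoneda_exact₃ S hT' (f ^ m • φ') ((Linear.comp_smul _ _ _ _ _ _).trans hm)
  obtain ⟨l, hl⟩ := TriCat.torsion_of_iso ((shiftFunctorAdd (Dual.D A) n 1).app T.obj₁)
    (h₁ (n + 1) C fun j hj hj' => hC j (by omega) (by omega)) ψ
  refine ⟨l + m, ?_⟩
  change f ^ (l + m) • φ' = 0
  rw [pow_add, mul_smul, hψ, ← Linear.comp_smul]
  exact (congrArg (fun χ => S.mor₃ ≫ χ) hl).trans comp_zero

theorem isPerfect_single_free (b : ℤ) (r : ℕ) :
    DRing.IsPerfect A ((singleFunctor (ModuleCat.{u} A) b).obj (ModuleCat.of A (Fin r → A))) :=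
  ⟨(HomologicalComplex.single (ModuleCat.{u} A) (ComplexShape.up ℤ) b).obj (ModuleCat.of A (Fin r → A)), b, b,
    fun i hi => HomologicalComplex.isZero_single_obj_X _ _ _ _ (by omega), fun i => by
      by_cases h : i = b
      · subst h
        have e := (HomologicalComplex.singleObjXSelf (ComplexShape.up ℤ) i (ModuleCat.of A (Fin r → A))).toLinearEquiv
        exact ⟨Module.Finite.equiv e.symm, Module.Projective.of_equiv e.symm⟩
      · haveI := ModuleCat.subsingleton_of_isZero
          (HomologicalComplex.isZero_single_obj_X (ComplexShape.up ℤ) b (ModuleCat.of A (Fin r → A)) i h)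
        exact ⟨inferInstance, inferInstance⟩,
    ⟨((singleFunctorIsoCompQ (ModuleCat.{u} A) b).app _).symm⟩⟩

/-- The factorisation through a perfect nilpotent object in degrees `≤ b`. -/
theorem exists_factor_window (fs : List A) (b : ℤ) (r : ℕ) {C : Dual.D A}
    (hC : ∀ f ∈ fs, ∀ j, b - (fs.length : ℤ) < j → j ≤ b → TorsionAt f C j)
    (φ : (singleFunctor (ModuleCat.{u} A) b).obj (ModuleCat.of A (Fin r → A)) ⟶ C) :
    ∃ (R : Dual.D A) (q : (singleFunctor (ModuleCat.{u} A) b).obj (ModuleCat.of A (Fin r → A)) ⟶ R) (ψ : R ⟶ C),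
      DRing.IsPerfect A R ∧ (∀ f ∈ fs, Nil f R) ∧ φ = q ≫ ψ ∧
        (∀ j, b < j → IsZero ((homologyFunctor (ModuleCat.{u} A) j).obj R)) ∧
        ∀ g, WinHom g b fs.length R := by
  induction fs with
  | nil =>
    exact ⟨_, 𝟙 _, φ, isPerfect_single_free b r, fun f hf => absurd hf List.not_mem_nil,
      (Category.id_comp φ).symm, fun j hj => isZero_of_isLE _ b j hj, fun g => winHom_single g b r⟩
  | cons f fs ih =>
    obtain ⟨R₁, q, ψ, hR₁, hnil, hφ, hle, hwin⟩ := ih fun g hg j hj hj' =>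
      hC g (List.mem_cons_of_mem _ hg) j (by simp only [List.length_cons]; push_cast; omega) hj'
    obtain ⟨k, hk⟩ := TriCat.torsion_of_iso ((shiftFunctorZero (Dual.D A) ℤ).app R₁)
      (hwin f 0 C fun j hj hj' =>
        hC f List.mem_cons_self j (by simp only [List.length_cons]; push_cast; omega) (by omega)) ψ
    obtain ⟨R₂, m₂, m₃, hT⟩ := distinguished_cocone_triangle (f ^ k • 𝟙 R₁)
    obtain ⟨χ, hχ⟩ := TriCat.exists_factor_cone hT (g := f ^ k) ψ (Iso.refl R₁) rfl hk
    refine ⟨R₂, q ≫ m₂, χ, (isPerfect_triangle _ hT).1 hR₁ hR₁, fun g hg => ?_,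
      by rw [hφ, hχ]; exact (Category.assoc _ _ _).symm, fun j hj => ?_, fun g => ?_⟩
    · rcases List.mem_cons.1 hg with rfl | hg
      · exact nil_cone_self ⟨k, rfl⟩ hT
      · exact nil_cone_of_nil hT (hnil g hg) (hnil g hg)
    · exact (HomologySequence.exact₃ _ hT j (j + 1) rfl).isZero_of_both_zeros ((hle j hj).eq_of_src _ _)
        ((hle (j + 1) (by omega)).eq_of_tgt _ _)
    · have := winHom_cone hT (by omega) (hwin g) (hwin g)
      simp only [List.length_cons]
      push_cast
      exact this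

theorem isPseudoCoherent_of_isPerfect' {K : Dual.D A} (h : DRing.IsPerfect A K) (m : ℤ) :
    DRing.IsPseudoCoherent A m K :=
  isPseudoCoherent_of_prime (isPerfect_iff.1 h).1 m

theorem torsionAt_cone {f : A} {T : Triangle (Dual.D A)} (hT : T ∈ distTriang _) (h₁ : Nil f T.obj₁) {j : ℤ}
    (h₂ : TorsionAt f T.obj₂ j) : TorsionAt f T.obj₃ j := fun x => by
  obtain ⟨k, hk⟩ := h₁.isTorsion (j + 1) ((HomologySequence.δ T j (j + 1) rfl).hom x)
  obtain ⟨y, hy⟩ := (ShortComplex.moduleCat_exact_iff _).1 (HomologySequence.exact₃ T hT j (j + 1) rfl) (f ^ k • x)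
    ((map_smul (HomologySequence.δ T j (j + 1) rfl).hom _ x).trans hk)
  obtain ⟨l, hl⟩ := h₂ y
  refine ⟨l + k, ?_⟩
  rw [pow_add, mul_smul, ← hy]
  exact ((map_smul _ _ y).symm.trans (congrArg _ hl)).trans (map_zero _)

/-- **Approximation with support over a ring.** -/
theorem exists_approx_support (fs : List A) (m : ℤ) : ∀ (n : ℕ) (E : Dual.D A),
    (∀ i, m + n ≤ i → IsZero ((homologyFunctor (ModuleCat.{u} A) i).obj E)) → DRing.IsPseudoCoherent A m E →
    (∀ f ∈ fs, ∀ j, m - (fs.length : ℤ) < j → TorsionAt f E j) →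
    ∃ (C Z : Dual.D A) (c : E ⟶ C) (p : C ⟶ Z) (d : Z ⟶ E⟦(1 : ℤ)⟧), Triangle.mk c p d ∈ distTriang _ ∧
      DRing.IsPerfect A Z ∧ (∀ f ∈ fs, Nil f Z) ∧
      ∀ i, m ≤ i → IsZero ((homologyFunctor (ModuleCat.{u} A) i).obj C) := by
  intro n
  induction n with
  | zero =>
    intro E hz _ _
    exact ⟨E, 0, 𝟙 E, 0, 0, contractible_distinguished E, isPerfect_of_isZero (isZero_zero _),
      fun f _ => ⟨0, (isZero_zero (Dual.D A)).eq_of_src _ _⟩, fun i hi => hz i (by omega)⟩
  | succ n ih =>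
    intro E hz hpc htor
    let b : ℤ := m + n
    have : Module.Finite A ((homologyFunctor (ModuleCat.{u} A) b).obj E) :=
      (DerBC.finite_homology E b (isPseudoCoherent_mono (by omega) hpc)).1 fun i hi => hz i (by omega)
    obtain ⟨r, π, hπ⟩ := Module.Finite.exists_fin' A ((homologyFunctor (ModuleCat.{u} A) b).obj E)
    have : Projective (ModuleCat.of A (Fin r → A)) :=
      (IsProjective.iff_projective (R := A) (Fin r → A)).1 inferInstance
    obtain ⟨φ, hφ⟩ := (DerTheta.thetaBij_of_projective (ModuleCat.of A (Fin r → A)) b E).2 (ModuleCat.ofHom π)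
    obtain ⟨R, q, ψ, hR, hnil, hfac, hle, -⟩ := exists_factor_window fs b r
      (fun f hf j hj hj' => htor f hf j (by omega)) φ
    have hsurj : Function.Surjective ((homologyFunctor (ModuleCat.{u} A) b).map ψ).hom := fun x => by
      obtain ⟨y, rfl⟩ := hπ x
      have h1 : theta q ≫ (homologyFunctor (ModuleCat.{u} A) b).map ψ = ModuleCat.ofHom π := by
        rw [← SiteDer.theta_comp, ← hfac]; exact hφ
      exact ⟨(theta q).hom y, LinearMap.congr_fun (congrArg ModuleCat.Hom.hom h1) y⟩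
    obtain ⟨C₁, c₁, d₁, hT⟩ := distinguished_cocone_triangle ψ
    have hC₁ : ∀ i, m + n ≤ i → IsZero ((homologyFunctor (ModuleCat.{u} A) i).obj C₁) := fun i hi => by
      refine (HomologySequence.exact₃ _ hT i (i + 1) rfl).isZero_of_both_zeros ?_
        ((hle (i + 1) (by omega)).eq_of_tgt _ _)
      rcases hi.lt_or_eq with h | h
      · exact (hz i (by omega)).eq_of_src _ _
      · subst h
        have : Epi ((homologyFunctor (ModuleCat.{u} A) b).map ψ) := (ModuleCat.epi_iff_surjective _).2 hsurj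
        change (homologyFunctor (ModuleCat.{u} A) b).map c₁ = 0
        rw [← cancel_epi ((homologyFunctor (ModuleCat.{u} A) b).map ψ), comp_zero, ← Functor.map_comp,
          show ψ ≫ c₁ = 0 from comp_distTriang_mor_zero₁₂ _ hT, Functor.map_zero]
    obtain ⟨C, Z, c, p, d, hT', hZ, hnilZ, hC⟩ := ih C₁ hC₁
      ((DerBC.isPseudoCoherent_triangle _ hT m).1 (isPseudoCoherent_of_isPerfect' hR (m + 1)) hpc)
      (fun f hf j hj => torsionAt_cone hT (hnil f hf) (htor f hf j hj))
    have hT₁ := rot_of_distTriang _ hT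
    obtain ⟨Z', p', d', hT''⟩ := distinguished_cocone_triangle (c₁ ≫ c)
    have ho := (Triangulated.someOctahedron rfl hT₁ hT' hT'').mem
    exact ⟨C, Z', c₁ ≫ c, p', d', hT'', (isPerfect_triangle _ ho).2.1 (isPerfect_shift hR 1) hZ,
      fun f hf => nil_of_torsionHom ((TriCat.thick_torsionHom f _).ext₂ _ ho
        ((TriCat.thick_torsionHom f _).shift 1 ((hnil f hf).torsionHom _)) ((hnilZ f hf).torsionHom _)), hC⟩

/-- Approximation with support, in the form of a map from a perfect object. -/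
theorem exists_approx_support' (fs : List A) (m : ℤ) (E : Dual.D A) (hpc : DRing.IsPseudoCoherent A m E)
    (htor : ∀ f ∈ fs, ∀ j, m - (fs.length : ℤ) < j → TorsionAt f E j) :
    ∃ (P C : Dual.D A) (α : P ⟶ E) (c : E ⟶ C) (d : C ⟶ P⟦(1 : ℤ)⟧), Triangle.mk α c d ∈ distTriang _ ∧
      DRing.IsPerfect A P ∧ (∀ f ∈ fs, Nil f P) ∧
      ∀ i, m ≤ i → IsZero ((homologyFunctor (ModuleCat.{u} A) i).obj C) := by
  obtain ⟨b, hb, hb'⟩ := exists_bound hpc
  obtain ⟨n, hn⟩ : ∃ n : ℕ, b + 1 ≤ m + n := ⟨(b + 1 - m).toNat, by omega⟩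
  obtain ⟨C, Z, c, p, d, hT, hZ, hnil, hC⟩ := exists_approx_support fs m n E
    (fun i hi => by haveI := hb' i (by omega); exact ModuleCat.isZero_of_subsingleton _) hpc htor
  have hT' := inv_rot_of_distTriang _ hT
  exact ⟨_, C, _, c, _, hT', isPerfect_shift hZ (-1), fun f hf =>
    nil_of_torsionHom ((TriCat.thick_torsionHom f _).shift (-1) ((hnil f hf).torsionHom _)), hC⟩

end GrothLib.DR
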