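import Groth.Agent.Lib.DCxRing.Covers
import Groth.Agent.Lib.DCxRing.Perfect

/-!
# Derived base change, tor amplitude and perfectness
-/

universe u

open CategoryTheory Limits HomologicalComplex CochainComplex TensorProduct

attribute [local instance] HasDerivedCategory.standard

namespace GrothLib.DR

variable {A B : Type u} [CommRing A] [CommRing B] (φ : A →+* B)

/-- Base change inverts quasi-isomorphisms of bounded above flat complexes. -/
theorem isIso_bc_map {P Q : DRing.Cx A} (f : P ⟶ Q) {b c : ℤ} (hb : DRing.VanishesAbove P b)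
    (hP : DRing.TermwiseFlat P) (hc : DRing.VanishesAbove Q c) (hQ : DRing.TermwiseFlat Q)
    (hf : IsIso (DerivedCategory.Q.map f)) : IsIso (DerivedCategory.Q.map ((bc φ).map f)) := by
  have hex : ∀ i, (mappingCone ((bc φ).map f)).ExactAt i := fun i => by
    letI := φ.toAlgebra
    have hCb : DRing.VanishesAbove (mappingCone f) (max b c) := fun j hj =>
      isZero_cone_X f (hb (j + 1) (by omega)) (hc j (by omega))
    exact ((exactAt_bc_iff φ (mappingCone f) i).2 (tExact_of_exact hCb (flat_cone f hP hQ) (n := i)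
      (fun j _ => exactAt_cone_of_quasiIso f hf j) i le_rfl B)).of_iso
        (mappingCone.mapHomologicalComplexIso f (ModuleCat.extendScalars.{u, u, u} φ))
  rw [DerivedCategory.isIso_iff]
  exact fun i => ((cone_exact_iff ((bc φ).map f) (i - 1)).1 fun j _ => hex j).1 i (by omega)

variable [DRing.HasLBaseChange φ]

/-- Derived base change of a bounded above flat complex is termwise base change. -/
theorem nonempty_lBase_iso {P : DRing.Cx A} {b : ℤ} (hb : DRing.VanishesAbove P b)
    (hP : DRing.TermwiseFlat P) :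
    Nonempty ((DRing.LBaseChange φ).obj (DRing.toD P) ≅ DRing.toD ((bc φ).obj P)) := by
  obtain ⟨R, hR, hRp, ⟨e⟩⟩ := exists_projective_rep (DRing.toD P) b fun i hi =>
    (exactAt_iff P i).1 (ShortComplex.exact_of_isZero_X₂ _ (hb i hi))
  haveI := isKProjective R b hR hRp
  obtain ⟨f, hf⟩ := exists_lift R e.hom
  have hiso : IsIso (DerivedCategory.Q.map f) := by rw [hf]; infer_instance
  haveI := isIso_bc_map φ f hR (termwiseFlat_of_projective hRp) hb hP hiso
  haveI := DerBC.isIso_cmp φ R
  exact ⟨(DRing.LBaseChange φ).mapIso e.symm ≪≫ asIso ((DerBC.cmp φ).app R) ≪≫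
    asIso (DerivedCategory.Q.map ((bc φ).map f))⟩

omit [DRing.HasLBaseChange φ] in
lemma termwiseFlat_bc {P : DRing.Cx A} (hP : DRing.TermwiseFlat P) :
    DRing.TermwiseFlat ((bc φ).obj P) := fun i => by
  letI := φ.toAlgebra
  haveI := hP i
  exact inferInstanceAs (Module.Flat B (B ⊗[A] P.X i))

omit [DRing.HasLBaseChange φ] in
lemma termwiseFiniteProjective_bc {P : DRing.Cx A} (hP : DRing.TermwiseFiniteProjective P) :
    DRing.TermwiseFiniteProjective ((bc φ).obj P) := fun i => by
  letI := φ.toAlgebra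
  haveI := (hP i).1
  haveI := (hP i).2
  exact ⟨inferInstanceAs (Module.Finite B (B ⊗[A] P.X i)),
    inferInstanceAs (Module.Projective B (B ⊗[A] P.X i))⟩

theorem hasTorAmplitudeIn_lBase {K : Dual.D A} {a b : ℤ} (h : DRing.HasTorAmplitudeIn A a b K) :
    DRing.HasTorAmplitudeIn B a b ((DRing.LBaseChange φ).obj K) := by
  obtain ⟨E, hv, hf, ⟨e⟩⟩ := h
  obtain ⟨e'⟩ := nonempty_lBase_iso φ (fun i hi => hv i (Or.inr hi)) hf
  exact ⟨(bc φ).obj E, vanishesOutside_map _ hv, termwiseFlat_bc φ hf,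
    ⟨e'.symm ≪≫ (DRing.LBaseChange φ).mapIso e⟩⟩

theorem isPerfect_lBase {K : Dual.D A} (h : DRing.IsPerfect A K) :
    DRing.IsPerfect B ((DRing.LBaseChange φ).obj K) := by
  obtain ⟨E, a, b, hv, hf, ⟨e⟩⟩ := h
  obtain ⟨e'⟩ := nonempty_lBase_iso φ (fun i hi => hv i (Or.inr hi))
    (termwiseFlat_of_projective fun i => (hf i).2)
  exact ⟨(bc φ).obj E, a, b, vanishesOutside_map _ hv, termwiseFiniteProjective_bc φ hf,
    ⟨e'.symm ≪≫ (DRing.LBaseChange φ).mapIso e⟩⟩

end GrothLib.DR
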