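import Groth.Agent.Lib.DCxRing.Covers
import Groth.Agent.Lib.DCxRing.Perfect
import Mathlib.RingTheory.TensorProduct.Finite

/-!
# Descent of pseudo-coherence, tor amplitude and perfectness along flat covers
-/

universe u

open CategoryTheory Limits HomologicalComplex CochainComplex TensorProduct

attribute [local instance] HasDerivedCategory.standard

namespace GrothLib.DR

variable {A : Type u} [CommRing A]

lemma exists_fg_surjective {B : Type u} [CommRing B] (φ : A →+* B) (M : ModuleCat.{u} A)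
    (h : Module.Finite B ((ModuleCat.extendScalars.{u, u, u} φ).obj M)) :
    ∃ N : Submodule A M, N.FG ∧ ∀ N' : Submodule A M, N ≤ N' →
      IsZero ((ModuleCat.extendScalars.{u, u, u} φ).obj (ModuleCat.of A (M ⧸ N'))) := by
  letI := φ.toAlgebra
  haveI : Module.Finite B (B ⊗[A] M) := h
  obtain ⟨n, s, hs⟩ := Module.Finite.exists_fin (R := B) (M := B ⊗[A] M)
  choose k t m hst using fun i : Fin n => TensorProduct.exists_sum_tmul_eq (s i)
  refine ⟨Submodule.span A (Set.range fun p : Σ i, Fin (k i) => m p.1 p.2),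
    Submodule.fg_span (Set.finite_range _), fun N' hN' => ?_⟩
  haveI : Subsingleton (B ⊗[A] (M ⧸ N')) := by
    have h0 : ∀ x : B ⊗[A] M, N'.mkQ.baseChange B x = 0 := by
      intro x
      have hx : x ∈ LinearMap.ker (N'.mkQ.baseChange B) := by
        refine (show Submodule.span B (Set.range s) ≤ _ from Submodule.span_le.2 ?_) (hs ▸ trivial)
        rintro _ ⟨i, rfl⟩
        show N'.mkQ.baseChange B (s i) = 0
        rw [hst i, map_sum]
        refine Finset.sum_eq_zero fun j _ => ?_
        have h1 : N'.mkQ (m i j) = 0 :=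
          (Submodule.Quotient.mk_eq_zero _).2 (hN' (Submodule.subset_span ⟨⟨i, j⟩, rfl⟩))
        rw [LinearMap.baseChange_tmul, h1, TensorProduct.tmul_zero]
      exact hx
    have hsurj : Function.Surjective (N'.mkQ.baseChange B) :=
      LinearMap.lTensor_surjective B (Submodule.mkQ_surjective N')
    refine ⟨fun x y => ?_⟩
    obtain ⟨x, rfl⟩ := hsurj x
    obtain ⟨y, rfl⟩ := hsurj y
    rw [h0, h0]
  exact @ModuleCat.isZero_of_subsingleton B _
    ((ModuleCat.extendScalars.{u, u, u} φ).obj (ModuleCat.of A (M ⧸ N'))) ‹_›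

variable {ι : Type} [Finite ι] {S : ι → Type u} [∀ i, CommRing (S i)] {φ : ∀ i, A →+* S i}

/-- Finiteness descends along a finite cover. -/
theorem finite_of_covers (hc : Covers φ) (M : ModuleCat.{u} A)
    (h : ∀ i, Module.Finite (S i) ((ModuleCat.extendScalars.{u, u, u} (φ i)).obj M)) :
    Module.Finite A M := by
  choose N hN hN' using fun i => exists_fg_surjective (φ i) M (h i)
  let T : Submodule A M := ⨆ i, N i
  haveI : Subsingleton (M ⧸ T) :=
    ModuleCat.subsingleton_of_isZero (hc (ModuleCat.of A (M ⧸ T)) fun i => hN' i T (le_iSup N i))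
  have hT : T = ⊤ := Submodule.Quotient.subsingleton_iff.1 this
  exact ⟨hT ▸ Submodule.fg_iSup _ hN⟩

/-- Cohomology bounds descend. -/
theorem exists_bound_of_covers (hc : Covers φ) (hflat : ∀ i, (φ i).Flat) (K : DRing.Cx A)
    (h : ∀ i, ∃ b : ℤ, ∀ j, b < j → Subsingleton (Dual.HD (S i) (DRing.toD ((bc (φ i)).obj K)) j)) :
    ∃ b : ℤ, ∀ j, b < j → Subsingleton (Dual.HD A (DRing.toD K) j) := by
  choose b hb using h
  obtain ⟨M, hM⟩ := (Set.finite_range b).bddAbove
  refine ⟨M, fun j hj => (exactAt_iff K j).1 ((exactAt_iff_isZero_homology _ _).2 (hc _ fun i => ?_))⟩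
  haveI := preservesFiniteLimits_extendScalars (φ i) (hflat i)
  haveI := (ModuleCat.extendRestrictScalarsAdj.{u} (φ i)).leftAdjoint_preservesColimits
  exact ((exactAt_iff_isZero_homology _ _).1 ((exactAt_iff _ j).2
    (hb i j (lt_of_le_of_lt (hM ⟨i, rfl⟩) hj)))).of_iso
      (mapHomologyIso (ModuleCat.extendScalars.{u, u, u} (φ i)) K j).symm

/-- Pseudo-coherence descends along a finite flat cover. -/
theorem isPseudoCoherent_of_covers (hc : Covers φ) (hflat : ∀ i, (φ i).Flat) (K : DRing.Cx A) (m : ℤ)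
    (h : ∀ i, DRing.IsPseudoCoherent (S i) m (DRing.toD ((bc (φ i)).obj K))) :
    DRing.IsPseudoCoherent A m (DRing.toD K) := by
  obtain ⟨b, hb⟩ := exists_bound_of_covers hc hflat K fun i =>
    let ⟨b, _, hb⟩ := exists_bound (h i)
    ⟨b, hb⟩
  obtain ⟨P, hP, -, ⟨eP⟩⟩ := exists_projective_rep (DRing.toD K) b hb
  refine DerBC.isPseudoCoherent_of_iso eP (isPseudoCoherent_of_canStep hP m fun j hj _ E f hv hf hex =>
    finite_of_covers hc _ fun i => ?_)
  let F := ModuleCat.extendScalars.{u, u, u} (φ i)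
  haveI := preservesFiniteLimits_extendScalars (φ i) (hflat i)
  haveI := (ModuleCat.extendRestrictScalarsAdj.{u} (φ i)).leftAdjoint_preservesColimits
  have hfin := finite_cone ((bc (φ i)).map f) (vanishesOutside_map F hv)
    (fun k => DerBC.finiteFree_extendScalars (φ i) (E.X k) (hf k).1 (hf k).2)
    (isPseudoCoherent_mono (show m ≤ j - 1 by omega)
      (DerBC.isPseudoCoherent_of_iso (toDMapCongr F eP).symm (h i)))
    fun k hk => (exactAt_map_exact F (hex k hk)).of_iso (mappingCone.mapHomologicalComplexIso f F)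
  exact @Module.Finite.equiv _ _ _ _ _ _ _ _ hfin
    (((HomologicalComplex.homologyFunctor _ _ (j - 1)).mapIso
      (mappingCone.mapHomologicalComplexIso f F)).symm ≪≫
        mapHomologyIso F (mappingCone f) (j - 1)).toLinearEquiv

/-- Tor amplitude descends along a finite flat cover. -/
theorem hasTorAmplitudeIn_of_covers (hc : Covers φ) (hflat : ∀ i, (φ i).Flat) (K : DRing.Cx A) (a b : ℤ)
    (h : ∀ i, DRing.HasTorAmplitudeIn (S i) a b (DRing.toD ((bc (φ i)).obj K))) :
    DRing.HasTorAmplitudeIn A a b (DRing.toD K) := by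
  obtain ⟨c, hcb⟩ := exists_bound_of_covers hc hflat K fun i =>
    ⟨b, fun j hj => subsingleton_HD_of_amplitude (h i) j (Or.inr hj)⟩
  obtain ⟨P, hP, hPp, ⟨eP⟩⟩ := exists_projective_rep (DRing.toD K) c hcb
  have hPf := termwiseFlat_of_projective hPp
  refine hasTorAmplitudeIn_of_iso eP ((hasTorAmplitudeIn_iff hP hPf a b).2 fun M _ _ j hj => ?_)
  rw [tExact_iff, exactAt_iff_isZero_homology]
  refine hc _ fun i => ?_
  let F := ModuleCat.extendScalars.{u, u, u} (φ i)
  haveI := preservesFiniteLimits_extendScalars (φ i) (hflat i)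
  haveI := (ModuleCat.extendRestrictScalarsAdj.{u} (φ i)).leftAdjoint_preservesColimits
  have hT := (hasTorAmplitudeIn_iff (P := (bc (φ i)).obj P) (c := c) (fun k hk => F.map_isZero (hP k hk))
    (by letI := (φ i).toAlgebra
        intro k
        haveI := hPf k
        exact inferInstanceAs (Module.Flat (S i) (S i ⊗[A] P.X k))) a b).1
    (hasTorAmplitudeIn_of_iso (toDMapCongr F eP).symm (h i))
    (F.obj (ModuleCat.of A M)) j hj
  exact ((exactAt_iff_isZero_homology _ _).1 ((tExact_bc_iff (φ i) P (ModuleCat.of A M) j).1 hT)).of_iso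
    (mapHomologyIso F _ j).symm

/-- Perfectness descends along a finite flat cover. -/
theorem isPerfect_of_covers (hc : Covers φ) (hflat : ∀ i, (φ i).Flat) (K : DRing.Cx A)
    (h : ∀ i, DRing.IsPerfect (S i) (DRing.toD ((bc (φ i)).obj K))) :
    DRing.IsPerfect A (DRing.toD K) := by
  choose hpc a b hT using fun i => isPerfect_iff.1 (h i)
  obtain ⟨a₀, ha⟩ := (Set.finite_range a).bddBelow
  obtain ⟨b₀, hb⟩ := (Set.finite_range b).bddAbove
  exact isPerfect_iff.2 ⟨isPseudoCoherent'_of_forall fun m =>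
    isPseudoCoherent_of_covers hc hflat K m fun i => isPseudoCoherent_of_prime (hpc i) m,
    a₀, b₀, hasTorAmplitudeIn_of_covers hc hflat K a₀ b₀ fun i =>
      hasTorAmplitudeIn_mono (ha ⟨i, rfl⟩) (hb ⟨i, rfl⟩) (hT i)⟩

end GrothLib.DR
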