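import Groth.Prelude.Def_DDual2
import Groth.Agent.Lib.DCxRing.Devissage
import Groth.Agent.Lib.DCxRing.BC
import Mathlib.Algebra.Homology.DerivedCategory.SingleTriangle

/-!
# Pseudo-coherence and restriction of scalars
-/

universe u

open CategoryTheory Limits HomologicalComplex CochainComplex Pretriangulated

attribute [local instance] HasDerivedCategory.standard

namespace GrothLib.DR

variable {A B : Type u} [CommRing A] [CommRing B]

lemma isPseudoCoherent'_of_shortExact {S : ShortComplex (ModuleCat.{u} A)} (hS : S.ShortExact) :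
    (DRing.IsPseudoCoherentModule' A S.X₁ → DRing.IsPseudoCoherentModule' A S.X₂ →
        DRing.IsPseudoCoherentModule' A S.X₃) ∧
      (DRing.IsPseudoCoherentModule' A S.X₁ → DRing.IsPseudoCoherentModule' A S.X₃ →
        DRing.IsPseudoCoherentModule' A S.X₂) :=
  ⟨(isPseudoCoherent'_triangle _ hS.singleTriangle_distinguished).1,
    (isPseudoCoherent'_triangle _ hS.singleTriangle_distinguished).2.1⟩

lemma isPseudoCoherentModule'_of_equiv {M N : Type u} [AddCommGroup M] [Module A M] [AddCommGroup N]
    [Module A N] (e : M ≃ₗ[A] N) (h : DRing.IsPseudoCoherentModule' A M) :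
    DRing.IsPseudoCoherentModule' A N :=
  isPseudoCoherent'_of_iso ((DerivedCategory.singleFunctor (ModuleCat.{u} A) 0).mapIso e.toModuleIso) h

lemma isPseudoCoherentModule'_of_subsingleton (M : Type u) [AddCommGroup M] [Module A M]
    [Subsingleton M] : DRing.IsPseudoCoherentModule' A M :=
  isPseudoCoherent'_of_forall fun m => isPseudoCoherent_of_vanishing _ m fun i _ =>
    subsingleton_HD_of_isZero (Functor.map_isZero _ (ModuleCat.isZero_of_subsingleton _)) i

lemma isPseudoCoherentModule'_of_finite_free (M : Type u) [AddCommGroup M] [Module A M]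
    [Module.Finite A M] [Module.Free A M] : DRing.IsPseudoCoherentModule' A M := by
  refine ⟨(HomologicalComplex.single (ModuleCat.{u} A) (ComplexShape.up ℤ) 0).obj (ModuleCat.of A M), 0,
    fun i hi => isZero_single_obj_X _ _ _ _ (by omega), fun i => ?_, ⟨((SingleFunctors.evaluation _ _ 0).mapIso
    (DerivedCategory.singleFunctorsPostcompQIso (ModuleCat.{u} A))).app (ModuleCat.of A M) |>.symm⟩⟩
  by_cases h : i = 0
  · subst h
    let e := (singleObjXSelf (ComplexShape.up ℤ) 0 (ModuleCat.of A M)).toLinearEquiv.symm
    exact ⟨Module.Finite.equiv e, Module.Free.of_equiv e⟩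
  · haveI := ModuleCat.subsingleton_of_isZero
      (isZero_single_obj_X (ComplexShape.up ℤ) 0 (ModuleCat.of A M) i h)
    exact ⟨inferInstance, inferInstance⟩

lemma isPseudoCoherentModule'_prod (M N : Type u) [AddCommGroup M] [Module A M] [AddCommGroup N]
    [Module A N] (hM : DRing.IsPseudoCoherentModule' A M) (hN : DRing.IsPseudoCoherentModule' A N) :
    DRing.IsPseudoCoherentModule' A (M × N) := by
  let S := ShortComplex.mk (ModuleCat.ofHom (LinearMap.inl A M N)) (ModuleCat.ofHom (LinearMap.snd A M N))
    (by ext; rfl)
  have hS : S.ShortExact :=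
    { exact := (ShortComplex.ShortExact.moduleCat_exact_iff_function_exact _).2 Function.Exact.inl_snd
      mono_f := (ModuleCat.mono_iff_injective _).2 LinearMap.inl_injective
      epi_g := (ModuleCat.epi_iff_surjective _).2 LinearMap.snd_surjective }
  exact (isPseudoCoherent'_of_shortExact hS).2 hM hN

variable (φ : A →+* B)

/-- The hypothesis that `B` is pseudo-coherent over `A`. -/
def RingPseudoCoherent : Prop :=
  DRing.IsPseudoCoherentModule' A ((ModuleCat.restrictScalars.{u} φ).obj (ModuleCat.of B B))

variable {φ}

lemma isPseudoCoherentModule'_restrict (hB : RingPseudoCoherent φ) (M : ModuleCat.{u} B)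
    (hf : Module.Finite B M) (hfr : Module.Free B M) :
    DRing.IsPseudoCoherentModule' A ((ModuleCat.restrictScalars.{u} φ).obj M) := by
  let F := ModuleCat.restrictScalars.{u} φ
  have key : ∀ n : ℕ, DRing.IsPseudoCoherentModule' A (F.obj (ModuleCat.of B (Fin n → B))) := by
    intro n
    induction n with
    | zero =>
      haveI : Subsingleton (F.obj (ModuleCat.of B (Fin 0 → B))) :=
        inferInstanceAs (Subsingleton (Fin 0 → B))
      exact isPseudoCoherentModule'_of_subsingleton _
    | succ n ih =>
      exact isPseudoCoherentModule'_of_equiv (A := A)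
        (M := F.obj (ModuleCat.of B B) × F.obj (ModuleCat.of B (Fin n → B)))
        { toFun := fun p => (Fin.cons (α := fun _ => B) p.1 p.2 : Fin (n + 1) → B)
          map_add' := fun p q => funext fun i => Fin.cases rfl (fun j => rfl) i
          map_smul' := fun r p => funext fun i => Fin.cases rfl (fun j => rfl) i
          invFun := fun f : Fin (n + 1) → B => (f 0, Fin.tail f)
          left_inv := fun p => Prod.ext rfl (funext fun j => rfl)
          right_inv := fun f => funext fun i => Fin.cases rfl (fun j => rfl) i }
        (isPseudoCoherentModule'_prod _ _ hB ih)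
  let e : M ≃ₗ[B] (Fin (Fintype.card (Module.Free.ChooseBasisIndex B M)) → B) :=
    ((Module.Free.chooseBasis B M).reindex (Fintype.equivFin _)).equivFun
  exact isPseudoCoherentModule'_of_equiv (F.mapIso e.toModuleIso).toLinearEquiv.symm (key _)

/-- Restriction of scalars of complexes and derived categories. -/
noncomputable def restrictToDIso (φ : A →+* B) (P : DRing.Cx B) :
    (DRing.restrictD φ).obj (DRing.toD P) ≅ DRing.toD ((DRing.restrictCx φ).obj P) :=
  (ModuleCat.restrictScalars.{u} φ).mapDerivedCategoryFactors.app P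

theorem isPseudoCoherent_restrictCx_iff (hB : RingPseudoCoherent φ) {P : DRing.Cx B} {b : ℤ}
    (hP : DRing.VanishesAbove P b) (m : ℤ) :
    DRing.IsPseudoCoherent B m (DRing.toD P) ↔
      DRing.IsPseudoCoherent A m (DRing.toD ((DRing.restrictCx φ).obj P)) := by
  let F := ModuleCat.restrictScalars.{u} φ
  have hFE : ∀ (E : DRing.Cx B) (a' b' k : ℤ), DRing.VanishesOutside E a' b' →
      DRing.TermwiseFiniteFree E →
      DRing.IsPseudoCoherent A k (DRing.toD ((F.mapHomologicalComplex (ComplexShape.up ℤ)).obj E)) :=
    fun E a' b' k hv hf => isPseudoCoherent_of_termwise (b := b')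
      (fun i hi => F.map_isZero (hv i (Or.inr hi))) fun i _ _ => isPseudoCoherent_of_prime
        (isPseudoCoherentModule'_restrict hB (E.X i) (hf i).1 (hf i).2) _
  have hex : ∀ {E : DRing.Cx B} (f : E ⟶ P) (i : ℤ), (mappingCone f).ExactAt i →
      (mappingCone ((F.mapHomologicalComplex (ComplexShape.up ℤ)).map f)).ExactAt i := fun f i h =>
    (exactAt_map_exact F h).of_iso (mappingCone.mapHomologicalComplexIso f F)
  constructor
  · intro h
    obtain ⟨E, a', b', f, hv, hf, he⟩ := exists_cone_of_isPseudoCoherent h
    exact (DerBC.isPseudoCoherent_triangle _ (DerivedCategory.mappingCone_triangle_distinguished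
      ((F.mapHomologicalComplex (ComplexShape.up ℤ)).map f)) m).2.1 (hFE E a' b' m hv hf)
      (isPseudoCoherent_of_vanishing _ m fun i hi => (exactAt_iff _ i).1 (hex f i (he i hi)))
  · intro h
    refine isPseudoCoherent_of_canStep hP m fun k hk _ E f hv hf he => ?_
    have hC := (DerBC.isPseudoCoherent_triangle _ (DerivedCategory.mappingCone_triangle_distinguished
      ((F.mapHomologicalComplex (ComplexShape.up ℤ)).map f)) (k - 1)).1 (hFE E k b _ hv hf)
      (isPseudoCoherent_mono (show m ≤ k - 1 by omega) h)
    have hfin : Module.Finite A ((DerivedCategory.homologyFunctor (ModuleCat.{u} A) (k - 1)).obj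
        (DRing.toD (mappingCone ((F.mapHomologicalComplex (ComplexShape.up ℤ)).map f)))) :=
      (DerBC.finite_homology _ (k - 1) hC).1 fun i hi => (exactAt_cone_iff _ i).1 (hex f i (he i (by omega)))
    have hfin' : Module.Finite A (F.obj ((mappingCone f).homology (k - 1))) :=
      @Module.Finite.equiv _ _ _ _ _ _ _ _ hfin (homologyIso _ (k - 1) ≪≫
        ((HomologicalComplex.homologyFunctor _ _ (k - 1)).mapIso
          (mappingCone.mapHomologicalComplexIso f F)).symm ≪≫
        mapHomologyIso F (mappingCone f) (k - 1)).toLinearEquiv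
    letI := φ.toAlgebra
    letI : Module A ((mappingCone f).homology (k - 1)) := Module.compHom _ φ
    haveI : IsScalarTower A B ((mappingCone f).homology (k - 1)) :=
      IsScalarTower.of_algebraMap_smul fun r x => rfl
    haveI : Module.Finite A ((mappingCone f).homology (k - 1)) := hfin'
    exact Module.Finite.of_restrictScalars_finite A B _

/-- Pseudo-coherence can be tested after restriction to a ring over which `B` is pseudo-coherent. -/
theorem isPseudoCoherent_restrictD_iff (hB : RingPseudoCoherent φ) (K : Dual.D B) (m : ℤ) :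
    DRing.IsPseudoCoherent B m K ↔ DRing.IsPseudoCoherent A m ((DRing.restrictD φ).obj K) := by
  have main : ∀ b : ℤ, (∀ i, b < i → Subsingleton (Dual.HD B K i)) →
      (DRing.IsPseudoCoherent B m K ↔ DRing.IsPseudoCoherent A m ((DRing.restrictD φ).obj K)) := by
    intro b hb
    obtain ⟨P, hP, -, ⟨e⟩⟩ := exists_projective_rep K b hb
    let e' : DRing.toD ((DRing.restrictCx φ).obj P) ≅ (DRing.restrictD φ).obj K :=
      (restrictToDIso φ P).symm ≪≫ (DRing.restrictD φ).mapIso e
    exact ⟨fun h => DerBC.isPseudoCoherent_of_iso e'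
        ((isPseudoCoherent_restrictCx_iff hB hP m).1 (DerBC.isPseudoCoherent_of_iso e.symm h)),
      fun h => DerBC.isPseudoCoherent_of_iso e
        ((isPseudoCoherent_restrictCx_iff hB hP m).2 (DerBC.isPseudoCoherent_of_iso e'.symm h))⟩
  refine ⟨fun h => ?_, fun h => ?_⟩
  · obtain ⟨b, -, hb⟩ := exists_bound h
    exact (main b hb).1 h
  · obtain ⟨b, -, hb⟩ := exists_bound h
    refine (main b fun i hi => ?_).2 h
    obtain ⟨e⟩ := DerTrunc.nonempty_homology_mapDerivedCategory (ModuleCat.restrictScalars.{u} φ) K i
    exact @Equiv.subsingleton _ _ e.toLinearEquiv.toEquiv.symm (hb i hi)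

theorem isPseudoCoherent'_restrictD_iff (hB : RingPseudoCoherent φ) (K : Dual.D B) :
    DRing.IsPseudoCoherent' B K ↔ DRing.IsPseudoCoherent' A ((DRing.restrictD φ).obj K) := by
  simp only [isPseudoCoherent'_iff, isPseudoCoherent_restrictD_iff hB]

lemma ringPseudoCoherent_algebraMap [Algebra A B] (hB : DRing.IsPseudoCoherentModule' A B) :
    RingPseudoCoherent (algebraMap A B) :=
  isPseudoCoherentModule'_of_equiv (M := B)
    (N := (ModuleCat.restrictScalars.{u} (algebraMap A B)).obj (ModuleCat.of B B))
    { toFun := fun x => x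
      map_add' := fun _ _ => rfl
      map_smul' := fun r x => (Algebra.smul_def r x : (r • x : B) = algebraMap A B r * x)
      invFun := fun x => x
      left_inv := fun _ => rfl
      right_inv := fun _ => rfl } hB

end GrothLib.DR
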