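import Groth.Agent.Lib.DCxRing.Flat
import Groth.Agent.Lib.DCxRing.Stupid
import Mathlib.Algebra.Category.ModuleCat.EnoughInjectives

/-!
# Morphisms to a module placed in one degree; projective amplitude
-/

set_option autoImplicit false
universe u

open CategoryTheory CategoryTheory.Limits HomologicalComplex CochainComplex Pretriangulated

attribute [local instance] HasDerivedCategory.standard

namespace GrothLib.DR

variable {A : Type u} [CommRing A]

/-- The chain map to a single complex given by a linear map killing boundaries. -/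
noncomputable def toSingleMap (C : DRing.Cx A) (n : ℤ) {M : Type u} [AddCommGroup M] [Module A M]
    (g : C.X n →ₗ[A] M) (hg : ∀ x, g ((C.d (n - 1) n).hom x) = 0) :
    C ⟶ (HomologicalComplex.single (ModuleCat.{u} A) (ComplexShape.up ℤ) n).obj (ModuleCat.of A M) :=
  mkHomToSingle (ModuleCat.ofHom g) fun i hi => by
    obtain rfl : i = n - 1 := by simp only [ComplexShape.up_Rel] at hi; omega
    exact ModuleCat.hom_ext (LinearMap.ext fun x => hg x)

/-- On the class of a cycle the map to the single complex is evaluation. -/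
theorem toSingleMap_homology_iff (C : DRing.Cx A) (n : ℤ) {M : Type u} [AddCommGroup M] [Module A M]
    (g : C.X n →ₗ[A] M) (hg : ∀ x, g ((C.d (n - 1) n).hom x) = 0) (c : C.cycles n) :
    HomologicalComplex.homologyMap (toSingleMap C n g hg) n (C.homologyπ n c) = 0 ↔ g (C.iCycles n c) = 0 := by
  let S := (HomologicalComplex.single (ModuleCat.{u} A) (ComplexShape.up ℤ) n).obj (ModuleCat.of A M)
  let φ := toSingleMap C n g hg
  haveI : IsIso (S.homologyπ n) := S.isIso_homologyπ (n - 1) n (by simp)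
    ((isZero_single_obj_X _ _ _ _ (by omega)).eq_of_src _ _)
  haveI : Mono (S.iCycles n) := inferInstance
  have h1 : HomologicalComplex.homologyMap φ n (C.homologyπ n c) =
      S.homologyπ n (HomologicalComplex.cyclesMap φ n c) :=
    ConcreteCategory.congr_hom (HomologicalComplex.homologyπ_naturality φ n) c
  have h2 : S.iCycles n (HomologicalComplex.cyclesMap φ n c) = φ.f n (C.iCycles n c) :=
    ConcreteCategory.congr_hom (HomologicalComplex.cyclesMap_i φ n) c
  have h3 : φ.f n (C.iCycles n c) = (singleObjXSelf (ComplexShape.up ℤ) n (ModuleCat.of A M)).inv (g (C.iCycles n c)) := by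
    have : φ.f n = ModuleCat.ofHom g ≫ (singleObjXSelf (ComplexShape.up ℤ) n (ModuleCat.of A M)).inv :=
      mkHomToSingle_f _ _
    rw [this]
    rfl
  rw [h1, map_eq_zero_iff _ (ConcreteCategory.bijective_of_isIso (S.homologyπ n)).1,
    ← map_eq_zero_iff _ ((ModuleCat.mono_iff_injective (S.iCycles n)).1 inferInstance), h2, h3,
    map_eq_zero_iff _ (ConcreteCategory.bijective_of_isIso _).1]

/-- Every cycle comes from the cycles object. -/
theorem exists_cycle (C : DRing.Cx A) (n : ℤ) (x : C.X n) (hx : (C.d n (n + 1)).hom x = 0) :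
    ∃ c : C.cycles n, C.iCycles n c = x :=
  (ShortComplex.moduleCat_exact_iff _).1 (ShortComplex.exact_of_f_is_kernel (ShortComplex.mk _ _
    (C.iCycles_d n (n + 1))) (C.cyclesIsKernel n (n + 1) (by simp))) x hx

/-- A cycle killed by the homology projection is a boundary. -/
theorem exists_boundary (C : DRing.Cx A) (n : ℤ) (c : C.cycles n) (hc : C.homologyπ n c = 0) :
    ∃ w, (C.d (n - 1) n).hom w = C.iCycles n c := by
  obtain ⟨w, rfl⟩ := (ShortComplex.moduleCat_exact_iff _).1 (ShortComplex.exact_of_g_is_cokernel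
    (ShortComplex.mk _ _ (C.toCycles_comp_homologyπ (n - 1) n)) (C.homologyIsCokernel (n - 1) n (by simp))) c hc
  exact ⟨w, (ConcreteCategory.congr_hom (C.toCycles_i (n - 1) n) w).symm⟩

/-- The homology class in the derived category. -/
theorem homology_map_Q_eq_zero_iff {C D : DRing.Cx A} (φ : C ⟶ D) (n : ℤ) (z : C.homology n) :
    (DerivedCategory.homologyFunctor (ModuleCat.{u} A) n).map (DerivedCategory.Q.map φ)
        ((homologyIso C n).inv z) = 0 ↔
      HomologicalComplex.homologyMap φ n z = 0 := by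
  have h := DerivedCategory.homologyFunctorFactors_hom_naturality φ n
  have h' : (DerivedCategory.homologyFunctor (ModuleCat.{u} A) n).map (DerivedCategory.Q.map φ)
      ≫ (homologyIso D n).hom = (homologyIso C n).hom ≫ HomologicalComplex.homologyMap φ n := h
  have h2 := ConcreteCategory.congr_hom h' ((homologyIso C n).inv z)
  simp only [ConcreteCategory.comp_apply] at h2
  rw [Iso.inv_hom_id_apply] at h2
  rw [← h2]
  exact (map_eq_zero_iff _ (ConcreteCategory.bijective_of_isIso (homologyIso D n).hom).1).symm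

/-- A morphism from a complex to a module in degree `n` which is non zero on the class of a given cycle. -/
noncomputable def toSingleD (C : DRing.Cx A) (n : ℤ) {M : Type u} [AddCommGroup M] [Module A M]
    (g : C.X n →ₗ[A] M) (hg : ∀ x, g ((C.d (n - 1) n).hom x) = 0) :
    DRing.toD C ⟶ (Dual.inD A M)⟦-n⟧ :=
  DerivedCategory.Q.map (toSingleMap C n g hg) ≫ (toDSingleIso n (ModuleCat.of A M)).hom

theorem toSingleD_homology_iff (C : DRing.Cx A) (n : ℤ) {M : Type u} [AddCommGroup M] [Module A M]
    (g : C.X n →ₗ[A] M) (hg : ∀ x, g ((C.d (n - 1) n).hom x) = 0) (c : C.cycles n) :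
    (DerivedCategory.homologyFunctor (ModuleCat.{u} A) n).map (toSingleD C n g hg)
      ((homologyIso C n).inv (C.homologyπ n c)) = 0 ↔ g (C.iCycles n c) = 0 := by
  rw [toSingleD, Functor.map_comp, ConcreteCategory.comp_apply,
    map_eq_zero_iff _ (ConcreteCategory.bijective_of_isIso _).1, homology_map_Q_eq_zero_iff,
    toSingleMap_homology_iff]

/-- Vanishing of all morphisms to a module in degree `n` kills cohomology in degree `n`. -/
theorem subsingleton_HD_of_hom_single (K : Dual.D A) (n : ℤ)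
    (h : ∀ (N : Type u) [AddCommGroup N] [Module A N], Subsingleton (K ⟶ (Dual.inD A N)⟦-n⟧)) :
    Subsingleton (Dual.HD A K n) := by
  obtain ⟨C, ⟨e⟩⟩ : ∃ C : DRing.Cx A, Nonempty (DRing.toD C ≅ K) :=
    ⟨_, ⟨DerivedCategory.Q.objObjPreimageIso K⟩⟩
  refine subsingleton_HD_of_iso e n ((exactAt_iff C n).1 ?_)
  rw [element_exact C (n - 1) n (n + 1) (by omega) rfl]
  intro x hx
  obtain ⟨c, rfl⟩ := exists_cycle C n x hx
  let R := LinearMap.range (C.d (n - 1) n).hom
  have hg : ∀ w, R.mkQ ((C.d (n - 1) n).hom w) = 0 := fun w => (Submodule.Quotient.mk_eq_zero _).2 ⟨w, rfl⟩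
  have h0 : toSingleD C n R.mkQ hg = 0 := by
    haveI := h (C.X n ⧸ R)
    exact (cancel_epi e.inv).1 (Subsingleton.elim _ _)
  have := (toSingleD_homology_iff C n R.mkQ hg c).1 (by rw [h0, Functor.map_zero]; rfl)
  exact (Submodule.Quotient.mk_eq_zero R).1 this

/-- Vanishing of morphisms from a K-projective complex to a module in degree `n`. -/
theorem subsingleton_hom_single_iff (P : DRing.Cx A) [P.IsKProjective] (n : ℤ) (N : Type u) [AddCommGroup N]
    [Module A N] :
    Subsingleton (DRing.toD P ⟶ (Dual.inD A N)⟦-n⟧) ↔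
      ∀ g : P.X n →ₗ[A] N, (∀ x, g ((P.d (n - 1) n).hom x) = 0) →
        ∃ h : P.X (n + 1) →ₗ[A] N, ∀ x, h ((P.d n (n + 1)).hom x) = g x := by
  let S := (HomologicalComplex.single (ModuleCat.{u} A) (ComplexShape.up ℤ) n).obj (ModuleCat.of A N)
  let η := singleObjXSelf (ComplexShape.up ℤ) n (ModuleCat.of A N)
  constructor
  · intro hs g hg
    have h0 : DerivedCategory.Q.map (toSingleMap P n g hg) = DerivedCategory.Q.map 0 := by
      rw [Functor.map_zero, ← cancel_mono (toDSingleIso n (ModuleCat.of A N)).hom]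
      exact Subsingleton.elim (α := DRing.toD P ⟶ (Dual.inD A N)⟦-n⟧) _ _
    obtain ⟨hh⟩ := (map_eq_iff P _ _).1 h0
    have hc := hh.comm n
    rw [dNext_eq _ (show (ComplexShape.up ℤ).Rel n (n + 1) from rfl),
      prevD_eq _ (show (ComplexShape.up ℤ).Rel (n - 1) n from by simp),
      show S.d (n - 1) n = 0 from (isZero_single_obj_X _ _ _ _ (by omega)).eq_of_src _ _,
      comp_zero, add_zero, zero_f, add_zero] at hc
    refine ⟨(hh.hom (n + 1) n ≫ η.hom).hom, fun x => ?_⟩
    have hf : (toSingleMap P n g hg).f n = ModuleCat.ofHom g ≫ η.inv := mkHomToSingle_f _ _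
    rw [hf] at hc
    have hc' := congrArg (· ≫ η.hom) hc
    simp only [Category.assoc, Iso.inv_hom_id, Category.comp_id] at hc'
    exact (ConcreteCategory.congr_hom hc' x).symm
  · intro h
    suffices h0 : ∀ ξ : DRing.toD P ⟶ (Dual.inD A N)⟦-n⟧, ξ = 0 from ⟨fun a b => (h0 a).trans (h0 b).symm⟩
    intro ξ
    obtain ⟨φ, hφ⟩ := exists_lift P (ξ ≫ (toDSingleIso n (ModuleCat.of A N)).inv)
    have hg : ∀ x, (φ.f n ≫ η.hom) ((P.d (n - 1) n).hom x) = 0 := fun x => by
      have hz : P.d (n - 1) n ≫ φ.f n = 0 := by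
        rw [← φ.comm, show S.d (n - 1) n = 0 from (isZero_single_obj_X _ _ _ _ (by omega)).eq_of_src _ _,
          comp_zero]
      have := ConcreteCategory.congr_hom (congrArg (· ≫ η.hom) hz) x
      simpa using this
    obtain ⟨k, hk⟩ := h (φ.f n ≫ η.hom).hom hg
    let hom : ∀ i j, (ComplexShape.up ℤ).Rel j i → (P.X i ⟶ S.X j) := fun i j hji =>
      if hj : j = n then
        eqToHom (congrArg P.X (show i = n + 1 by simp only [ComplexShape.up_Rel] at hji; omega)) ≫
          ModuleCat.ofHom k ≫ η.inv ≫ eqToHom (congrArg S.X hj.symm)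
      else 0
    have hnull : φ = Homotopy.nullHomotopicMap' hom := by
      refine to_single_hom_ext ?_
      rw [Homotopy.nullHomotopicMap'_f (show (ComplexShape.up ℤ).Rel (n - 1) n from by simp)
        (show (ComplexShape.up ℤ).Rel n (n + 1) from rfl),
        show S.d (n - 1) n = 0 from (isZero_single_obj_X _ _ _ _ (by omega)).eq_of_src _ _,
        comp_zero, add_zero]
      simp only [hom, dif_pos, eqToHom_refl, Category.id_comp, Category.comp_id]
      rw [← cancel_mono η.hom]
      simp only [Category.assoc, Iso.inv_hom_id, Category.comp_id]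
      exact ModuleCat.hom_ext (LinearMap.ext fun x => (hk x).symm)
    have h0 : DerivedCategory.Q.map φ = 0 := by
      rw [hnull, DerivedCategory.Q_map_eq_of_homotopy _ (Homotopy.nullHomotopy' hom), Functor.map_zero]
    rw [h0] at hφ
    exact (cancel_mono (toDSingleIso n (ModuleCat.of A N)).inv).1 (hφ.symm.trans zero_comp.symm)

/-- No morphisms from a complex vanishing in degree `n` to a module in degree `n`. -/
theorem subsingleton_hom_single_of_isZero (P : DRing.Cx A) [P.IsKProjective] (n : ℤ) (hP : IsZero (P.X n))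
    (N : Type u) [AddCommGroup N] [Module A N] : Subsingleton (DRing.toD P ⟶ (Dual.inD A N)⟦-n⟧) := by
  refine (subsingleton_hom_single_iff P n N).2 fun g _ => ⟨0, fun x => ?_⟩
  haveI := ModuleCat.subsingleton_of_isZero hP
  rw [Subsingleton.elim x 0]
  simp

/-- Having projective amplitude in `[a, b]`. -/
abbrev HasProjAmp (K : Dual.D A) (a b : ℤ) : Prop :=
  ∃ P : DRing.Cx A, DRing.VanishesOutside P a b ∧ (∀ i : ℤ, Module.Projective A (P.X i)) ∧
    Nonempty (DRing.toD P ≅ K)

lemma hasProjAmp_of_iso {K L : Dual.D A} (e : K ≅ L) {a b : ℤ} (h : HasProjAmp K a b) : HasProjAmp L a b :=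
  let ⟨P, hv, hp, ⟨e'⟩⟩ := h
  ⟨P, hv, hp, ⟨e' ≪≫ e⟩⟩

theorem subsingleton_hom_of_hasProjAmp {K : Dual.D A} {a b : ℤ} (h : HasProjAmp K a b) (n : ℤ)
    (hn : n < a ∨ b < n) (N : Type u) [AddCommGroup N] [Module A N] :
    Subsingleton (K ⟶ (Dual.inD A N)⟦-n⟧) := by
  obtain ⟨P, hv, hp, ⟨e⟩⟩ := h
  haveI := isKProjective P b (fun i hi => hv i (Or.inr hi)) hp
  exact (Iso.homFromEquiv e).symm.subsingleton_congr.2 (subsingleton_hom_single_of_isZero P n (hv n hn) N)

/-- The truncation of a bounded above complex of projectives with projective cokernel. -/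
theorem hasProjAmp_of_cokernel {P : DRing.Cx A} {a b : ℤ} (hb : DRing.VanishesAbove P b)
    (hp : ∀ i, Module.Projective A (P.X i)) (hex : ∀ i, i < a → P.ExactAt i)
    (hQ : Module.Projective A (P.X a ⧸ LinearMap.range (P.d (a - 1) a).hom)) :
    HasProjAmp (DRing.toD P) a b := by
  haveI : P.IsGE a := by
    rw [isGE_iff]
    exact hex
  let P₂ := P.truncGE a
  have e₂ : DRing.toD P ≅ DRing.toD P₂ :=
    haveI := (P.quasiIso_πTruncGE_iff a).2 inferInstance
    asIso (DerivedCategory.Q.map (P.πTruncGE a))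
  let S := P.sc' (a - 1) a (a + 1)
  let eTop : P₂.X a ≅ ModuleCat.of A (P.X a ⧸ LinearMap.range (P.d (a - 1) a).hom) :=
    P.truncGEXIsoOpcycles a ≪≫
      ShortComplex.opcyclesMapIso (P.isoSc' (a - 1) a (a + 1) (by simp) (by simp)) ≪≫
        S.moduleCatOpcyclesIso
  refine ⟨P₂, fun i hi => ?_, fun i => ?_, ⟨e₂.symm⟩⟩
  · rcases hi with hi | hi
    · exact P₂.isZero_of_isStrictlyGE a i hi
    · rcases lt_trichotomy i a with hia | rfl | hia
      · exact P₂.isZero_of_isStrictlyGE a i hia
      · haveI := ModuleCat.subsingleton_of_isZero (hb i hi)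
        exact (ModuleCat.isZero_of_subsingleton _).of_iso eTop
      · exact (hb i hi).of_iso (P.truncGEXIso a i hia)
  · rcases lt_trichotomy i a with hia | rfl | hia
    · haveI := ModuleCat.subsingleton_of_isZero (P₂.isZero_of_isStrictlyGE a i hia)
      infer_instance
    · haveI := hQ
      exact Module.Projective.of_equiv eTop.toLinearEquiv.symm
    · haveI := hp i
      exact Module.Projective.of_equiv (P.truncGEXIso a i hia).toLinearEquiv.symm

/-- The criterion for projective amplitude by one vanishing of morphisms. -/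
theorem hasProjAmp_of_vanishing (K : Dual.D A) (a b : ℤ)
    (hH : ∀ n : ℤ, (n < a - 1 ∨ b < n) → Subsingleton (Dual.HD A K n))
    (hE : ∀ (N : Type u) [AddCommGroup N] [Module A N], Subsingleton (K ⟶ (Dual.inD A N)⟦-(a - 1)⟧)) :
    HasProjAmp K a b := by
  obtain ⟨P, hPv, hPp, ⟨e⟩⟩ := exists_projective_rep K b fun n hn => hH n (Or.inr hn)
  haveI := isKProjective P b hPv hPp
  refine hasProjAmp_of_iso e ?_
  have hH' : ∀ n, n < a - 1 → P.ExactAt n := fun n hn =>
    (exactAt_iff P n).2 (subsingleton_HD_of_iso e.symm n (hH n (Or.inl hn)))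
  have hC := fun (N : Type u) [AddCommGroup N] [Module A N] =>
    (subsingleton_hom_single_iff P (a - 1) N).1 ((Iso.homFromEquiv e).subsingleton_congr.2 (hE N))
  have hC' : ∀ m : ℤ, a - 1 + 1 = m → ∀ (N : Type u) [AddCommGroup N] [Module A N] (g : P.X (a - 1) →ₗ[A] N),
      (∀ x, g ((P.d (a - 1 - 1) (a - 1)).hom x) = 0) →
        ∃ h : P.X m →ₗ[A] N, ∀ x, h ((P.d (a - 1) m).hom x) = g x := by
    rintro m rfl N _ _
    exact hC N
  let d := (P.d (a - 1) a).hom
  let R := LinearMap.range (P.d (a - 1 - 1) (a - 1)).hom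
  obtain ⟨h, hh⟩ := hC' a (by omega) (P.X (a - 1) ⧸ R) R.mkQ fun w => (Submodule.Quotient.mk_eq_zero _).2 ⟨w, rfl⟩
  refine hasProjAmp_of_cokernel hPv hPp (fun i hi => ?_) ?_
  · rcases lt_or_eq_of_le (show i ≤ a - 1 by omega) with hi' | rfl
    · exact hH' i hi'
    · rw [element_exact P (a - 1 - 1) (a - 1) a (by omega) (by omega)]
      intro x hx
      have : R.mkQ x = 0 := by rw [← hh, hx, map_zero]
      exact (Submodule.Quotient.mk_eq_zero R).1 this
  · haveI := hPp a
    let Q := LinearMap.range d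
    have hle : R ≤ LinearMap.ker d := by
      rintro _ ⟨w, rfl⟩
      exact ConcreteCategory.congr_hom (P.d_comp_d (a - 1 - 1) (a - 1) a) w
    let σ : P.X a ⧸ Q →ₗ[A] P.X a := Q.liftQ (LinearMap.id - (R.liftQ d hle).comp h) (by
      rintro _ ⟨y, rfl⟩
      simp only [LinearMap.mem_ker, LinearMap.sub_apply, LinearMap.id_apply, LinearMap.comp_apply]
      rw [hh, Submodule.mkQ_apply, Submodule.liftQ_apply, sub_self])
    refine Module.Projective.of_split σ Q.mkQ (LinearMap.ext fun y => ?_)
    obtain ⟨z, rfl⟩ := Q.mkQ_surjective y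
    simp only [σ, LinearMap.comp_apply, Submodule.mkQ_apply, Submodule.liftQ_apply, LinearMap.sub_apply,
      LinearMap.id_apply, Submodule.Quotient.mk_sub, sub_eq_self]
    obtain ⟨w, hw⟩ := R.mkQ_surjective (h z)
    exact (Submodule.Quotient.mk_eq_zero Q).2 ⟨w, by rw [← hw]; rfl⟩

end GrothLib.DR
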