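import Groth.Agent.Lib.DCxKFlat.Balance
import Groth.Agent.Lib.DCxRing.Perfect
import Mathlib.Algebra.Homology.DerivedCategory.SingleTriangle
import Mathlib.CategoryTheory.Abelian.Projective.Dimension

/-!
# Perfect modules, modules of finite projective dimension
-/

set_option autoImplicit false
universe u

open CategoryTheory CategoryTheory.Limits HomologicalComplex Pretriangulated

attribute [local instance] HasDerivedCategory.standard

namespace GrothLib.DR

variable {A : Type u} [CommRing A]

/-- A module with a finite resolution by finite projective modules is perfect. -/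
theorem isPerfectModule_of_resolution {M : Type u} [AddCommGroup M] [Module A M]
    (P : ProjectiveResolution (ModuleCat.of A M)) (d : ℕ) (hd : ∀ i : ℕ, d < i → IsZero (P.complex.X i))
    (hf : ∀ i : ℕ, Module.Finite A (P.complex.X i)) : DRing.IsPerfectModule A M := by
  obtain ⟨e⟩ := KF.nonempty_resolution_iso P
  refine ⟨P.cochainComplex, -(d : ℤ), 0, fun i hi => ?_, fun i => ⟨?_, (projective_iff _).2 inferInstance⟩, ⟨e⟩⟩
  · rcases hi with hi | hi
    · obtain ⟨k, rfl⟩ : ∃ k : ℕ, i = -(k : ℤ) := ⟨(-i).toNat, by omega⟩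
      exact (hd k (by omega)).of_iso (P.cochainComplexXIso (-(k : ℤ)) k rfl)
    · exact P.cochainComplex.isZero_of_isStrictlyLE 0 i hi
  · by_cases hi : i ≤ 0
    · obtain ⟨k, rfl⟩ := Int.exists_eq_neg_ofNat hi
      haveI := hf k
      exact Module.Finite.equiv (P.cochainComplexXIso (-(k : ℤ)) k rfl).toLinearEquiv.symm
    · haveI := ModuleCat.subsingleton_of_isZero (P.cochainComplex.isZero_of_isStrictlyLE 0 i (by omega))
      infer_instance

/-- A bounded above complex of projectives with cohomology `M` in degree `0` gives a resolution. -/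
theorem exists_resolution_of_complex {M : Type u} [AddCommGroup M] [Module A M] {E : DRing.Cx A}
    (hv : DRing.VanishesAbove E 0) (hp : ∀ i, Module.Projective A (E.X i))
    (e : DRing.toD E ≅ Dual.inD A M) :
    ∃ P : ProjectiveResolution (ModuleCat.of A M),
      ∀ i : ℕ, Nonempty (P.complex.X i ≅ E.X (-(i : ℤ))) := by
  have hd01 : E.d 0 1 = 0 := (hv 1 one_pos).eq_of_tgt _ _
  haveI : IsIso (E.homologyι 0) := E.isIso_homologyι 0 1 (by simp) hd01
  let θ : E.homology 0 ≅ ModuleCat.of A M :=
    (homologyIso E 0).symm ≪≫ (DerivedCategory.homologyFunctor (ModuleCat.{u} A) 0).mapIso e ≪≫ inDHomologyIso M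
  let aug : E.X 0 ⟶ ModuleCat.of A M := E.pOpcycles 0 ≫ inv (E.homologyι 0) ≫ θ.hom
  have hdaug : E.d (-1) 0 ≫ aug = 0 := by simp [aug]
  let S : ShortComplex (ModuleCat.{u} A) := ShortComplex.mk _ _ hdaug
  have hS : S.Exact := by
    refine ShortComplex.exact_of_iso ?_ (ShortComplex.exact_of_g_is_cokernel
      (ShortComplex.mk _ _ (E.d_pOpcycles (-1) 0)) (E.opcyclesIsCokernel (-1) 0 (by simp)))
    exact ShortComplex.isoMk (Iso.refl _) (Iso.refl _) ((asIso (E.homologyι 0)).symm ≪≫ θ)
      (by simp [S]) (by simp [S, aug])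
  haveI : Epi aug := epi_comp' inferInstance (epi_comp' inferInstance inferInstance)
  have hex : ∀ i : ℤ, i < 0 → E.ExactAt i := fun i hi =>
    (exactAt_iff E i).2 (subsingleton_HD_of_iso e.symm i (subsingleton_HD_inD M i (by omega)))
  let X : ℕ → ModuleCat.{u} A := fun k => E.X (-(k : ℤ))
  let dd : ∀ k : ℕ, X (k + 1) ⟶ X k := fun k => E.d (-((k + 1 : ℕ) : ℤ)) (-((k : ℕ) : ℤ))
  have hdd : ∀ k : ℕ, dd (k + 1) ≫ dd k = 0 := fun k => E.d_comp_d _ _ _
  let C : ChainComplex (ModuleCat.{u} A) ℕ := ChainComplex.of X dd hdd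
  have hC : ∀ k : ℕ, C.d (k + 1) k = dd k := fun k => ChainComplex.of_d X dd k
  have haug : C.d 1 0 ≫ aug = 0 := by rw [hC 0]; exact hdaug
  let P : ProjectiveResolution (ModuleCat.of A M) :=
    { complex := C
      projective := fun k => (projective_iff _).1 (hp (-(k : ℤ)))
      π := (ChainComplex.toSingle₀Equiv _ _).symm ⟨aug, haug⟩
      quasiIso := ⟨fun k => by
        cases k with
        | zero =>
          rw [ChainComplex.quasiIsoAt₀_iff, ShortComplex.quasiIso_iff_of_zeros']
          · refine ⟨?_, ?_⟩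
            · refine (ShortComplex.exact_iff_of_iso ?_).1 hS
              exact ShortComplex.isoMk (Iso.refl _) (Iso.refl _) (Iso.refl _)
                (by
                  show 𝟙 _ ≫ C.d 1 0 = E.d (-1) 0 ≫ 𝟙 _
                  rw [hC 0, Category.id_comp, Category.comp_id]; rfl)
                (by
                  show 𝟙 _ ≫ ((ChainComplex.toSingle₀Equiv C (ModuleCat.of A M)).symm ⟨aug, haug⟩).f 0 = aug ≫ 𝟙 _
                  rw [Category.id_comp, Category.comp_id, ChainComplex.toSingle₀Equiv_symm_apply_f_zero])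
            · show Epi (((ChainComplex.toSingle₀Equiv C (ModuleCat.of A M)).symm ⟨aug, haug⟩).f 0)
              rw [ChainComplex.toSingle₀Equiv_symm_apply_f_zero]
              exact (‹Epi aug› : Epi aug)
          · exact C.shape _ _ (by simp)
          · rfl
          · rfl
        | succ k =>
          rw [quasiIsoAt_iff_exactAt' _ _ (exactAt_single_obj _ _ _ _ (by simp)),
            exactAt_iff' _ (k + 1 + 1) (k + 1) k (by simp) (by simp)]
          have h := hex (-((k + 1 : ℕ) : ℤ)) (by omega)
          rw [exactAt_iff' _ (-((k + 1 + 1 : ℕ) : ℤ)) (-((k + 1 : ℕ) : ℤ)) (-(k : ℤ))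
            (by simp only [CochainComplex.prev]; push_cast; omega)
            (by simp only [CochainComplex.next]; push_cast; omega)] at h
          refine (ShortComplex.exact_iff_of_iso ?_).1 h
          exact ShortComplex.isoMk (Iso.refl _) (Iso.refl _) (Iso.refl _)
            (by
              show 𝟙 _ ≫ C.d (k + 1 + 1) (k + 1) = dd (k + 1) ≫ 𝟙 _
              rw [hC (k + 1), Category.id_comp, Category.comp_id])
            (by
              show 𝟙 _ ≫ C.d (k + 1) k = dd k ≫ 𝟙 _
              rw [hC k, Category.id_comp, Category.comp_id])⟩ }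
  exact ⟨P, fun i => ⟨Iso.refl _⟩⟩

/-- Perfect modules are those with a finite resolution by finite projective modules. -/
theorem isPerfectModule_iff_resolution (M : Type u) [AddCommGroup M] [Module A M] :
    DRing.IsPerfectModule A M ↔ ∃ (P : ProjectiveResolution (ModuleCat.of A M)) (d : ℕ),
      (∀ i : ℕ, d < i → IsZero (P.complex.X i)) ∧ ∀ i : ℕ, Module.Finite A (P.complex.X i) := by
  refine ⟨fun h => ?_, fun ⟨P, d, hd, hf⟩ => isPerfectModule_of_resolution P d hd hf⟩
  obtain ⟨hPC, a, b, hT⟩ := isPerfect_iff.1 h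
  have hT' : DRing.HasTorAmplitudeIn A (min a 0) 0 (Dual.inD A M) := by
    obtain ⟨P, hP, hPp, ⟨e⟩⟩ := exists_projective_rep (Dual.inD A M) 0 fun i hi =>
      subsingleton_HD_inD M i (by omega)
    refine hasTorAmplitudeIn_of_iso e ((hasTorAmplitudeIn_iff hP (termwiseFlat_of_projective hPp) _ _).2 ?_)
    intro N _ _ i hi
    rcases hi with hi | hi
    · exact (hasTorAmplitudeIn_iff hP (termwiseFlat_of_projective hPp) a b).1
        (hasTorAmplitudeIn_of_iso e.symm hT) N i (Or.inl (by omega))
    · exact tExact_of_isZero (hP i hi) N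
  obtain ⟨E, hv, hf, ⟨e⟩⟩ := exists_finiteProjective (min_le_right a 0)
    (isPseudoCoherent_of_prime hPC _) hT'
  obtain ⟨P, hP⟩ := exists_resolution_of_complex (fun i hi => hv i (Or.inr hi)) (fun i => (hf i).2) e
  refine ⟨P, (-(min a 0)).toNat, fun i hi => ?_, fun i => ?_⟩
  · obtain ⟨ei⟩ := hP i
    exact (hv _ (Or.inl (by omega))).of_iso ei
  · obtain ⟨ei⟩ := hP i
    haveI := (hf (-(i : ℤ))).1
    exact Module.Finite.equiv ei.toLinearEquiv.symm

/-- Modules of projective dimension `≤ d` have tor amplitude in `[-d, 0]`. -/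
theorem hasTorAmplitudeIn_of_projectiveDimension (d : ℕ) : ∀ (M : Type u) [AddCommGroup M] [Module A M],
    HasProjectiveDimensionLT (ModuleCat.of A M) (d + 1) →
      DRing.HasTorAmplitudeIn A (-(d : ℤ)) 0 (Dual.inD A M) := by
  induction d with
  | zero =>
    intro M _ _ h
    haveI : Module.Projective A M := (projective_iff _).2 (projective_iff_hasProjectiveDimensionLT_one.2 h)
    exact hasTorAmplitudeIn_flat M
  | succ d ih =>
    intro M _ _ h
    let π := Finsupp.linearCombination A (id : M → M)
    have hπ : Function.Surjective π := fun m => ⟨Finsupp.single m 1, by simp [π]⟩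
    let S : ShortComplex (ModuleCat.{u} A) := ShortComplex.mk
      (X₁ := ModuleCat.of A ↥(LinearMap.ker π)) (X₂ := ModuleCat.of A (M →₀ A)) (X₃ := ModuleCat.of A M)
      (ModuleCat.ofHom (X := ↥(LinearMap.ker π)) (LinearMap.ker π).subtype)
      (ModuleCat.ofHom π) (ModuleCat.hom_ext (LinearMap.ext fun x => x.2))
    have hS : S.ShortExact := ShortComplex.ShortExact.mk'
      ((ShortComplex.moduleCat_exact_iff _).2 fun x hx => ⟨⟨x, hx⟩, rfl⟩)
      ((ModuleCat.mono_iff_injective _).2 Subtype.val_injective) ((ModuleCat.epi_iff_surjective _).2 hπ)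
    haveI : Projective S.X₂ := (projective_iff _).1 (inferInstanceAs (Module.Projective A (M →₀ A)))
    have hK : HasProjectiveDimensionLT S.X₁ (d + 1) := by
      haveI : HasProjectiveDimensionLT S.X₃ (d + 1 + 1) := h
      exact hS.hasProjectiveDimensionLT_X₁ (d + 1) inferInstance inferInstance
    exact hasTorAmplitudeIn_obj₃ _ hS.singleTriangle_distinguished
      (hasTorAmplitudeIn_mono (by push_cast; omega) (by omega) (ih (LinearMap.ker π) hK))
      (hasTorAmplitudeIn_mono (by push_cast; omega) le_rfl (hasTorAmplitudeIn_flat (M →₀ A)))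

/-- Tor amplitude from bounded cohomology over a ring of finite global dimension. -/
theorem hasTorAmplitudeIn_of_globalDimension (d : ℕ)
    (hgl : ∀ (M : Type u) [AddCommGroup M] [Module A M], HasProjectiveDimensionLT (ModuleCat.of A M) (d + 1))
    (K : Dual.D A) (a b : ℤ) (hK : ∀ i, i < a ∨ b < i → Subsingleton (Dual.HD A K i)) :
    DRing.HasTorAmplitudeIn A (a - d) b K :=
  prop_homology (DRing.HasTorAmplitudeIn A (a - d) b) (fun e h => hasTorAmplitudeIn_of_iso e h)
    (fun X hX => hasTorAmplitudeIn_of_isZero hX _ _)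
    (fun T hT h₁ h₃ => hasTorAmplitudeIn_obj₂ T hT h₁ h₃) K a b hK fun i hi hib =>
      hasTorAmplitudeIn_mono (a := i - (d : ℤ)) (b := i) (by omega) hib
        (hasTorAmplitudeIn_shift (hasTorAmplitudeIn_of_projectiveDimension d _ (hgl (Dual.HD A K i))) (-i) _ _
          (by omega) (by omega))

/-- A module of tor amplitude `[0, 0]` is flat. -/
theorem flat_of_hasTorAmplitudeIn {M : Type u} [AddCommGroup M] [Module A M]
    (h : DRing.HasTorAmplitudeIn A 0 0 (Dual.inD A M)) : Module.Flat A M := by
  obtain ⟨E, hv, hf, ⟨e⟩⟩ := h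
  let S := E.sc 0
  have hf0 : S.f = 0 := (hv _ (Or.inl (by simp))).eq_of_src _ _
  have hg0 : S.g = 0 := (hv _ (Or.inr (by simp))).eq_of_tgt _ _
  let θ : E.X 0 ≅ ModuleCat.of A M :=
    (ShortComplex.LeftHomologyData.ofZeros S hf0 hg0).homologyIso.symm ≪≫ (homologyIso E 0).symm ≪≫
      (DerivedCategory.homologyFunctor (ModuleCat.{u} A) 0).mapIso e ≪≫ inDHomologyIso M
  haveI := hf 0
  exact Module.Flat.of_linearEquiv θ.toLinearEquiv.symm

end GrothLib.DR
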