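import Groth.Agent.Lib.DCxRing.Flat
import Groth.Agent.Lib.DCxRing.Stupid
import Groth.Agent.Lib.DCxRing.Homology

/-!
# Tor amplitude of objects of `D(A)`
-/

universe u

open CategoryTheory Limits HomologicalComplex CochainComplex Pretriangulated

attribute [local instance] HasDerivedCategory.standard

namespace GrothLib.DR

variable {A : Type u} [CommRing A]

lemma hasTorAmplitudeIn_of_iso {K L : Dual.D A} (e : K ≅ L) {a b : ℤ}
    (h : DRing.HasTorAmplitudeIn A a b K) : DRing.HasTorAmplitudeIn A a b L :=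
  let ⟨E, hv, hf, ⟨e'⟩⟩ := h
  ⟨E, hv, hf, ⟨e' ≪≫ e⟩⟩

lemma hasTorAmplitudeIn_mono {K : Dual.D A} {a b a' b' : ℤ} (ha : a' ≤ a) (hb : b ≤ b')
    (h : DRing.HasTorAmplitudeIn A a b K) : DRing.HasTorAmplitudeIn A a' b' K :=
  let ⟨E, hv, hf, e⟩ := h
  ⟨E, fun i hi => hv i (by omega), hf, e⟩

lemma subsingleton_HD_of_amplitude {K : Dual.D A} {a b : ℤ} (h : DRing.HasTorAmplitudeIn A a b K)
    (i : ℤ) (hi : i < a ∨ b < i) : Subsingleton (Dual.HD A K i) := by
  obtain ⟨E, hv, -, ⟨e⟩⟩ := h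
  exact subsingleton_HD_of_iso e i ((exactAt_iff E i).1 (ShortComplex.exact_of_isZero_X₂ _ (hv i hi)))

lemma hasTorAmplitudeIn_of_isZero {K : Dual.D A} (hK : IsZero K) (a b : ℤ) :
    DRing.HasTorAmplitudeIn A a b K := by
  refine ⟨(HomologicalComplex.single (ModuleCat.{u} A) (ComplexShape.up ℤ) 0).obj
      (ModuleCat.of A PUnit), fun i _ => ?_, fun i => ?_,
    ⟨(Functor.map_isZero _ (Functor.map_isZero _ (ModuleCat.isZero_of_subsingleton _))).iso hK⟩⟩
  all_goals
    have hz : IsZero (((HomologicalComplex.single (ModuleCat.{u} A) (ComplexShape.up ℤ) 0).obj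
        (ModuleCat.of A PUnit)).X i) := by
      by_cases h : i = 0
      · subst h
        exact (ModuleCat.isZero_of_subsingleton _).of_iso (singleObjXSelf _ _ _)
      · exact isZero_single_obj_X _ _ _ _ h
  · exact hz
  · haveI := ModuleCat.subsingleton_of_isZero hz
    infer_instance

/-- Shifts. -/
theorem hasTorAmplitudeIn_shift {K : Dual.D A} {a b : ℤ} (h : DRing.HasTorAmplitudeIn A a b K)
    (n a' b' : ℤ) (ha : a' + n = a) (hb : b' + n = b) :
    DRing.HasTorAmplitudeIn A a' b' (K⟦n⟧) := by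
  obtain ⟨E, hv, hf, ⟨e⟩⟩ := h
  exact ⟨E⟦n⟧, fun i hi => hv (i + n) (by omega), fun i => hf (i + n),
    ⟨(DerivedCategory.Q.commShiftIso n).app E ≪≫ (CategoryTheory.shiftFunctor (Dual.D A) n).mapIso e⟩⟩

/-- A projective representative of an object with tor amplitude. -/
theorem exists_rep {K : Dual.D A} {a b : ℤ} (h : DRing.HasTorAmplitudeIn A a b K) :
    ∃ P : DRing.Cx A, DRing.VanishesAbove P b ∧ (∀ i, Module.Projective A (P.X i)) ∧
      Nonempty (DRing.toD P ≅ K) :=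
  exists_projective_rep K b fun i hi => subsingleton_HD_of_amplitude h i (Or.inr hi)

/-- The third vertex of a triangle. -/
theorem hasTorAmplitudeIn_obj₃ (T : Triangle (Dual.D A)) (hT : T ∈ distTriang _) {a b : ℤ}
    (h₁ : DRing.HasTorAmplitudeIn A (a + 1) (b + 1) T.obj₁)
    (h₂ : DRing.HasTorAmplitudeIn A a b T.obj₂) : DRing.HasTorAmplitudeIn A a b T.obj₃ := by
  obtain ⟨P₁, hP₁, hP₁p, ⟨e₁⟩⟩ := exists_rep h₁
  obtain ⟨P₂, hP₂, hP₂p, ⟨e₂⟩⟩ := exists_rep h₂
  haveI := isKProjective P₁ _ hP₁ hP₁p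
  obtain ⟨f, hf⟩ := exists_lift P₁ (e₁.hom ≫ T.mor₁ ≫ e₂.inv)
  let e := isoTriangleOfIso₁₂ _ T (DerivedCategory.mappingCone_triangle_distinguished f) hT e₁ e₂ (by
    change DerivedCategory.Q.map f ≫ e₂.hom = e₁.hom ≫ T.mor₁
    simp [hf])
  refine hasTorAmplitudeIn_of_iso (Triangle.π₃.mapIso e) ?_
  change DRing.HasTorAmplitudeIn A a b (DRing.toD (mappingCone f))
  have hv : DRing.VanishesAbove (mappingCone f) (max b (b + 1)) := fun j hj =>
    isZero_cone_X f (hP₁ (j + 1) (by omega)) (hP₂ j (by omega))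
  have hp₁ := (hasTorAmplitudeIn_iff hP₁ (termwiseFlat_of_projective hP₁p) (a + 1) (b + 1)).1
    (hasTorAmplitudeIn_of_iso e₁.symm h₁)
  have hp₂ := (hasTorAmplitudeIn_iff hP₂ (termwiseFlat_of_projective hP₂p) a b).1
    (hasTorAmplitudeIn_of_iso e₂.symm h₂)
  refine (hasTorAmplitudeIn_iff hv (flat_cone f (termwiseFlat_of_projective hP₁p)
    (termwiseFlat_of_projective hP₂p)) a b).2 fun M _ _ i hi => ?_
  rw [tExact_iff]
  let F := MonoidalCategory.tensorRight (ModuleCat.of A M)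
  let g := (F.mapHomologicalComplex (ComplexShape.up ℤ)).map f
  refine HomologicalComplex.ExactAt.of_iso ?_ (mappingCone.mapHomologicalComplexIso f F).symm
  rw [exactAt_cone_iff]
  exact (DerivedCategory.HomologySequence.exact₃ _
    (DerivedCategory.mappingCone_triangle_distinguished g) i (i + 1) rfl).isZero_of_both_zeros
    (IsZero.eq_of_src (((exactAt_iff_isZero_homology _ i).1 ((tExact_iff P₂ M i).1 (hp₂ M i hi))).of_iso
      (homologyIso _ i)) _ _)
    (IsZero.eq_of_tgt (((exactAt_iff_isZero_homology _ (i + 1)).1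
      ((tExact_iff P₁ M (i + 1)).1 (hp₁ M (i + 1) (by omega)))).of_iso (homologyIso _ (i + 1))) _ _)

theorem hasTorAmplitudeIn_obj₂ (T : Triangle (Dual.D A)) (hT : T ∈ distTriang _) {a b : ℤ}
    (h₁ : DRing.HasTorAmplitudeIn A a b T.obj₁) (h₃ : DRing.HasTorAmplitudeIn A a b T.obj₃) :
    DRing.HasTorAmplitudeIn A a b T.obj₂ :=
  hasTorAmplitudeIn_obj₃ T.invRotate (inv_rot_of_distTriang T hT)
    (hasTorAmplitudeIn_shift h₃ (-1) (a + 1) (b + 1) (by omega) (by omega)) h₁

theorem hasTorAmplitudeIn_obj₁ (T : Triangle (Dual.D A)) (hT : T ∈ distTriang _) {a b : ℤ}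
    (h₂ : DRing.HasTorAmplitudeIn A (a + 1) (b + 1) T.obj₂) (h₃ : DRing.HasTorAmplitudeIn A a b T.obj₃) :
    DRing.HasTorAmplitudeIn A (a + 1) (b + 1) T.obj₁ :=
  hasTorAmplitudeIn_obj₂ T.invRotate (inv_rot_of_distTriang T hT)
    (hasTorAmplitudeIn_shift h₃ (-1) (a + 1) (b + 1) (by omega) (by omega)) h₂

/-- Retracts. -/
theorem hasTorAmplitudeIn_of_retract {K L : Dual.D A} (s : K ⟶ L) (r : L ⟶ K) (h : s ≫ r = 𝟙 K)
    {a b : ℤ} (hL : DRing.HasTorAmplitudeIn A a b L) : DRing.HasTorAmplitudeIn A a b K := by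
  obtain ⟨R, hR, hRp, ⟨eR⟩⟩ := exists_rep hL
  obtain ⟨P, hP, hPp, ⟨eP⟩⟩ := exists_projective_rep K b fun i hi => by
    haveI := subsingleton_HD_of_amplitude hL i (Or.inr hi)
    refine Function.Injective.subsingleton
      (f := ((DerivedCategory.homologyFunctor (ModuleCat.{u} A) i).map s).hom) ?_
    haveI : IsSplitMono s := ⟨⟨⟨r, h⟩⟩⟩
    exact (ModuleCat.mono_iff_injective _).1 inferInstance
  haveI := isKProjective R b hR hRp
  haveI := isKProjective P b hP hPp
  obtain ⟨s', hs⟩ := exists_lift P (eP.hom ≫ s ≫ eR.inv)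
  obtain ⟨r', hr⟩ := exists_lift R (eR.hom ≫ r ≫ eP.inv)
  obtain ⟨H⟩ := (map_eq_iff P (s' ≫ r') (𝟙 P)).1 (by simp [hs, hr, reassoc_of% h])
  refine hasTorAmplitudeIn_of_iso eP ((hasTorAmplitudeIn_iff hP (termwiseFlat_of_projective hPp) a b).2
    fun M _ _ i hi => ?_)
  have hRT := (tExact_iff R M i).1 ((hasTorAmplitudeIn_iff hR (termwiseFlat_of_projective hRp) a b).1
    (hasTorAmplitudeIn_of_iso eR.symm hL) M i hi)
  let F := MonoidalCategory.tensorRight (ModuleCat.of A M)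
  let T := F.mapHomologicalComplex (ComplexShape.up ℤ)
  rw [tExact_iff, exactAt_iff_isZero_homology]
  rw [exactAt_iff_isZero_homology] at hRT
  refine (IsZero.iff_id_eq_zero _).2 ?_
  have h2 := (F.mapHomotopy H).homologyMap_eq i
  simp only [Functor.map_comp, CategoryTheory.Functor.map_id, HomologicalComplex.homologyMap_comp,
    HomologicalComplex.homologyMap_id] at h2
  exact h2.symm.trans ((congrArg (· ≫ _) (hRT.eq_of_tgt _ 0)).trans zero_comp)

/-- A flat module has tor amplitude `[i, i]` in degree `i`. -/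
theorem hasTorAmplitudeIn_flat (M : Type u) [AddCommGroup M] [Module A M] [Module.Flat A M] :
    DRing.HasTorAmplitudeIn A 0 0 (Dual.inD A M) := by
  refine ⟨(HomologicalComplex.single (ModuleCat.{u} A) (ComplexShape.up ℤ) 0).obj (ModuleCat.of A M),
    fun i hi => isZero_single_obj_X _ _ _ _ (by omega), fun i => ?_,
    ⟨(((SingleFunctors.evaluation _ _ 0).mapIso
      (DerivedCategory.singleFunctorsPostcompQIso (ModuleCat.{u} A))).app (ModuleCat.of A M)).symm⟩⟩
  by_cases h : i = 0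
  · subst h
    exact Module.Flat.of_linearEquiv (singleObjXSelf (ComplexShape.up ℤ) 0 (ModuleCat.of A M)).toLinearEquiv
  · haveI := ModuleCat.subsingleton_of_isZero
      (isZero_single_obj_X (ComplexShape.up ℤ) 0 (ModuleCat.of A M) i h)
    infer_instance

end GrothLib.DR
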