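import Groth.Agent.Lib.DCxRing.BC
import Groth.Agent.Lib.DCxRing.Flat
import Mathlib.RingTheory.Localization.BaseChange
import Mathlib.RingTheory.Flat.Localization
import Mathlib.LinearAlgebra.TensorProduct.Tower

/-!
# Flat covers of a ring and tensor exactness
-/

universe u

open CategoryTheory Limits HomologicalComplex CochainComplex TensorProduct

attribute [local instance] HasDerivedCategory.standard

namespace GrothLib.DR

variable {A B : Type u} [CommRing A] [CommRing B]

/-- A family of ring maps detects zero modules. -/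
def Covers {ι : Type} {S : ι → Type u} [∀ i, CommRing (S i)] (φ : ∀ i, A →+* S i) : Prop :=
  ∀ M : ModuleCat.{u} A, (∀ i, IsZero ((ModuleCat.extendScalars.{u, u, u} (φ i)).obj M)) → IsZero M

lemma covers_faithfullyFlat [Algebra A B] [Module.FaithfullyFlat A B] :
    Covers (ι := Unit) (S := fun _ => B) fun _ => algebraMap A B := by
  intro M h
  obtain ⟨e⟩ := nonempty_extendScalars_iso (A := A) (B := B) M
  haveI := ModuleCat.subsingleton_of_isZero ((h ()).of_iso e)
  haveI : Subsingleton (B ⊗[A] M) := ‹Subsingleton (ModuleCat.of B (B ⊗[A] M))›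
  haveI := Module.FaithfullyFlat.lTensor_reflects_triviality A B M
  exact ModuleCat.isZero_of_subsingleton M

lemma covers_away {r : ℕ} (f : Fin r → A) (hf : Ideal.span (Set.range f) = ⊤) :
    Covers fun i => algebraMap A (Localization.Away (f i)) := by
  intro M h
  refine @ModuleCat.isZero_of_subsingleton _ _ M ⟨fun x y => sub_eq_zero.1 ?_⟩
  have hx : ∀ i, f i ∈ (Ideal.torsionOf A M (x - y)).radical := fun i => by
    obtain ⟨e⟩ := nonempty_extendScalars_iso (A := A) (B := Localization.Away (f i)) M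
    haveI := ModuleCat.subsingleton_of_isZero ((h i).of_iso e)
    obtain ⟨⟨_, n, rfl⟩, hn⟩ := (IsLocalizedModule.eq_zero_iff (Submonoid.powers (f i))
      (TensorProduct.mk A (Localization.Away (f i)) M 1) (m := x - y)).1
        ((Subsingleton.elim (α := ModuleCat.of (Localization.Away (f i))
          (Localization.Away (f i) ⊗[A] M)) _ _))
    exact ⟨n, hn⟩
  have h1 : (Ideal.torsionOf A M (x - y)).radical = ⊤ := by
    rw [eq_top_iff, ← hf, Ideal.span_le]
    rintro _ ⟨i, rfl⟩
    exact hx i
  obtain ⟨n, hn⟩ := (Ideal.eq_top_iff_one _).1 h1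
  simpa [Ideal.mem_torsionOf_iff] using hn

lemma flat_away (f : A) : (algebraMap A (Localization.Away f)).Flat := by
  haveI : Module.Flat A (Localization.Away f) := IsLocalization.flat _ (Submonoid.powers f)
  exact flat_algebraMap

variable (φ : A →+* B)

/-- Base change of complexes. -/
noncomputable abbrev bc : DRing.Cx A ⥤ DRing.Cx B :=
  (ModuleCat.extendScalars.{u, u, u} φ).mapHomologicalComplex (ComplexShape.up ℤ)

/-- Exactness of `(B ⊗ P) ⊗ (B ⊗ M)` is exactness of `B ⊗ (P ⊗ M)`. -/
theorem tExact_bc_iff (P : DRing.Cx A) (M : ModuleCat.{u} A) (i : ℤ) :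
    TExact ((bc φ).obj P) ((ModuleCat.extendScalars.{u, u, u} φ).obj M) i ↔
      ((bc φ).obj (DRing.tensorCx P M)).ExactAt i := by
  letI := φ.toAlgebra
  rw [function_exact_d _ (i - 1) i (i + 1) (by omega) rfl]
  refine (Function.Exact.iff_of_ladder_linearEquiv
    (e₁ := AlgebraTensorModule.distribBaseChange A B (P.X (i - 1)) M)
    (e₂ := AlgebraTensorModule.distribBaseChange A B (P.X i) M)
    (e₃ := AlgebraTensorModule.distribBaseChange A B (P.X (i + 1)) M)
    (g₁₂ := LinearMap.rTensor (B ⊗[A] M) ((P.d (i - 1) i).hom.baseChange B))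
    (g₂₃ := LinearMap.rTensor (B ⊗[A] M) ((P.d i (i + 1)).hom.baseChange B))
    (f₁₂ := ((P.d (i - 1) i).hom.rTensor M).baseChange B)
    (f₂₃ := ((P.d i (i + 1)).hom.rTensor M).baseChange B) ?_ ?_).trans Iff.rfl
  · ext; simp
  · ext; simp

/-- Base change of a tensor-exact bounded above flat complex. -/
theorem exactAt_bc_iff (P : DRing.Cx A) (i : ℤ) :
    ((bc φ).obj P).ExactAt i ↔ (letI := φ.toAlgebra; TExact P B i) := by
  letI := φ.toAlgebra
  rw [function_exact_d _ (i - 1) i (i + 1) (by omega) rfl]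
  exact Function.Exact.iff_of_ladder_linearEquiv
    (e₁ := TensorProduct.comm A (P.X (i - 1)) B) (e₂ := TensorProduct.comm A (P.X i) B)
    (e₃ := TensorProduct.comm A (P.X (i + 1)) B)
    (f₁₂ := (P.d (i - 1) i).hom.rTensor B) (f₂₃ := (P.d i (i + 1)).hom.rTensor B)
    (g₁₂ := (P.d (i - 1) i).hom.lTensor B) (g₂₃ := (P.d i (i + 1)).hom.lTensor B)
    (by ext; simp) (by ext; simp)

end GrothLib.DR
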