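import Groth.Agent.Lib.DCxKFlat.LBaseKFlat
import Groth.Agent.Lib.DCxKFlat.Balance
import Groth.Agent.Lib.DCxRing.BC
import Groth.Agent.Lib.DCxRing.Covers
import Mathlib.Algebra.Category.ModuleCat.Monoidal.Adjunction
import Mathlib.RingTheory.LocalProperties.Exactness
import Mathlib.RingTheory.Localization.BaseChange
import Mathlib.RingTheory.Flat.Stability

/-!
# Tor amplitude over a base from the localisations at maximal ideals
-/

set_option autoImplicit false
set_option maxHeartbeats 1000000
universe u

open CategoryTheory CategoryTheory.Limits HomologicalComplex MonoidalCategory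

attribute [local instance] HasDerivedCategory.standard

namespace GrothLib.DR

variable {A B : Type u} [CommRing A] [CommRing B]

instance preservesCoproducts_extendScalars (ψ : A →+* B) (J : Type) :
    PreservesColimitsOfShape (Discrete J) (ModuleCat.extendScalars.{u, u, u} ψ) := by
  haveI : (ModuleCat.extendScalars.{u, u, u} ψ).IsLeftAdjoint :=
    ⟨_, ⟨ModuleCat.extendRestrictScalarsAdj ψ⟩⟩
  haveI : PreservesColimitsOfSize.{u, u} (ModuleCat.extendScalars.{u, u, u} ψ) := inferInstance
  haveI : PreservesColimitsOfSize.{0, 0} (ModuleCat.extendScalars.{u, u, u} ψ) :=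
    preservesSmallestColimits_of_preservesColimits _
  infer_instance

/-- Extension of scalars commutes with tensor products of complexes, on bicomplexes. -/
noncomputable def bicxExtendIso (ψ : A →+* B) (K L : DRing.Cx A) :
    TotalMap.mapBicx (ModuleCat.extendScalars.{u, u, u} ψ)
      ((((curriedTensor (ModuleCat.{u} A)).mapBifunctorHomologicalComplex (ComplexShape.up ℤ) (ComplexShape.up ℤ)).obj K).obj L) ≅
      (((curriedTensor (ModuleCat.{u} B)).mapBifunctorHomologicalComplex (ComplexShape.up ℤ) (ComplexShape.up ℤ)).obj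
        ((bc ψ).obj K)).obj ((bc ψ).obj L) :=
  HomologicalComplex.Hom.isoOfComponents
    (fun i => HomologicalComplex.Hom.isoOfComponents
      (fun j => (Functor.Monoidal.μIso (ModuleCat.extendScalars.{u, u, u} ψ) (K.X i) (L.X j)).symm)
      (fun j j' _ => Functor.OplaxMonoidal.δ_natural_right (ModuleCat.extendScalars.{u, u, u} ψ) (K.X i) (L.d j j')))
    (fun i i' _ => HomologicalComplex.hom_ext _ _ fun j =>
      Functor.OplaxMonoidal.δ_natural_left (ModuleCat.extendScalars.{u, u, u} ψ) (K.d i i') (L.X j))

/-- Extension of scalars commutes with tensor products of complexes. -/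
noncomputable def bcTensorIso (ψ : A →+* B) (K L : DRing.Cx A) :
    (bc ψ).obj (((KF.tensorCx (R := A)).obj K).obj L) ≅
      ((KF.tensorCx (R := B)).obj ((bc ψ).obj K)).obj ((bc ψ).obj L) :=
  (TotalMap.totalMapIso (ModuleCat.extendScalars.{u, u, u} ψ)
    ((((curriedTensor (ModuleCat.{u} A)).mapBifunctorHomologicalComplex (ComplexShape.up ℤ) (ComplexShape.up ℤ)).obj K).obj L)).symm ≪≫
    HomologicalComplex₂.total.mapIso (bicxExtendIso ψ K L) (ComplexShape.up ℤ)

/-- Base change of complexes in two steps. -/
noncomputable def bcCompIso {C : Type u} [CommRing C] (φ : A →+* B) (ψ : B →+* C) (P : DRing.Cx A) :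
    (bc (ψ.comp φ)).obj P ≅ (bc ψ).obj ((bc φ).obj P) :=
  HomologicalComplex.Hom.isoOfComponents (fun i => (ModuleCat.extendScalarsComp φ ψ).app (P.X i))
    fun i j _ => ((ModuleCat.extendScalarsComp φ ψ).hom.naturality (P.d i j)).symm

/-- Exactness of a complex can be checked at the maximal ideals. -/
theorem exactAt_of_forall_maximal (W : DRing.Cx B) (i : ℤ)
    (h : ∀ (m : Ideal B) [m.IsMaximal], ((bc (algebraMap B (Localization.AtPrime m))).obj W).ExactAt i) :
    W.ExactAt i := by
  rw [function_exact_d W (i - 1) i (i + 1) (by omega) rfl]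
  refine exact_of_isLocalized_maximal (R := B)
    (fun m _ => TensorProduct B (Localization.AtPrime m) (W.X (i - 1)))
    (fun m _ => TensorProduct.mk B (Localization.AtPrime m) (W.X (i - 1)) 1)
    (fun m _ => TensorProduct B (Localization.AtPrime m) (W.X i))
    (fun m _ => TensorProduct.mk B (Localization.AtPrime m) (W.X i) 1)
    (fun m _ => TensorProduct B (Localization.AtPrime m) (W.X (i + 1)))
    (fun m _ => TensorProduct.mk B (Localization.AtPrime m) (W.X (i + 1)) 1) _ _ fun m hm => ?_
  have key : ∀ {M N : Type u} [AddCommGroup M] [Module B M] [AddCommGroup N] [Module B N] (F : M →ₗ[B] N),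
      IsLocalizedModule.map m.primeCompl (TensorProduct.mk B (Localization.AtPrime m) M 1)
        (TensorProduct.mk B (Localization.AtPrime m) N 1) F = F.lTensor (Localization.AtPrime m) := by
    intro M N _ _ _ _ F
    refine IsLocalizedModule.linearMap_ext m.primeCompl (TensorProduct.mk B (Localization.AtPrime m) M 1)
      (TensorProduct.mk B (Localization.AtPrime m) N 1) (LinearMap.ext fun x => ?_)
    exact IsLocalizedModule.map_apply m.primeCompl (TensorProduct.mk B (Localization.AtPrime m) M 1) (TensorProduct.mk B (Localization.AtPrime m) N 1) F x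
  rw [key, key]
  have e : (algebraMap B (Localization.AtPrime m)).toAlgebra =
      (inferInstance : Algebra B (Localization.AtPrime m)) := Algebra.algebra_ext _ _ fun r => rfl
  have h' := (exactAt_bc_iff (algebraMap B (Localization.AtPrime m)) W i).1 (h m)
  rw [e] at h'
  exact (LinearMap.rTensor_exact_iff_lTensor_exact _).1 h'

/-- The tensor product with a module, computed by resolving either side. -/
theorem exactAt_tensor_module_iff {P C F : DRing.Cx A} (hP : KF.IsKFlat P) (hF : KF.IsKFlat F) (q : P ⟶ C)
    [QuasiIso q] {X : ModuleCat.{u} A} (ε : F ⟶ (HomologicalComplex.single (ModuleCat.{u} A) (ComplexShape.up ℤ) 0).obj X)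
    [QuasiIso ε] (i : ℤ) :
    (DRing.tensorCx P X).ExactAt i ↔ (((KF.tensorCx (R := A)).obj C).obj F).ExactAt i := by
  haveI := KF.quasiIso_tensor_map_of_isKFlat ε P hP
  haveI : QuasiIso (((KF.tensorCx (R := A)).map q).app F) := KF.quasiIso_map_of_isKFlat q F hF
  refine (KF.exactAt_iff_of_iso (KF.singleIso P X) i).trans ?_
  exact (KF.exactAt_iff_of_quasiIso (((KF.tensorCx (R := A)).obj P).map ε) i).symm.trans
    (KF.exactAt_iff_of_quasiIso (((KF.tensorCx (R := A)).map q).app F) i)

/-- Tor amplitude over `A` from the localisations at the maximal ideals of `B`. -/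
theorem hasTorAmplitudeIn_restrict_of_maximal [Algebra A B] (K : DRing.Cx B) (a b : ℤ)
    (h3 : ∀ (m : Ideal B) [m.IsMaximal],
      DRing.HasTorAmplitudeIn (Localization.AtPrime (m.comap (algebraMap A B))) a b
        (DRing.toD ((DRing.restrictCx (Localization.localRingHom (m.comap (algebraMap A B)) m (algebraMap A B) rfl)).obj
          ((bc (algebraMap B (Localization.AtPrime m))).obj K)))) :
    DRing.HasTorAmplitudeIn A a b (DRing.toD ((DRing.restrictCx (algebraMap A B)).obj K)) := by
  obtain ⟨P, q, hP, -, hq, -⟩ := KF.exists_kflat_resolution ((DRing.restrictCx (algebraMap A B)).obj K)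
  haveI := hq
  refine hasTorAmplitudeIn_of_iso (asIso (DerivedCategory.Q.map q))
    ((KF.hasTorAmplitudeIn_iff_kflat hP a b).2 fun X i hi => ?_)
  let F := (projectiveResolution X).cochainComplex
  let ε : F ⟶ (HomologicalComplex.single (ModuleCat.{u} A) (ComplexShape.up ℤ) 0).obj X := (projectiveResolution X).π'
  haveI : QuasiIso ε := inferInstanceAs (QuasiIso (projectiveResolution X).π')
  have hF : KF.IsKFlat F := KF.isKFlat_cochainComplex _
  refine (exactAt_tensor_module_iff hP hF q ε i).2 ?_
  refine (KF.exactAt_iff_of_iso (KF.baseChangeTensorIso (algebraMap A B) K F) i).1 ?_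
  refine (KF.exactAt_restrict_iff (algebraMap A B) _ i).2 (exactAt_of_forall_maximal _ i fun m _ => ?_)
  let p := m.comap (algebraMap A B)
  let ι := algebraMap A (Localization.AtPrime p)
  let ψ := algebraMap B (Localization.AtPrime m)
  let χ := Localization.localRingHom p m (algebraMap A B) rfl
  have hc : χ.comp ι = ψ.comp (algebraMap A B) :=
    RingHom.ext fun x => Localization.localRingHom_to_map p m (algebraMap A B) rfl x
  let F' := (bc ι).obj F
  let Km := (bc ψ).obj K
  have e₁ : (bc ψ).obj ((bc (algebraMap A B)).obj F) ≅ (bc χ).obj F' :=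
    (bcCompIso (algebraMap A B) ψ F).symm ≪≫ eqToIso (by rw [hc]) ≪≫ bcCompIso ι χ F
  refine (KF.exactAt_iff_of_iso (bcTensorIso ψ K ((bc (algebraMap A B)).obj F) ≪≫
    ((KF.tensorCx (R := Localization.AtPrime m)).obj Km).mapIso e₁) i).2 ?_
  refine (KF.exactAt_restrict_iff χ _ i).1 ((KF.exactAt_iff_of_iso (KF.baseChangeTensorIso χ Km F') i).2 ?_)
  obtain ⟨P', q', hP', -, hq', -⟩ := KF.exists_kflat_resolution ((DRing.restrictCx χ).obj Km)
  haveI := hq'
  have hT := (KF.hasTorAmplitudeIn_iff_kflat hP' a b).1
    (hasTorAmplitudeIn_of_iso (asIso (DerivedCategory.Q.map q')).symm (h3 m))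
  haveI : (ModuleCat.extendScalars.{u, u, u} ι).PreservesHomology := by
    haveI := preservesFiniteLimits_extendScalars ι
      (RingHom.flat_algebraMap_iff.2 (IsLocalization.flat (Localization.AtPrime p) p.primeCompl))
    infer_instance
  haveI : QuasiIso ((bc ι).map ε) :=
    inferInstanceAs (QuasiIso (((ModuleCat.extendScalars.{u, u, u} ι).mapHomologicalComplex (ComplexShape.up ℤ)).map ε))
  let ε' : F' ⟶ (HomologicalComplex.single _ (ComplexShape.up ℤ) 0).obj ((ModuleCat.extendScalars.{u, u, u} ι).obj X) :=
    (bc ι).map ε ≫ (HomologicalComplex.singleMapHomologicalComplex (ModuleCat.extendScalars.{u, u, u} ι)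
      (ComplexShape.up ℤ) 0).hom.app X
  haveI : QuasiIso ε' := inferInstanceAs (QuasiIso (_ ≫ _))
  exact (exactAt_tensor_module_iff hP' (KF.isKFlat_bc ι hF) q' ε' i).1 (hT _ i hi)

end GrothLib.DR
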