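import Groth.Agent.S12898
import Groth.Prelude.Def_TrivBC
import Groth.Agent.Lib.DCxRing.LBase

/-!
# Composition of derived base changes
-/

set_option autoImplicit false
universe u

open CategoryTheory CategoryTheory.Limits

attribute [local instance] HasDerivedCategory.standard

namespace GrothLib.DR

variable {R A B : Type u} [CommRing R] [CommRing A] [CommRing B] (φ : R →+* A) (ψ : A →+* B) (χ : R →+* B)

/-- Restriction along a composite. -/
noncomputable def restrictDComp (h : χ = ψ.comp φ) : DRing.restrictD ψ ⋙ DRing.restrictD φ ≅ DRing.restrictD χ :=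
  Localization.liftNatIso (DerivedCategory.Q (C := ModuleCat.{u} B))
    (HomologicalComplex.quasiIso (ModuleCat.{u} B) (ComplexShape.up ℤ)) _ _ _ _
    (h₁ := TrivBC.liftingRes₂ ψ φ)
    (h₂ := ⟨(ModuleCat.restrictScalars.{u} χ).mapDerivedCategoryFactors⟩)
    ((Functor.associator _ _ _).symm ≪≫ Functor.isoWhiskerRight
      (Functor.mapHomologicalComplexCompIso (ModuleCat.restrictScalarsComp' φ ψ χ h).symm (ComplexShape.up ℤ)) _)

/-- Base change in two steps. -/
theorem nonempty_lBase_comp (h : χ = ψ.comp φ) [DRing.HasLBaseChange φ] [DRing.HasLBaseChange ψ]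
    [DRing.HasLBaseChange χ] (K : Dual.D R) :
    Nonempty ((DRing.LBaseChange ψ).obj ((DRing.LBaseChange φ).obj K) ≅ (DRing.LBaseChange χ).obj K) := by
  obtain ⟨a₁⟩ := Groth.Agent.S12898.result φ
  obtain ⟨a₂⟩ := Groth.Agent.S12898.result ψ
  obtain ⟨a⟩ := Groth.Agent.S12898.result χ
  exact ⟨((((a₁.comp a₂).ofNatIsoRight (restrictDComp φ ψ χ h)).leftAdjointUniq a)).app K⟩

end GrothLib.DR
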