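import Groth.Agent.Lib.DCxRing.PerfectModule
import Groth.Agent.Lib.DCxRing.Covers
import Groth.Agent.Lib.DCxRing.Restrict
import Groth.Agent.Lib.DCxKFlat.BaseChange

/-!
# Tor amplitude and restriction of scalars
-/

set_option autoImplicit false
universe u

open CategoryTheory CategoryTheory.Limits MonoidalCategory HomologicalComplex Pretriangulated

attribute [local instance] HasDerivedCategory.standard

namespace GrothLib.DR

variable {A B : Type u} [CommRing A] [CommRing B]

lemma hasTorAmplitudeIn_of_equiv {M N : Type u} [AddCommGroup M] [Module A M] [AddCommGroup N] [Module A N]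
    (e : M ≃ₗ[A] N) {a b : ℤ} (h : DRing.HasTorAmplitudeIn A a b (Dual.inD A M)) :
    DRing.HasTorAmplitudeIn A a b (Dual.inD A N) :=
  hasTorAmplitudeIn_of_iso ((DerivedCategory.singleFunctor (ModuleCat.{u} A) 0).mapIso e.toModuleIso) h

/-- A module of finite tor dimension has tor amplitude in some `[-d, 0]`. -/
theorem exists_torDim {M : Type u} [AddCommGroup M] [Module A M]
    (h : DRing.HasFiniteTorDimCx A (Dual.inD A M)) :
    ∃ d : ℕ, DRing.HasTorAmplitudeIn A (-(d : ℤ)) 0 (Dual.inD A M) := by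
  obtain ⟨a, b, hT⟩ := h
  obtain ⟨P, hP, hPp, ⟨e⟩⟩ := exists_projective_rep (Dual.inD A M) 0 fun i hi =>
    subsingleton_HD_inD M i (by omega)
  refine ⟨(-a).toNat, hasTorAmplitudeIn_of_iso e
    ((hasTorAmplitudeIn_iff hP (termwiseFlat_of_projective hPp) _ _).2 ?_)⟩
  intro N _ _ i hi
  rcases hi with hi | hi
  · exact (hasTorAmplitudeIn_iff hP (termwiseFlat_of_projective hPp) a b).1
      (hasTorAmplitudeIn_of_iso e.symm hT) N i (Or.inl (by omega))
  · exact tExact_of_isZero (hP i hi) N

variable (φ : A →+* B)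

/-- Tensoring with the restriction of a flat module factors through base change. -/
theorem exactAt_tensor_restrict_of_flat (M : ModuleCat.{u} B) [Module.Flat B M] (Q : DRing.Cx A) (i : ℤ)
    (h : ((bc φ).obj Q).ExactAt i) :
    (DRing.tensorCx Q ((ModuleCat.restrictScalars φ).obj M)).ExactAt i := by
  haveI : PreservesFiniteLimits (tensorLeft M) := by
    haveI : (tensorLeft M).PreservesHomology := Functor.preservesHomology_of_map_exact _ fun S hS => by
      rw [ShortComplex.ShortExact.moduleCat_exact_iff_function_exact] at hS ⊢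
      exact Module.Flat.lTensor_exact (R := B) M hS
    exact Functor.preservesFiniteLimits_of_preservesHomology _
  haveI : PreservesFiniteColimits (tensorLeft M) := PreservesColimitsOfSize.preservesFiniteColimits _
  let F : ModuleCat.{u} B ⥤ ModuleCat.{u} A := tensorLeft M ⋙ ModuleCat.restrictScalars φ
  have hF : ((F.mapHomologicalComplex (ComplexShape.up ℤ)).obj ((bc φ).obj Q)).ExactAt i :=
    exactAt_map_exact F h
  refine hF.of_iso (HomologicalComplex.Hom.isoOfComponents
    (fun j => KF.restrictTensorExtendIso φ M (Q.X j) ≪≫ β_ _ _) fun j k _ => ?_)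
  change ((KF.restrictTensorExtendIso φ M (Q.X j)).hom ≫ (β_ _ _).hom) ≫
      Q.d j k ▷ (ModuleCat.restrictScalars φ).obj M =
    (ModuleCat.restrictScalars φ).map (M ◁ (ModuleCat.extendScalars φ).map (Q.d j k)) ≫
      (KF.restrictTensorExtendIso φ M (Q.X k)).hom ≫ (β_ _ _).hom
  rw [← Category.assoc ((ModuleCat.restrictScalars φ).map _), KF.restrictTensorExtendIso_natural₂,
    Category.assoc, Category.assoc, BraidedCategory.braiding_naturality_right]

/-- A flat module over `B` has over `A` at most the tor dimension of `B`. -/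
theorem hasTorAmplitudeIn_restrict_of_flat (d : ℕ)
    (hB : DRing.HasTorAmplitudeIn A (-(d : ℤ)) 0
      (Dual.inD A ((ModuleCat.restrictScalars φ).obj (ModuleCat.of B B))))
    (M : ModuleCat.{u} B) [Module.Flat B M] :
    DRing.HasTorAmplitudeIn A (-(d : ℤ)) 0 (Dual.inD A ((ModuleCat.restrictScalars φ).obj M)) := by
  rw [← KF.hasTorDimLE_iff] at hB ⊢
  intro N _ _ p hp
  obtain ⟨q, rfl⟩ : ∃ q, p = q + 1 := ⟨p - 1, by omega⟩
  have hb := (KF.subsingleton_tor_iff _ (projectiveResolution (ModuleCat.of A N)) q).1 (hB N (q + 1) hp)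
  rw [KF.subsingleton_tor_iff _ (projectiveResolution (ModuleCat.of A N)) q]
  refine exactAt_tensor_restrict_of_flat φ M _ _ ((exactAt_bc_iff φ _ _).2 ?_)
  exact (tExact_iff _ ((ModuleCat.restrictScalars φ).obj (ModuleCat.of B B)) _).2 hb

/-- Restriction of scalars and tor amplitude. -/
theorem hasTorAmplitudeIn_restrictD (d : ℕ)
    (hB : DRing.HasTorAmplitudeIn A (-(d : ℤ)) 0
      (Dual.inD A ((ModuleCat.restrictScalars φ).obj (ModuleCat.of B B))))
    {K : Dual.D B} {a b : ℤ} (hK : DRing.HasTorAmplitudeIn B a b K) :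
    DRing.HasTorAmplitudeIn A (a - d) b ((DRing.restrictD φ).obj K) := by
  obtain ⟨E, hv, hf, ⟨e⟩⟩ := hK
  refine hasTorAmplitudeIn_of_iso ((restrictToDIso φ E).symm ≪≫ (DRing.restrictD φ).mapIso e) ?_
  refine prop_bounded (DRing.HasTorAmplitudeIn A (a - d) b) (fun e h => hasTorAmplitudeIn_of_iso e h)
    (fun X hX => hasTorAmplitudeIn_of_isZero hX _ _)
    (fun T hT h₁ h₃ => hasTorAmplitudeIn_obj₂ T hT h₁ h₃) _ a b
    (fun i hi => (ModuleCat.restrictScalars φ).map_isZero (hv i hi)) fun i hi hib => ?_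
  haveI := hf i
  exact hasTorAmplitudeIn_mono (a := i - (d : ℤ)) (b := i) (by omega) hib
    (hasTorAmplitudeIn_shift (hasTorAmplitudeIn_restrict_of_flat φ d hB (E.X i)) (-i) _ _ (by omega) (by omega))

/-- The ring, as a module over `A`. -/
noncomputable def restrictSelfEquiv [Algebra A B] :
    B ≃ₗ[A] (ModuleCat.restrictScalars (algebraMap A B)).obj (ModuleCat.of B B) where
  toFun x := x
  invFun x := x
  map_add' _ _ := rfl
  map_smul' r x := Algebra.smul_def r x
  left_inv _ := rfl
  right_inv _ := rfl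

/-- Perfect objects restrict to perfect objects along perfect algebras. -/
theorem isPerfect_restrictD [Algebra A B] (hB : DRing.IsPerfectModule A B) {K : Dual.D B}
    (hK : DRing.IsPerfect B K) : DRing.IsPerfect A ((DRing.restrictD (algebraMap A B)).obj K) := by
  obtain ⟨hBpc, hBt⟩ := isPerfect_iff.1 hB
  obtain ⟨hKpc, a, b, hKt⟩ := isPerfect_iff.1 hK
  obtain ⟨d, hd⟩ := exists_torDim hBt
  exact isPerfect_iff.2 ⟨(isPseudoCoherent'_restrictD_iff (ringPseudoCoherent_algebraMap hBpc) K).1 hKpc,
    a - d, b, hasTorAmplitudeIn_restrictD _ d (hasTorAmplitudeIn_of_equiv restrictSelfEquiv hd) hKt⟩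

end GrothLib.DR
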