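import Groth.Agent.Lib.DCxRing.Fibres
import Groth.Agent.Lib.DCxRing.PerfectModule
import Groth.Agent.Lib.DCxRing.RestrictTor

/-!
# Tor amplitude from the fibres of a flat ring map
-/

set_option autoImplicit false
universe u

open CategoryTheory CategoryTheory.Limits HomologicalComplex MonoidalCategory TensorProduct

attribute [local instance] HasDerivedCategory.standard

namespace GrothLib.DR

variable {A B : Type u} [CommRing A] [CommRing B]

lemma tExact_of_linearEquiv {P : DRing.Cx A} {i : ℤ} {M N : Type u} [AddCommGroup M] [Module A M]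
    [AddCommGroup N] [Module A N] (e : M ≃ₗ[A] N) (h : TExact P M i) : TExact P N i := by
  refine Function.Exact.of_ladder_linearEquiv_of_exact (e₁ := LinearEquiv.lTensor _ e)
    (e₂ := LinearEquiv.lTensor _ e) (e₃ := LinearEquiv.lTensor _ e) ?_ ?_ h <;>
    exact TensorProduct.ext' fun x y => by simp

variable (φ : A →+* B)

/-- `Q ⊗_B (B ⊗_A N)`, over `A`, is `Q ⊗_A N`. -/
noncomputable def restrictTensorCxExtendIso (Q : DRing.Cx B) (N : ModuleCat.{u} A) :
    (DRing.restrictCx φ).obj (DRing.tensorCx Q ((ModuleCat.extendScalars φ).obj N)) ≅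
      DRing.tensorCx ((DRing.restrictCx φ).obj Q) N :=
  HomologicalComplex.Hom.isoOfComponents (fun j => KF.restrictTensorExtendIso φ (Q.X j) N)
    fun j k _ => (KF.restrictTensorExtendIso_natural₁ φ (Q.d j k) N).symm

/-- `B ⊗_A N` tests exactness over `B` as `N` does over `A`. -/
theorem tExact_tensor_iff [Algebra A B] (Q : DRing.Cx B) (N : Type u) [AddCommGroup N] [Module A N] (i : ℤ) :
    TExact Q (B ⊗[A] N) i ↔ TExact ((DRing.restrictCx (algebraMap A B)).obj Q) N i := by
  obtain ⟨e⟩ := nonempty_extendScalars_iso (A := A) (B := B) N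
  let M := (ModuleCat.extendScalars.{u, u, u} (algebraMap A B)).obj (ModuleCat.of A N)
  have h0 : TExact Q (B ⊗[A] N) i ↔ TExact Q M i :=
    ⟨fun h => tExact_of_linearEquiv e.toLinearEquiv h, fun h => tExact_of_linearEquiv e.toLinearEquiv.symm h⟩
  rw [h0, tExact_iff, tExact_iff, ← KF.exactAt_restrict_iff (algebraMap A B)]
  exact KF.exactAt_iff_of_iso (restrictTensorCxExtendIso (algebraMap A B) Q (ModuleCat.of A N)) i

lemma tensor_bc_iff {C : Type u} [CommRing C] (ψ : B →+* C) (Q : DRing.Cx B) (M : Type u) [AddCommGroup M]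
    [Module C M] (i : ℤ) :
    TExact ((bc ψ).obj Q) M i ↔ (letI := Module.compHom M ψ; TExact Q M i) := by
  letI := Module.compHom M ψ
  rw [tExact_iff, tExact_iff]
  exact (KF.exactAt_tensor_restrict_iff ψ Q (ModuleCat.of C M) i).symm

/-- Exactness at a closed point, from exactness over a fibre of finite global dimension. -/
theorem exactAt_bc_of_fibre [Algebra A B] {C : Type u} [CommRing C] (ψ : B →+* C) (N : Type u) [AddCommGroup N]
    [Module A N] (eC : letI := ψ.toAlgebra; C ≃ₗ[B] B ⊗[A] N) (d : ℕ)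
    (hgl : ∀ (M : Type u) [AddCommGroup M] [Module C M], HasProjectiveDimensionLT (ModuleCat.of C M) (d + 1))
    {D : Type u} [CommRing D] (χ : C →+* D) {Q : DRing.Cx B} {c : ℤ} (hQc : DRing.VanishesAbove Q c)
    (hQf : DRing.TermwiseFiniteFree Q) {a b : ℤ}
    (h : ∀ i, (i < a ∨ b < i) → TExact ((DRing.restrictCx (algebraMap A B)).obj Q) N i)
    (i : ℤ) (hi : i < a - d ∨ b < i) : ((bc (χ.comp ψ)).obj Q).ExactAt i := by
  have hex : ∀ j, (j < a ∨ b < j) → ((bc ψ).obj Q).ExactAt j := fun j hj => by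
    letI := ψ.toAlgebra
    exact (exactAt_bc_iff ψ Q j).2 (tExact_of_linearEquiv eC.symm ((tExact_tensor_iff Q N j).2 (h j hj)))
  have hT := hasTorAmplitudeIn_of_globalDimension d hgl (DRing.toD ((bc ψ).obj Q)) a b
    fun j hj => (exactAt_iff _ j).1 (hex j hj)
  have hp : DRing.TermwiseFlat Q := termwiseFlat_of_projective fun j => projective_of_finiteFree hQf j
  have hv : DRing.VanishesAbove ((bc ψ).obj Q) c := fun j hj => (ModuleCat.extendScalars ψ).map_isZero (hQc j hj)
  have hf : DRing.TermwiseFlat ((bc ψ).obj Q) := termwiseFlat_bc ψ hp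
  letI := χ.toAlgebra
  have h1 := (hasTorAmplitudeIn_iff hv hf _ b).1 hT D i hi
  have h2 := (tensor_bc_iff ψ Q D i).1 h1
  refine (exactAt_bc_iff (χ.comp ψ) Q i).2 ?_
  letI := (χ.comp ψ).toAlgebra
  letI m₁ : Module B D := Module.compHom D ψ
  exact @tExact_of_linearEquiv B _ Q i D D _ m₁ _ (χ.comp ψ).toAlgebra.toModule
    { toFun := id, invFun := id, left_inv := fun _ => rfl, right_inv := fun _ => rfl,
      map_add' := fun _ _ => rfl, map_smul' := fun _ _ => rfl } h2

/-- Restriction along a flat map keeps flat terms. -/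
lemma termwiseFlat_restrict [Algebra A B] [Module.Flat A B] {Q : DRing.Cx B}
    (hQ : DRing.TermwiseFlat Q) : DRing.TermwiseFlat ((DRing.restrictCx (algebraMap A B)).obj Q) := fun i => by
  letI : Module A (Q.X i) := Module.compHom _ (algebraMap A B)
  haveI : IsScalarTower A B (Q.X i) := ⟨fun r s x => by
    rw [Algebra.smul_def]
    exact mul_smul _ _ _⟩
  haveI := hQ i
  exact Module.Flat.trans A B (Q.X i)

/-- Exactness after base change does not depend on the K-flat representative. -/
theorem exactAt_bc_congr {C : Type u} [CommRing C] (χ : B →+* C) {P Q : DRing.Cx B} (hP : KF.IsKFlat P)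
    (hQ : KF.IsKFlat Q) (e : DRing.toD P ≅ DRing.toD Q) (i : ℤ) (h : ((bc χ).obj Q).ExactAt i) :
    ((bc χ).obj P).ExactAt i := by
  haveI := KF.hasLBaseChange χ
  obtain ⟨e'⟩ := KF.lBase_value χ hQ
  exact exactAt_bc_of_lBase χ hP ⟨e⟩ i (subsingleton_HD_of_iso e'.symm i ((exactAt_iff _ i).1 h))

end GrothLib.DR
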