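import Groth.Agent.Lib.DCxRing.Reduction
import Groth.Agent.Lib.DCxRing.FibreAmp
import Groth.Agent.Lib.DCxRing.LBase
import Mathlib.RingTheory.Localization.Away.Basic
import Mathlib.RingTheory.Localization.Module

/-!
# Flatness from a localisation and a quotient
-/

set_option autoImplicit false
universe u

open CategoryTheory CategoryTheory.Limits HomologicalComplex TensorProduct MonoidalCategory

attribute [local instance] HasDerivedCategory.standard

namespace GrothLib.DR

variable {A : Type u} [CommRing A] {P : DRing.Cx A}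

/-- Exactness of `P ⊗ -` on an extension. -/
theorem tExact_middle (hP : DRing.TermwiseFlat P) {X : Type u} [AddCommGroup X] [Module A X] (W : Submodule A X)
    (i : ℤ) (h₁ : TExact P W i) (h₃ : TExact P (X ⧸ W) i) : TExact P X i := by
  rw [tExact_iff] at h₁ h₃ ⊢
  let S : ShortComplex (ModuleCat.{u} A) := ShortComplex.mk
    (X₁ := ModuleCat.of A W) (X₂ := ModuleCat.of A X) (X₃ := ModuleCat.of A (X ⧸ W))
    (ModuleCat.ofHom W.subtype) (ModuleCat.ofHom W.mkQ)
    (ModuleCat.hom_ext (LinearMap.ext fun x => (Submodule.Quotient.mk_eq_zero W).2 x.2))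
  have hS : S.ShortExact :=
    { exact := (ShortComplex.ShortExact.moduleCat_exact_iff_function_exact S).2 (LinearMap.exact_subtype_mkQ W)
      mono_f := (ModuleCat.mono_iff_injective _).2 Subtype.val_injective
      epi_g := (ModuleCat.epi_iff_surjective _).2 W.mkQ_surjective }
  exact exactAt_tensor_middle hP hS i h₁ h₃

lemma lTensor_rTensor {M N X Y : Type u} [AddCommGroup M] [Module A M] [AddCommGroup N] [Module A N]
    [AddCommGroup X] [Module A X] [AddCommGroup Y] [Module A Y] (d : M →ₗ[A] N) (f : X →ₗ[A] Y) (z : M ⊗[A] X) :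
    f.lTensor N (d.rTensor X z) = d.rTensor Y (f.lTensor M z) := by
  induction z using TensorProduct.induction_on <;> simp_all

/-- Exactness on a submodule of an acyclic module. -/
theorem tExact_sub (hP : DRing.TermwiseFlat P) {X : Type u} [AddCommGroup X] [Module A X] (W : Submodule A X)
    (i : ℤ) (h₂ : TExact P X i) (h₃ : TExact P (X ⧸ W) (i - 1)) : TExact P W i := by
  have hpre : ∀ j, Function.Injective (W.subtype.lTensor (P.X j)) := fun j => by
    haveI := hP j
    exact Module.Flat.lTensor_preserves_injective_linearMap (M := P.X j) W.subtype Subtype.val_injective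
  have hzero : ∀ (M : Type u) [AddCommGroup M] [Module A M] (y : P.X (i - 1) ⊗[A] M),
      (P.d i (i + 1)).hom.rTensor M ((P.d (i - 1) i).hom.rTensor M y) = 0 := fun M _ _ y => by
    rw [← LinearMap.comp_apply, ← LinearMap.rTensor_comp, ← ModuleCat.hom_comp, P.d_comp_d]
    exact LinearMap.congr_fun (LinearMap.rTensor_zero M) y
  intro z
  refine ⟨fun hz => ?_, ?_⟩
  · have h' : (P.d i (i + 1)).hom.rTensor X (W.subtype.lTensor _ z) = 0 := by
      rw [← lTensor_rTensor, hz, map_zero]
    obtain ⟨y, hy⟩ := (h₂ _).1 h'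
    let π := W.mkQ
    have hπy : (P.d (i - 1) i).hom.rTensor (X ⧸ W) (π.lTensor _ y) = 0 := by
      rw [← lTensor_rTensor, hy, ← LinearMap.comp_apply, ← LinearMap.lTensor_comp,
        show π.comp W.subtype = 0 from LinearMap.ext fun x => (Submodule.Quotient.mk_eq_zero W).2 x.2,
        LinearMap.lTensor_zero, LinearMap.zero_apply]
    have h₃' : Function.Exact ((P.d (i - 1 - 1) (i - 1)).hom.rTensor (X ⧸ W))
        ((P.d (i - 1) i).hom.rTensor (X ⧸ W)) := by
      have := h₃
      unfold TExact at this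
      rwa [sub_add_cancel] at this
    obtain ⟨w, hw⟩ := (h₃' _).1 hπy
    obtain ⟨w', rfl⟩ := LinearMap.lTensor_surjective (P.X (i - 1 - 1)) W.mkQ_surjective w
    have hyw : π.lTensor _ (y - (P.d (i - 1 - 1) (i - 1)).hom.rTensor X w') = 0 := by
      rw [map_sub, lTensor_rTensor, hw, sub_self]
    obtain ⟨v, hv⟩ := (lTensor_exact (P.X (i - 1)) (LinearMap.exact_subtype_mkQ W) W.mkQ_surjective _).1 hyw
    refine ⟨v, hpre i ?_⟩
    rw [lTensor_rTensor, hv, map_sub, hy, ← LinearMap.comp_apply, ← LinearMap.rTensor_comp, ← ModuleCat.hom_comp,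
      P.d_comp_d]
    simp
  · rintro ⟨y, rfl⟩
    exact hzero W y

/-- An element of a tensor product with a torsion module lives at a finite stage. -/
theorem exists_torsion_stage {M X : Type u} [AddCommGroup M] [Module A M] [AddCommGroup X] [Module A X] (f : A)
    (hX : ∀ x : X, ∃ n : ℕ, f ^ n • x = 0) (z : M ⊗[A] X) :
    ∃ (n : ℕ) (z' : M ⊗[A] (Submodule.torsionBy A X (f ^ n))), (Submodule.torsionBy A X (f ^ n)).subtype.lTensor M z' = z := by
  have mono : ∀ {n m : ℕ}, n ≤ m → Submodule.torsionBy A X (f ^ n) ≤ Submodule.torsionBy A X (f ^ m) := by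
    intro n m h x hx
    obtain ⟨k, rfl⟩ := Nat.exists_eq_add_of_le h
    rw [Submodule.mem_torsionBy_iff] at hx ⊢
    rw [pow_add, mul_comm, mul_smul, hx, smul_zero]
  induction z using TensorProduct.induction_on with
  | zero => exact ⟨0, 0, map_zero _⟩
  | tmul m x =>
    obtain ⟨n, hn⟩ := hX x
    exact ⟨n, m ⊗ₜ ⟨x, (Submodule.mem_torsionBy_iff _ _).2 hn⟩, rfl⟩
  | add a b ha hb =>
    obtain ⟨n, a', rfl⟩ := ha
    obtain ⟨m, b', rfl⟩ := hb
    refine ⟨max n m, (Submodule.inclusion (mono (le_max_left n m))).lTensor M a' +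
      (Submodule.inclusion (mono (le_max_right n m))).lTensor M b', ?_⟩
    simp only [map_add, ← LinearMap.comp_apply, ← LinearMap.lTensor_comp, Submodule.subtype_comp_inclusion]

/-- Flat degree zero from away and quotient. -/
theorem tExact_of_away_quotient (hP : DRing.TermwiseFlat P) (f : A) (d : ℤ)
    (hloc : ∀ (M : ModuleCat.{u} (Localization.Away f)) (i : ℤ), i < d →
      (DRing.tensorCx ((bc (algebraMap A (Localization.Away f))).obj P) M).ExactAt i)
    (hquot : ∀ (M : ModuleCat.{u} (A ⧸ Ideal.span ({f} : Set A))) (i : ℤ), i < d →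
      (DRing.tensorCx ((bc (Ideal.Quotient.mk (Ideal.span ({f} : Set A)))).obj P) M).ExactAt i)
    (X : Type u) [AddCommGroup X] [Module A X] (i : ℤ) (hi : i < d) : TExact P X i := by
  have killed : ∀ (n : ℕ) (X : Type u) [AddCommGroup X] [Module A X], (∀ x : X, f ^ n • x = 0) →
      ∀ i, i < d → TExact P X i := by
    intro n
    induction n with
    | zero =>
      intro X _ _ hX i _
      haveI : Subsingleton X := ⟨fun x y => by rw [← one_smul A x, ← one_smul A y, ← pow_zero f, hX, hX]⟩
      intro z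
      have hz : z = 0 := Subsingleton.elim z 0
      subst hz
      exact ⟨fun _ => ⟨0, map_zero _⟩, fun _ => map_zero _⟩
    | succ n ih =>
      intro X _ _ hX i hi
      let W : Submodule A X := Submodule.torsionBy A X f
      refine tExact_middle hP W i ?_ ?_
      · rw [tExact_iff]
        obtain ⟨N, ⟨eN⟩⟩ := exists_restrict_iso (Ideal.Quotient.mk (Ideal.span ({f} : Set A)))
          Ideal.Quotient.mk_surjective (ModuleCat.of A W) (by
            rw [Ideal.mk_ker, ← le_bot_iff, Submodule.smul_le]
            intro a ha x _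
            obtain ⟨b, rfl⟩ := Ideal.mem_span_singleton'.1 ha
            rw [Submodule.mem_bot, mul_smul]
            have : f • x = 0 := Subtype.ext ((Submodule.mem_torsionBy_iff _ _).1 x.2)
            rw [this, smul_zero])
        exact (tExact_iff P W i).1 (tExact_of_linearEquiv eN.toLinearEquiv
          ((tExact_iff P _ i).2 ((KF.exactAt_tensor_restrict_iff _ P N i).2 (hquot N i hi))))
      · refine ih _ (fun x => ?_) i hi
        obtain ⟨x, rfl⟩ := W.mkQ_surjective x
        rw [← map_smul]
        refine (Submodule.Quotient.mk_eq_zero W).2 ((Submodule.mem_torsionBy_iff _ _).2 ?_)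
        rw [← mul_smul, ← pow_succ']
        exact hX x
  have torsion : ∀ (X : Type u) [AddCommGroup X] [Module A X], (∀ x : X, ∃ n : ℕ, f ^ n • x = 0) →
      ∀ i, i < d → TExact P X i := by
    intro X _ _ hX i hi z
    refine ⟨fun hz => ?_, ?_⟩
    · obtain ⟨n, z', rfl⟩ := exists_torsion_stage f hX z
      rw [← lTensor_rTensor] at hz
      haveI := hP (i + 1)
      have hz' : (P.d i (i + 1)).hom.rTensor _ z' = 0 :=
        (map_eq_zero_iff _ (Module.Flat.lTensor_preserves_injective_linearMap (M := P.X (i + 1))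
          (Submodule.torsionBy A X (f ^ n)).subtype Subtype.val_injective)).1 hz
      obtain ⟨y, rfl⟩ := (killed n _ (fun x => Subtype.ext ((Submodule.mem_torsionBy_iff _ _).1 x.2)) i hi _).1 hz'
      exact ⟨_, (lTensor_rTensor _ _ y).symm⟩
    · rintro ⟨y, rfl⟩
      rw [← LinearMap.comp_apply, ← LinearMap.rTensor_comp, ← ModuleCat.hom_comp, P.d_comp_d]
      exact LinearMap.congr_fun (LinearMap.rTensor_zero X) y
  let L := LocalizedModule (Submonoid.powers f) X
  let ι : X →ₗ[A] L := LocalizedModule.mkLinearMap (Submonoid.powers f) X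
  haveI : IsLocalizedModule (Submonoid.powers f) ι := inferInstance
  refine tExact_middle hP (LinearMap.ker ι) i (torsion _ (fun x => ?_) i hi) ?_
  · obtain ⟨⟨c, n, rfl⟩, hc⟩ := (IsLocalizedModule.eq_zero_iff (Submonoid.powers f) ι).1 (LinearMap.mem_ker.1 x.2)
    exact ⟨n, Subtype.ext hc⟩
  · refine tExact_of_linearEquiv ι.quotKerEquivRange.symm ?_
    refine tExact_sub hP (LinearMap.range ι) i ?_ (torsion _ (fun x => ?_) (i - 1) (by omega))
    · let N : ModuleCat.{u} (Localization.Away f) := ModuleCat.of (Localization.Away f) L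
      let e : ((ModuleCat.restrictScalars (algebraMap A (Localization.Away f))).obj N) ≃ₗ[A] L :=
        { toFun := fun x => x
          map_add' := fun _ _ => rfl
          map_smul' := fun a x => algebraMap_smul (Localization.Away f) a (show L from x)
          invFun := fun x => x
          left_inv := fun _ => rfl
          right_inv := fun _ => rfl }
      exact tExact_of_linearEquiv e
        ((tExact_iff P _ i).2 ((KF.exactAt_tensor_restrict_iff _ P N i).2 (hloc N i hi)))
    · obtain ⟨l, rfl⟩ := (LinearMap.range ι).mkQ_surjective x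
      obtain ⟨⟨m, s, n, rfl⟩, hm⟩ := IsLocalizedModule.surj (Submonoid.powers f) ι l
      refine ⟨n, ?_⟩
      rw [← map_smul]
      exact (Submodule.Quotient.mk_eq_zero _).2 ⟨m, hm.symm⟩

/-- An object of tor amplitude zero is a flat module. -/
theorem exists_flat_inD_iso {K : Dual.D A} (h : DRing.HasTorAmplitudeIn A 0 0 K) :
    ∃ (N : Type u) (_ : AddCommGroup N) (_ : Module A N), Module.Flat A N ∧ Nonempty (K ≅ Dual.inD A N) := by
  obtain ⟨E, hv, hE, ⟨e⟩⟩ := h
  let η := singleObjXSelf (ComplexShape.up ℤ) (0 : ℤ) (E.X 0)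
  let φ : E ⟶ (HomologicalComplex.single (ModuleCat.{u} A) (ComplexShape.up ℤ) 0).obj (E.X 0) :=
    mkHomToSingle (𝟙 _) fun i hi => (hv i (Or.inl (by simp only [ComplexShape.up_Rel] at hi; omega))).eq_of_src _ _
  haveI : ∀ i, IsIso (φ.f i) := fun i => by
    by_cases hi : i = 0
    · subst hi
      rw [show φ.f 0 = 𝟙 _ ≫ η.inv from mkHomToSingle_f _ _]
      infer_instance
    · exact ⟨0, (hv i (by omega)).eq_of_src _ _, (isZero_single_obj_X _ _ _ _ hi).eq_of_src _ _⟩
  haveI : IsIso φ := HomologicalComplex.Hom.isIso_of_components φ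
  exact ⟨E.X 0, inferInstance, inferInstance, hE 0, ⟨e.symm ≪≫ DerivedCategory.Q.mapIso (asIso φ) ≪≫
    (((SingleFunctors.evaluation _ _ 0).mapIso
      (DerivedCategory.singleFunctorsPostcompQIso (ModuleCat.{u} A))).app (E.X 0)).symm⟩⟩

/-- The converse. -/
theorem hasTorAmplitudeIn_of_flat (N : Type u) [AddCommGroup N] [Module A N] [Module.Flat A N] :
    DRing.HasTorAmplitudeIn A 0 0 (Dual.inD A N) := by
  refine ⟨(HomologicalComplex.single (ModuleCat.{u} A) (ComplexShape.up ℤ) 0).obj (ModuleCat.of A N),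
    fun i hi => isZero_single_obj_X _ _ _ _ (by omega), fun i => ?_,
    ⟨(((SingleFunctors.evaluation _ _ 0).mapIso
      (DerivedCategory.singleFunctorsPostcompQIso (ModuleCat.{u} A))).app (ModuleCat.of A N)).symm⟩⟩
  by_cases h : i = 0
  · subst h
    exact Module.Flat.of_linearEquiv (singleObjXSelf (ComplexShape.up ℤ) 0 (ModuleCat.of A N)).toLinearEquiv
  · haveI := ModuleCat.subsingleton_of_isZero (isZero_single_obj_X (ComplexShape.up ℤ) 0 (ModuleCat.of A N) i h)
    infer_instance

/-- Flatness in degree zero from a localisation and a quotient. -/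
theorem exists_flat_inD_iso_of_away_quotient (f : A) (K : Dual.D A)
    [DRing.HasLBaseChange (algebraMap A (Localization.Away f))]
    [DRing.HasLBaseChange (Ideal.Quotient.mk (Ideal.span ({f} : Set A)))]
    (h₁ : ∀ i : ℤ, 0 < i → Subsingleton (Dual.HD A K i))
    (h₂ : DRing.HasTorAmplitudeIn (Localization.Away f) 0 0
      ((DRing.LBaseChange (algebraMap A (Localization.Away f))).obj K))
    (h₃ : DRing.HasTorAmplitudeIn (A ⧸ Ideal.span ({f} : Set A)) 0 0
      ((DRing.LBaseChange (Ideal.Quotient.mk (Ideal.span ({f} : Set A)))).obj K)) :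
    ∃ (N : Type u) (_ : AddCommGroup N) (_ : Module A N), Module.Flat A N ∧ Nonempty (K ≅ Dual.inD A N) := by
  obtain ⟨P, hPv, hPp, ⟨e⟩⟩ := exists_projective_rep K 0 h₁
  have hPf : DRing.TermwiseFlat P := termwiseFlat_of_projective hPp
  have hP : KF.IsKFlat P := KF.isKFlat_of_vanishesAbove hPv hPf
  refine exists_flat_inD_iso (hasTorAmplitudeIn_of_iso e ((hasTorAmplitudeIn_iff hPv hPf 0 0).2 ?_))
  intro M _ _ i hi
  rcases hi with hi | hi
  · refine tExact_of_away_quotient hPf f 0 (fun N j hj => ?_) (fun N j hj => ?_) M i hi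
    · obtain ⟨e'⟩ := KF.lBase_value (algebraMap A (Localization.Away f)) hP
      exact (KF.hasTorAmplitudeIn_iff_kflat (KF.isKFlat_bc _ hP) 0 0).1
        (hasTorAmplitudeIn_of_iso (((DRing.LBaseChange _).mapIso e).symm ≪≫ e') h₂) N j (Or.inl hj)
    · obtain ⟨e'⟩ := KF.lBase_value (Ideal.Quotient.mk (Ideal.span ({f} : Set A))) hP
      exact (KF.hasTorAmplitudeIn_iff_kflat (KF.isKFlat_bc _ hP) 0 0).1
        (hasTorAmplitudeIn_of_iso (((DRing.LBaseChange _).mapIso e).symm ≪≫ e') h₃) N j (Or.inl hj)
  · exact tExact_of_isZero (hPv i hi) M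

end GrothLib.DR
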