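import Groth.Agent.Lib.DCxRing.LBaseCmp
import Groth.Agent.Lib.DCxKFlat.LBaseKFlat
import Mathlib.Algebra.Homology.HomotopyCategory.ShiftSequence
import Mathlib.RingTheory.IsTensorProduct
import Mathlib.LinearAlgebra.TensorProduct.RightExactness

/-!
# Base change along a tor independent square
-/

set_option autoImplicit false
set_option maxHeartbeats 1000000
universe u

open CategoryTheory CategoryTheory.Limits HomologicalComplex TensorProduct

attribute [local instance] HasDerivedCategory.standard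

namespace GrothLib.DR

variable {R A R' A' : Type u} [CommRing R] [CommRing A] [CommRing R'] [CommRing A']

/-- Right exactness of base change. -/
theorem exactAt_bc_of_isZero (φ : R →+* A) (G : DRing.Cx R) (i : ℤ) (h₁ : G.ExactAt i) (h₂ : G.ExactAt (i + 1))
    (h₃ : IsZero (G.X (i + 2))) : ((bc φ).obj G).ExactAt i := by
  rw [exactAt_bc_iff]
  letI := φ.toAlgebra
  have e₁ := (function_exact_d G (i - 1) i (i + 1) (by omega) rfl).1 h₁
  have e₂ := (function_exact_d G i (i + 1) (i + 2) rfl (by omega)).1 h₂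
  haveI := ModuleCat.subsingleton_of_isZero h₃
  refine rTensor_exact A e₁ fun y => ?_
  exact (e₂ y).1 (Subsingleton.elim _ _)

lemma exactAt_shift_one (K : DRing.Cx R) (i : ℤ) (h : K.ExactAt (i + 1)) : (K⟦(1 : ℤ)⟧).ExactAt i := by
  rw [exactAt_iff_isZero_homology] at h ⊢
  exact h.of_iso (((HomologicalComplex.homologyFunctor (ModuleCat.{u} R) (ComplexShape.up ℤ) 0).shiftIso 1 i (i + 1)
    (by omega)).app K)

/-- A resolution stays a resolution after a base change with vanishing Tor. -/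
theorem acyclic_bc_cone (φ : R →+* A) {M : ModuleCat.{u} R} {F : DRing.Cx R}
    (ε : F ⟶ (HomologicalComplex.single (ModuleCat.{u} R) (ComplexShape.up ℤ) 0).obj M) [QuasiIso ε]
    (hF : DRing.VanishesAbove F 0) (hT : ∀ i : ℤ, i < 0 → ((bc φ).obj F).ExactAt i) :
    ((bc φ).obj (CochainComplex.mappingCone ε)).Acyclic := by
  have hG : (CochainComplex.mappingCone ε).Acyclic := (DerCat.quasiIso_iff_acyclic_mappingCone ε).1 inferInstance
  intro i
  by_cases hi : -1 ≤ i
  · refine exactAt_bc_of_isZero φ _ i (hG i) (hG (i + 1)) ?_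
    rw [IsZero.iff_id_eq_zero]
    refine CochainComplex.mappingCone.ext_from ε (i + 2 + 1) (i + 2) rfl ?_ ?_
    · exact (hF _ (by omega)).eq_of_src _ _
    · exact (isZero_single_obj_X _ _ _ _ (by omega)).eq_of_src _ _
  · let S := (KF.coneShortComplex ε).map (bc φ)
    have hS : S.ShortExact := HomologicalComplex.shortExact_of_degreewise_shortExact _ fun q =>
      ((KF.coneSplitting ε q).map (ModuleCat.extendScalars.{u, u, u} φ)).shortExact
    rw [exactAt_iff_isZero_homology]
    refine (hS.homology_exact₂ i).isZero_of_both_zeros (IsZero.eq_of_src ?_ _ _) (IsZero.eq_of_tgt ?_ _ _)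
    · exact (exactAt_iff_isZero_homology _ i).1 ((exactAt_iff' _ (i - 1) i (i + 1) (by simp) (by simp)).2
        (ShortComplex.exact_of_isZero_X₂ _ ((ModuleCat.extendScalars.{u, u, u} φ).map_isZero (isZero_single_obj_X _ _ _ _ (by omega)))))
    · exact (exactAt_iff_isZero_homology _ i).1 ((KF.exactAt_iff_of_iso
        (((ModuleCat.extendScalars.{u, u, u} φ).mapHomologicalComplex (ComplexShape.up ℤ)).commShiftIso (1 : ℤ) |>.app F) i).2
          (exactAt_shift_one _ i (hT (i + 1) (by omega))))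

/-- Base change of a K-flat resolution of a restricted K-flat complex, in the tor independent case. -/
theorem quasiIso_bc_map_of_torIndep (φ : R →+* A) (ρ : R →+* R')
    (hT : letI := φ.toAlgebra; letI := ρ.toAlgebra; ∀ p : ℕ, 1 ≤ p → Subsingleton (DRing.Tor R p A R'))
    {P : DRing.Cx A} (hP : KF.IsKFlat P) {Q : DRing.Cx R} (hQ : KF.IsKFlat Q)
    (q : Q ⟶ (DRing.restrictCx φ).obj P) [QuasiIso q] : QuasiIso ((bc ρ).map q) := by
  letI := ρ.toAlgebra
  let F := (projectiveResolution (ModuleCat.of R R')).cochainComplex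
  let ε : F ⟶ (HomologicalComplex.single (ModuleCat.{u} R) (ComplexShape.up ℤ) 0).obj (ModuleCat.of R R') :=
    (projectiveResolution (ModuleCat.of R R')).π'
  haveI : QuasiIso ε := inferInstanceAs (QuasiIso (projectiveResolution (ModuleCat.of R R')).π')
  have hFv : DRing.VanishesAbove F 0 := KF.vanishesAbove_cochainComplex _
  have hFK : KF.IsKFlat F := KF.isKFlat_cochainComplex _
  have hbc : ∀ i : ℤ, i < 0 → ((bc φ).obj F).ExactAt i := fun i hi => by
    letI := φ.toAlgebra
    obtain ⟨p, rfl⟩ : ∃ p : ℕ, i = -((p + 1 : ℕ) : ℤ) := ⟨(-i - 1).toNat, by push_cast; omega⟩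
    exact (exactAt_bc_iff φ F _).2 ((tExact_iff F A _).2
      ((KF.subsingleton_tor_iff A (projectiveResolution (ModuleCat.of R R')) p).1 (hT (p + 1) (by omega))))
  let G := CochainComplex.mappingCone ε
  have hG : G.Acyclic := (DerCat.quasiIso_iff_acyclic_mappingCone ε).1 inferInstance
  let resP := (DRing.restrictCx φ).obj P
  let C := CochainComplex.mappingCone q
  have hC : C.Acyclic := (DerCat.quasiIso_iff_acyclic_mappingCone q).1 inferInstance
  have hPG : (((KF.tensorCx (R := A)).obj P).obj ((bc φ).obj G)).Acyclic :=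
    DerCat.acyclic_of_iso (KF.tensorCxSymm ((bc φ).obj G) P).symm
      ((KF.isKFlat_iff P).1 hP _ (acyclic_bc_cone φ ε hFv hbc))
  have hresPG : (((KF.tensorCx (R := R)).obj resP).obj G).Acyclic :=
    DerCat.acyclic_of_iso (KF.baseChangeTensorIso φ P G)
      (fun j => (hPG j).map (ModuleCat.restrictScalars φ))
  have hGC : (((KF.tensorCx (R := R)).obj G).obj C).Acyclic :=
    DerCat.acyclic_X₂ (KF.tensorCx_shortExact_of_splitting (KF.coneSplitting q) G)
      (DerCat.acyclic_of_iso (KF.tensorCxSymm G resP) hresPG)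
      ((KF.isKFlat_iff _).1 (KF.isKFlat_shift hQ 1) G hG)
  have hCG : (((KF.tensorCx (R := R)).obj C).obj G).Acyclic :=
    DerCat.acyclic_of_iso (KF.tensorCxSymm C G) hGC
  have hCR : (DRing.tensorCx C (ModuleCat.of R R')).Acyclic :=
    DerCat.acyclic_of_iso (KF.singleIso C (ModuleCat.of R R')).symm
      (DerCat.acyclic_X₁ (KF.tensorCx_shortExact_of_splitting (KF.coneSplitting ε) C) hCG
        ((KF.isKFlat_iff _).1 (KF.isKFlat_shift hFK 1) C hC))
  rw [DerCat.quasiIso_iff_acyclic_mappingCone]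
  exact DerCat.acyclic_of_iso
    (CochainComplex.mappingCone.mapHomologicalComplexIso q (ModuleCat.extendScalars.{u, u, u} ρ)) fun i =>
      (exactAt_bc_iff ρ C i).2 ((tExact_iff C R' i).2 (hCR i))

lemma sandwich_aux {C : Type*} [Category C] {X₁ X₂ X₃ X₄ X₅ X₆ : C} (a : X₁ ⟶ X₂) (b : X₂ ⟶ X₃)
    (m m' : X₃ ⟶ X₄) (c : X₄ ⟶ X₅) (d : X₅ ⟶ X₆) (hm : m = m') :
    (𝟙 _ ≫ a ≫ 𝟙 _ ≫ b) ≫ (𝟙 _ ≫ m ≫ 𝟙 _) ≫ (((c ≫ 𝟙 _) ≫ d) ≫ 𝟙 _) = a ≫ b ≫ m' ≫ c ≫ d := by
  subst hm
  simp

lemma final_aux {C : Type*} [Category C] {O₀ O₁ O₂ O₃ O₄ O₅ O₆ O₇ O₈ : C} (q : O₀ ⟶ O₁) (νi : O₁ ⟶ O₂)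
    (b : O₂ ⟶ O₃) (x : O₃ ⟶ O₄) (y : O₄ ⟶ O₃) (n : O₃ ⟶ O₅) (θ : O₅ ⟶ O₆) (ρi : O₆ ⟶ O₇) (s : O₇ ⟶ O₈)
    (t : O₈ ⟶ O₇) (e : O₁ ⟶ O₅) (h₁ : x ≫ y = 𝟙 _) (h₂ : s ≫ t = 𝟙 _) (h₃ : νi ≫ b ≫ n = e) :
    q ≫ νi ≫ b ≫ x ≫ y ≫ n ≫ θ ≫ ρi ≫ s ≫ t = q ≫ e ≫ θ ≫ ρi := by
  rw [h₂, Category.comp_id, reassoc_of% h₁, ← h₃, Category.assoc, Category.assoc]

section Square

variable {φ : R →+* A} {ρ : R →+* R'} {α : A →+* A'} {φ' : R' →+* A'} (h : α.comp φ = φ'.comp ρ)

/-- The identification of the two restrictions of a complex. -/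
noncomputable def resTheta (X : DRing.Cx A') :
    (DRing.restrictCx φ).obj ((DRing.restrictCx α).obj X) ⟶ (DRing.restrictCx ρ).obj ((DRing.restrictCx φ').obj X) where
  f i := (TrivBC.resCommMod h).hom.app (X.X i)
  comm' i j _ := ((TrivBC.resCommMod h).hom.naturality (X.d i j)).symm

/-- The canonical commutation on localised complexes. -/
theorem resComm_hom_app (X : DRing.Cx A') :
    (TrivBC.resComm h).hom.app (DerivedCategory.Q.obj X) =
      (DRing.restrictD φ).map ((ModuleCat.restrictScalars.{u} α).mapDerivedCategoryFactors.hom.app X) ≫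
        (ModuleCat.restrictScalars.{u} φ).mapDerivedCategoryFactors.hom.app ((DRing.restrictCx α).obj X) ≫
          DerivedCategory.Q.map (resTheta h X) ≫
            (ModuleCat.restrictScalars.{u} ρ).mapDerivedCategoryFactors.inv.app ((DRing.restrictCx φ').obj X) ≫
              (DRing.restrictD ρ).map ((ModuleCat.restrictScalars.{u} φ').mapDerivedCategoryFactors.inv.app X) := by
  letI l₁ := TrivBC.liftingRes₂ α φ
  letI l₂ := TrivBC.liftingRes₂ φ' ρ
  refine (Localization.liftNatTrans_app _ _ _ _ (DRing.restrictD α ⋙ DRing.restrictD φ)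
    (DRing.restrictD φ' ⋙ DRing.restrictD ρ) (TrivBC.resCommCx h).hom X).trans ?_
  have hθ : (Functor.mapHomologicalComplexCompIso (TrivBC.resCommMod h) (ComplexShape.up ℤ)).hom.app X ≫
      (Functor.mapHomologicalComplexCompIso
        (Iso.refl (ModuleCat.restrictScalars.{u} φ' ⋙ ModuleCat.restrictScalars.{u} ρ))
        (ComplexShape.up ℤ)).inv.app X = resTheta h X :=
    HomologicalComplex.hom_ext _ _ fun i => Category.comp_id _
  exact sandwich_aux ((DRing.restrictD φ).map ((ModuleCat.restrictScalars.{u} α).mapDerivedCategoryFactors.hom.app X))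
    ((ModuleCat.restrictScalars.{u} φ).mapDerivedCategoryFactors.hom.app ((DRing.restrictCx α).obj X))
    _ (DerivedCategory.Q.map (resTheta h X))
    ((ModuleCat.restrictScalars.{u} ρ).mapDerivedCategoryFactors.inv.app ((DRing.restrictCx φ').obj X))
    ((DRing.restrictD ρ).map ((ModuleCat.restrictScalars.{u} φ').mapDerivedCategoryFactors.inv.app X))
    (congrArg DerivedCategory.Q.map hθ)

/-- The module map to the restricted base change. -/
noncomputable def toResBC (P : DRing.Cx A) :
    (DRing.restrictCx φ).obj P ⟶ (DRing.restrictCx ρ).obj ((DRing.restrictCx φ').obj ((bc α).obj P)) :=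
  (DRing.restrictCx φ).map (cxUnit α P) ≫ resTheta h ((bc α).obj P)

/-- The comparison of complexes. -/
noncomputable def canCx (P : DRing.Cx A) :
    (bc ρ).obj ((DRing.restrictCx φ).obj P) ⟶ (DRing.restrictCx φ').obj ((bc α).obj P) where
  f i := ((ModuleCat.extendRestrictScalarsAdj.{u, u, u} ρ).homEquiv _ _).symm ((toResBC h P).f i)
  comm' i j _ := by
    refine ((ModuleCat.extendRestrictScalarsAdj.{u, u, u} ρ).homEquiv_naturality_right_symm _ _).symm.trans
      (Eq.trans ?_ ((ModuleCat.extendRestrictScalarsAdj.{u, u, u} ρ).homEquiv_naturality_left_symm _ _))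
    exact congrArg _ ((toResBC h P).comm i j)

theorem cxUnit_canCx (P : DRing.Cx A) :
    cxUnit ρ ((DRing.restrictCx φ).obj P) ≫ (DRing.restrictCx ρ).map (canCx h P) = toResBC h P :=
  HomologicalComplex.hom_ext _ _ fun i =>
    ((ModuleCat.extendRestrictScalarsAdj.{u, u, u} ρ).homEquiv_unit (f := (canCx h P).f i)).symm.trans
      (Equiv.apply_symm_apply _ _)

theorem cxUnit_natural {P Q : DRing.Cx R} (f : P ⟶ Q) (ρ : R →+* R') :
    cxUnit ρ P ≫ (DRing.restrictCx ρ).map ((bc ρ).map f) = f ≫ cxUnit ρ Q :=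
  HomologicalComplex.hom_ext _ _ fun i =>
    ((ModuleCat.extendRestrictScalarsAdj.{u, u, u} ρ).unit.naturality (f.f i)).symm

/-- The cocartesian hypothesis, for ring maps. -/
def IsPushoutHom (φ : R →+* A) (ρ : R →+* R') (α : A →+* A') (φ' : R' →+* A') (h : α.comp φ = φ'.comp ρ) : Prop :=
  letI := φ.toAlgebra
  letI := ρ.toAlgebra
  letI := α.toAlgebra
  letI := φ'.toAlgebra
  letI := (α.comp φ).toAlgebra
  haveI : IsScalarTower R A A' := IsScalarTower.of_algebraMap_eq' rfl
  haveI : IsScalarTower R R' A' := IsScalarTower.of_algebraMap_eq' h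
  Algebra.IsPushout R R' A A'

theorem isIso_canCx (hpo : IsPushoutHom φ ρ α φ' h) (P : DRing.Cx A) : IsIso (canCx h P) := by
  suffices ∀ i, IsIso ((canCx h P).f i) from HomologicalComplex.Hom.isIso_of_components _
  intro i
  rw [ConcreteCategory.isIso_iff_bijective]
  letI := φ.toAlgebra
  letI := ρ.toAlgebra
  letI := α.toAlgebra
  letI := φ'.toAlgebra
  letI := (α.comp φ).toAlgebra
  haveI : IsScalarTower R A A' := IsScalarTower.of_algebraMap_eq' rfl
  haveI : IsScalarTower R R' A' := IsScalarTower.of_algebraMap_eq' h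
  haveI : Algebra.IsPushout R R' A A' := hpo
  letI : Module R (P.X i) := Module.compHom (P.X i) φ
  haveI : IsScalarTower R A (P.X i) := IsScalarTower.of_algebraMap_smul fun _ _ => rfl
  let e := (Algebra.IsPushout.cancelBaseChangeAux R R' A A' (P.X i)).symm
  have key : ∀ z : R' ⊗[R] (P.X i), (canCx h P).f i z = e z := by
    intro z
    induction z using TensorProduct.induction_on with
    | zero => exact (map_zero _).trans (map_zero e).symm
    | add x y hx hy => exact (map_add _ _ _).trans ((congrArg₂ (· + ·) hx hy).trans (map_add e x y).symm)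
    | tmul r m =>
      rw [Algebra.IsPushout.cancelBaseChangeAux_symm_tmul]
      show (φ' r : A') • ((1 : A') ⊗ₜ[A] m) = _
      rw [TensorProduct.smul_tmul', smul_eq_mul, mul_one]
      rfl
  have hb : Function.Bijective fun z : R' ⊗[R] (P.X i) => (canCx h P).f i z := by
    rw [show (fun z : R' ⊗[R] (P.X i) => (canCx h P).f i z) = e from funext key]
    exact e.bijective
  exact hb

/-- The base change map of a tor independent cocartesian square is an isomorphism. -/
theorem isIso_cmp [DRing.HasLBaseChange ρ] [DRing.HasLBaseChange α]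
    (hT : letI := φ.toAlgebra; letI := ρ.toAlgebra; ∀ p : ℕ, 1 ≤ p → Subsingleton (DRing.Tor R p A R'))
    (hpo : IsPushoutHom φ ρ α φ' h)
    (adjρ : DRing.LBaseChange ρ ⊣ DRing.restrictD ρ) (adjα : DRing.LBaseChange α ⊣ DRing.restrictD α)
    (K : Dual.D A) : IsIso (TrivBC.cmp adjρ adjα h K) := by
  obtain ⟨P, hP, -, ⟨eK⟩⟩ := KF.exists_kflat_rep K
  have hnat : TrivBC.cmp adjρ adjα h (DRing.toD P) ≫
      (DRing.restrictD φ').map ((DRing.LBaseChange α).map eK.hom) =
      (DRing.LBaseChange ρ).map ((DRing.restrictD φ).map eK.hom) ≫ TrivBC.cmp adjρ adjα h K := by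
    unfold TrivBC.cmp
    rw [← Adjunction.homEquiv_naturality_right_symm, ← Adjunction.homEquiv_naturality_left_symm]
    refine congrArg _ ?_
    rw [Category.assoc, show (TrivBC.resComm h).hom.app _ ≫ (DRing.restrictD ρ).map
        ((DRing.restrictD φ').map ((DRing.LBaseChange α).map eK.hom)) =
      (DRing.restrictD φ).map ((DRing.restrictD α).map ((DRing.LBaseChange α).map eK.hom)) ≫
        (TrivBC.resComm h).hom.app _ from ((TrivBC.resComm h).hom.naturality _).symm,
      ← Functor.map_comp_assoc, ← Functor.map_comp_assoc]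
    refine congrArg (fun t => (DRing.restrictD φ).map t ≫ _) ?_
    exact (adjα.unit.naturality eK.hom).symm
  suffices IsIso (TrivBC.cmp adjρ adjα h (DRing.toD P)) by
    have : IsIso ((DRing.LBaseChange ρ).map ((DRing.restrictD φ).map eK.hom) ≫ TrivBC.cmp adjρ adjα h K) := by
      rw [← hnat]
      exact IsIso.comp_isIso' this inferInstance
    exact IsIso.of_isIso_comp_left ((DRing.LBaseChange ρ).map ((DRing.restrictD φ).map eK.hom)) _
  obtain ⟨Q, q, hQ, -, hq, -⟩ := KF.exists_kflat_resolution ((DRing.restrictCx φ).obj P)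
  haveI := hq
  haveI := isIso_transpose_cxUnit ρ adjρ hQ
  haveI := isIso_transpose_cxUnit α adjα hP
  haveI := isIso_canCx h hpo P
  haveI := quasiIso_bc_map_of_torIndep φ ρ hT hP hQ q
  let νφ := (ModuleCat.restrictScalars.{u} φ).mapDerivedCategoryFactors
  let νρ := (ModuleCat.restrictScalars.{u} ρ).mapDerivedCategoryFactors
  let να := (ModuleCat.restrictScalars.{u} α).mapDerivedCategoryFactors
  let νφ' := (ModuleCat.restrictScalars.{u} φ').mapDerivedCategoryFactors
  let u : DRing.toD Q ⟶ (DRing.restrictD φ).obj (DRing.toD P) := DerivedCategory.Q.map q ≫ νφ.inv.app P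
  let Tρ := (adjρ.homEquiv (DRing.toD Q) (DRing.toD ((bc ρ).obj Q))).symm
    (DerivedCategory.Q.map (cxUnit ρ Q) ≫ νρ.inv.app ((bc ρ).obj Q))
  let Tα := (adjα.homEquiv (DRing.toD P) (DRing.toD ((bc α).obj P))).symm
    (DerivedCategory.Q.map (cxUnit α P) ≫ να.inv.app ((bc α).obj P))
  let g := (bc ρ).map q ≫ canCx h P
  let post : (DRing.restrictD φ').obj ((DRing.LBaseChange α).obj (DRing.toD P)) ⟶
      DRing.toD ((DRing.restrictCx φ').obj ((bc α).obj P)) :=
    (DRing.restrictD φ').map Tα ≫ νφ'.hom.app ((bc α).obj P)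
  have hTα : adjα.unit.app (DRing.toD P) ≫ (DRing.restrictD α).map Tα =
      DerivedCategory.Q.map (cxUnit α P) ≫ να.inv.app ((bc α).obj P) :=
    (adjα.homEquiv_unit (f := Tα)).symm.trans (Equiv.apply_symm_apply _ _)
  have hTρ : adjρ.unit.app (DRing.toD Q) ≫ (DRing.restrictD ρ).map Tρ =
      DerivedCategory.Q.map (cxUnit ρ Q) ≫ νρ.inv.app ((bc ρ).obj Q) :=
    (adjρ.homEquiv_unit (f := Tρ)).symm.trans (Equiv.apply_symm_apply _ _)
  have hg : cxUnit ρ Q ≫ (DRing.restrictCx ρ).map g = q ≫ toResBC h P := by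
    rw [Functor.map_comp, ← Category.assoc, cxUnit_natural, Category.assoc, cxUnit_canCx]
  have main : (DRing.LBaseChange ρ).map u ≫ TrivBC.cmp adjρ adjα h (DRing.toD P) ≫ post =
      Tρ ≫ DerivedCategory.Q.map g := by
    apply (adjρ.homEquiv _ _).injective
    rw [Adjunction.homEquiv_naturality_left, Adjunction.homEquiv_naturality_right, TrivBC.cmp,
      Equiv.apply_symm_apply, Adjunction.homEquiv_unit]
    simp only [post, Functor.map_comp, Category.assoc]
    rw [reassoc_of% hTρ]
    have nρ : νρ.inv.app ((bc ρ).obj Q) ≫ (DRing.restrictD ρ).map (DerivedCategory.Q.map g) =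
        DerivedCategory.Q.map ((DRing.restrictCx ρ).map g) ≫ νρ.inv.app _ := (νρ.inv.naturality g).symm
    refine Eq.trans ?_ ((congrArg (DerivedCategory.Q.map (cxUnit ρ Q) ≫ ·) nρ.symm))
    refine Eq.trans ?_ (DerivedCategory.Q.map_comp_assoc _ _ _)
    rw [hg]
    have nc : (TrivBC.resComm h).hom.app ((DRing.LBaseChange α).obj (DRing.toD P)) ≫
        (DRing.restrictD ρ).map ((DRing.restrictD φ').map Tα) =
        (DRing.restrictD φ).map ((DRing.restrictD α).map Tα) ≫ (TrivBC.resComm h).hom.app _ :=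
      ((TrivBC.resComm h).hom.naturality Tα).symm
    rw [reassoc_of% nc, ← Functor.map_comp_assoc, hTα, resComm_hom_app h ((bc α).obj P), Functor.map_comp]
    simp only [Category.assoc]
    have c1 : (DRing.restrictD φ).map (να.inv.app ((bc α).obj P)) ≫
        (DRing.restrictD φ).map (να.hom.app ((bc α).obj P)) = 𝟙 _ := by
      rw [← Functor.map_comp, Iso.inv_hom_id_app, CategoryTheory.Functor.map_id]
    have c2 : (DRing.restrictD ρ).map (νφ'.inv.app ((bc α).obj P)) ≫
        (DRing.restrictD ρ).map (νφ'.hom.app ((bc α).obj P)) = 𝟙 _ := by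
      rw [← Functor.map_comp, Iso.inv_hom_id_app, CategoryTheory.Functor.map_id]
    have c3 : νφ.inv.app P ≫ (DRing.restrictD φ).map (DerivedCategory.Q.map (cxUnit α P)) ≫
        νφ.hom.app ((DRing.restrictCx α).obj ((bc α).obj P)) =
        DerivedCategory.Q.map ((DRing.restrictCx φ).map (cxUnit α P)) := by
      refine (congrArg (νφ.inv.app P ≫ ·) (νφ.hom.naturality (cxUnit α P))).trans ?_
      exact Iso.inv_hom_id_app_assoc νφ P _
    simp only [u, toResBC, Functor.map_comp, Category.assoc]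
    exact final_aux _ _ _ _ _ _ _ _ _ _ _ c1 c2 c3
  haveI : IsIso u := IsIso.comp_isIso' inferInstance (Iso.isIso_inv (νφ.app P))
  haveI : IsIso Tρ := by assumption
  haveI : IsIso Tα := by assumption
  haveI : IsIso post := IsIso.comp_isIso' inferInstance (Iso.isIso_hom (νφ'.app _))
  haveI : IsIso (DerivedCategory.Q.map g) := by
    rw [Functor.map_comp]
    exact IsIso.comp_isIso' inferInstance inferInstance
  haveI : IsIso ((DRing.LBaseChange ρ).map u ≫ TrivBC.cmp adjρ adjα h (DRing.toD P) ≫ post) := by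
    rw [main]
    exact IsIso.comp_isIso' inferInstance inferInstance
  haveI : IsIso (TrivBC.cmp adjρ adjα h (DRing.toD P) ≫ post) :=
    IsIso.of_isIso_comp_left ((DRing.LBaseChange ρ).map u) _
  exact IsIso.of_isIso_comp_right _ post

end Square

end GrothLib.DR
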