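import Groth.Agent.Lib.DCxRing.Stupid
import Groth.Agent.Lib.DCxRing.Amplitude
import Mathlib.Algebra.Category.ModuleCat.Injective
import Mathlib.Algebra.Homology.HomotopyCategory.KInjective
import Mathlib.Algebra.Homology.DerivedCategory.KInjective

/-!
# Finite injective dimension of complexes
-/

set_option autoImplicit false
universe u

open CategoryTheory CategoryTheory.Limits HomologicalComplex CochainComplex Pretriangulated

attribute [local instance] HasDerivedCategory.standard

namespace GrothLib.DR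

variable {A : Type u} [CommRing A]

/-- Maps in `D(A)` into a K-injective complex come from maps of complexes. -/
theorem exists_lift_inj {P L : DRing.Cx A} [L.IsKInjective] (g : DRing.toD P ⟶ DRing.toD L) :
    ∃ f : P ⟶ L, DerivedCategory.Q.map f = g := by
  let eA := DerivedCategory.quotientCompQhIso (ModuleCat.{u} A)
  obtain ⟨f, hf⟩ := (CochainComplex.IsKInjective.Qh_map_bijective
    ((HomotopyCategory.quotient _ _).obj P) L).2 ((eA.app P).hom ≫ g ≫ (eA.app L).inv)
  obtain ⟨f, rfl⟩ := (HomotopyCategory.quotient _ _).map_surjective f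
  refine ⟨f, ?_⟩
  have h := eA.hom.naturality f
  simp only [Functor.comp_map] at h
  rw [← cancel_epi (eA.hom.app P), ← h, hf]
  simp

lemma termwiseInjective_cone {P Q : DRing.Cx A} (f : P ⟶ Q) (hP : DRing.TermwiseInjective P)
    (hQ : DRing.TermwiseInjective Q) : DRing.TermwiseInjective (mappingCone f) := fun i => by
  haveI : CategoryTheory.Injective (P.X (i + 1)) :=
    (Module.injective_iff_injective_object (R := A) (P.X (i + 1))).1 (hP (i + 1))
  haveI : CategoryTheory.Injective (Q.X i) := (Module.injective_iff_injective_object (R := A) (Q.X i)).1 (hQ i)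
  refine (Module.injective_iff_injective_object (R := A) ((mappingCone f).X i)).2 ?_
  exact Injective.of_iso (homotopyCofiber.XIsoBiprod f i (i + 1) (by simp)).symm inferInstance

lemma hasFiniteInjDim_of_iso {K L : Dual.D A} (e : K ≅ L) (h : DRing.HasFiniteInjDim A K) :
    DRing.HasFiniteInjDim A L :=
  let ⟨a, b, E, hv, hE, ⟨e'⟩⟩ := h
  ⟨a, b, E, hv, hE, ⟨e' ≪≫ e⟩⟩

lemma hasFiniteInjDim_shift {K : Dual.D A} (h : DRing.HasFiniteInjDim A K) (n : ℤ) :
    DRing.HasFiniteInjDim A (K⟦n⟧) := by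
  obtain ⟨a, b, E, hv, hE, ⟨e⟩⟩ := h
  exact ⟨a - n, b - n, E⟦n⟧, fun i hi => hv (i + n) (by omega), fun i => hE (i + n),
    ⟨(DerivedCategory.Q.commShiftIso n).app E ≪≫ (CategoryTheory.shiftFunctor (Dual.D A) n).mapIso e⟩⟩

lemma hasFiniteInjDim_of_isZero {K : Dual.D A} (hK : IsZero K) : DRing.HasFiniteInjDim A K := by
  refine ⟨0, 0, (HomologicalComplex.single (ModuleCat.{u} A) (ComplexShape.up ℤ) 0).obj
      (ModuleCat.of A PUnit), fun i _ => ?_, fun i => ?_,
    ⟨(Functor.map_isZero _ (Functor.map_isZero _ (ModuleCat.isZero_of_subsingleton _))).iso hK⟩⟩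
  all_goals
    have hz : IsZero (((HomologicalComplex.single (ModuleCat.{u} A) (ComplexShape.up ℤ) 0).obj
        (ModuleCat.of A PUnit)).X i) := by
      by_cases h : i = 0
      · subst h
        exact (ModuleCat.isZero_of_subsingleton _).of_iso (singleObjXSelf _ _ _)
      · exact isZero_single_obj_X _ _ _ _ h
  · exact hz
  · exact (Module.injective_iff_injective_object (R := A) _).2 hz.injective

/-- Extensions. -/
theorem hasFiniteInjDim_obj₂ (T : Triangle (Dual.D A)) (hT : T ∈ distTriang _)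
    (h₁ : DRing.HasFiniteInjDim A T.obj₁) (h₃ : DRing.HasFiniteInjDim A T.obj₃) :
    DRing.HasFiniteInjDim A T.obj₂ := by
  obtain ⟨a, b, P, hP, hPi, ⟨eP⟩⟩ := hasFiniteInjDim_shift h₃ (-1)
  obtain ⟨c, d, Q, hQ, hQi, ⟨eQ⟩⟩ := h₁
  haveI : Q.IsStrictlyGE c := (CochainComplex.isStrictlyGE_iff Q c).2 fun i hi => hQ i (Or.inl hi)
  haveI : ∀ n, CategoryTheory.Injective (Q.X n) := fun n =>
    (Module.injective_iff_injective_object (R := A) (Q.X n)).1 (hQi n)
  haveI : Q.IsKInjective := CochainComplex.isKInjective_of_injective Q c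
  obtain ⟨f, hf⟩ := exists_lift_inj (eP.hom ≫ T.invRotate.mor₁ ≫ eQ.inv)
  let e := isoTriangleOfIso₁₂ _ T.invRotate (DerivedCategory.mappingCone_triangle_distinguished f)
    (inv_rot_of_distTriang T hT) eP eQ (by
      change DerivedCategory.Q.map f ≫ eQ.hom = eP.hom ≫ T.invRotate.mor₁
      rw [hf]
      exact (Category.assoc _ _ _).trans (congrArg (eP.hom ≫ ·) ((Category.assoc _ _ _).trans
        ((congrArg (T.invRotate.mor₁ ≫ ·) eQ.inv_hom_id).trans (Category.comp_id _)))))
  refine ⟨min (a - 1) c, max (b - 1) d, mappingCone f, fun i hi => ?_, termwiseInjective_cone f hPi hQi,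
    ⟨Triangle.π₃.mapIso e⟩⟩
  refine isZero_cone_X f (hP (i + 1) ?_) (hQ i ?_)
  · omega
  · omega

theorem hasFiniteInjDim_of_homology (K : Dual.D A) (a b : ℤ)
    (hv : ∀ i, i < a ∨ b < i → Subsingleton (Dual.HD A K i))
    (h : ∀ i, DRing.HasFiniteInjDim A (Dual.inD A (Dual.HD A K i))) : DRing.HasFiniteInjDim A K :=
  prop_homology (DRing.HasFiniteInjDim A) (fun e h => hasFiniteInjDim_of_iso e h)
    (fun _ hX => hasFiniteInjDim_of_isZero hX) (fun T hT h₁ h₃ => hasFiniteInjDim_obj₂ T hT h₁ h₃)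
    K a b hv fun i _ _ => hasFiniteInjDim_shift (h i) (-i)

theorem hasFiniteInjDim_of_terms (K : DRing.Cx A) (a b : ℤ) (hv : DRing.VanishesOutside K a b)
    (h : ∀ i, DRing.HasFiniteInjDim A (Dual.inD A (K.X i))) : DRing.HasFiniteInjDim A (DRing.toD K) :=
  prop_bounded (DRing.HasFiniteInjDim A) (fun e h => hasFiniteInjDim_of_iso e h)
    (fun _ hX => hasFiniteInjDim_of_isZero hX) (fun T hT h₁ h₃ => hasFiniteInjDim_obj₂ T hT h₁ h₃)
    K a b hv fun i _ _ => hasFiniteInjDim_shift (h i) (-i)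

end GrothLib.DR
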