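import Groth.Agent.Lib.DCxRing.ToSingle
import Groth.Agent.Lib.DerCat.Truncation
import Groth.Agent.Lib.DCxRing.InjAmp
import Groth.Agent.Lib.Serre.Regular
import Groth.Agent.Lib.DCxRing.Regular

/-!
# Splitting truncations, and morphisms over rings of finite global dimension
-/

set_option autoImplicit false
universe u

open CategoryTheory CategoryTheory.Limits HomologicalComplex CochainComplex Pretriangulated DerivedCategory

attribute [local instance] HasDerivedCategory.standard

namespace GrothLib.DR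

variable {A : Type u} [CommRing A]

/-- A module in degree `n` is concentrated in degree `n`. -/
lemma isGE_shift_inD (N : Type u) [AddCommGroup N] [Module A N] (n : ℤ) :
    TStructure.t.IsGE (((Dual.inD A N)⟦-n⟧ : Dual.D A)) n :=
  haveI : TStructure.t.IsGE ((DerivedCategory.singleFunctor (ModuleCat.{u} A) n).obj (ModuleCat.of A N)) n :=
    inferInstanceAs (((DerivedCategory.singleFunctor (ModuleCat.{u} A) n).obj (ModuleCat.of A N)).IsGE n)
  TStructure.t.isGE_of_iso (singleIsoShift n (ModuleCat.of A N)) n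

/-- A chain map to an injective module in a degree where the complex is exact is null in the derived category. -/
theorem subsingleton_hom_single_of_injective (X : Dual.D A) (n : ℤ) (hX : Subsingleton (Dual.HD A X n))
    (J : Type u) [AddCommGroup J] [Module A J] [Module.Injective A J] :
    Subsingleton (X ⟶ (Dual.inD A J)⟦-n⟧) := by
  let S : DRing.Cx A := (HomologicalComplex.single (ModuleCat.{u} A) (ComplexShape.up ℤ) n).obj (ModuleCat.of A J)
  let η := singleObjXSelf (ComplexShape.up ℤ) n (ModuleCat.of A J)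
  haveI : Injective (ModuleCat.of A J) := (Module.injective_iff_injective_object (R := A) J).1 inferInstance
  haveI : ∀ i, Injective (S.X i) := fun i => by
    by_cases hi : i = n
    · subst hi
      exact Injective.of_iso η.symm inferInstance
    · exact (isZero_single_obj_X _ _ _ _ hi).injective
  haveI : S.IsStrictlyGE n := (CochainComplex.isStrictlyGE_iff S n).2 fun i hi =>
    isZero_single_obj_X _ _ _ _ (by omega)
  haveI : S.IsKInjective := CochainComplex.isKInjective_of_injective S n
  obtain ⟨C, ⟨e⟩⟩ : ∃ C : DRing.Cx A, Nonempty (DRing.toD C ≅ X) :=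
    ⟨_, ⟨DerivedCategory.Q.objObjPreimageIso X⟩⟩
  suffices h0 : ∀ ξ : DRing.toD C ⟶ (Dual.inD A J)⟦-n⟧, ξ = 0 from
    (Iso.homFromEquiv e).symm.subsingleton_congr.2 ⟨fun a b => (h0 a).trans (h0 b).symm⟩
  intro ξ
  obtain ⟨φ, hφ⟩ := exists_lift_inj (ξ ≫ (toDSingleIso n (ModuleCat.of A J)).inv)
  have hex : C.ExactAt n := (exactAt_iff C n).2 (subsingleton_HD_of_iso e.symm n hX)
  rw [exactAt_iff' C (n - 1) n (n + 1) (by simp) (by simp)] at hex
  have hz : C.d (n - 1) n ≫ φ.f n ≫ η.hom = 0 := by
    rw [← Category.assoc, ← φ.comm, show S.d (n - 1) n = 0 from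
      (isZero_single_obj_X _ _ _ _ (by omega)).eq_of_src _ _, comp_zero, zero_comp]
  let k := hex.descToInjective (φ.f n ≫ η.hom) hz
  have hk : C.d n (n + 1) ≫ k = φ.f n ≫ η.hom := hex.comp_descToInjective _ _
  let hom : ∀ i j, (ComplexShape.up ℤ).Rel j i → (C.X i ⟶ S.X j) := fun i j hji =>
    if hj : j = n then
      eqToHom (congrArg C.X (show i = n + 1 by simp only [ComplexShape.up_Rel] at hji; omega)) ≫
        k ≫ η.inv ≫ eqToHom (congrArg S.X hj.symm)
    else 0
  have hnull : φ = Homotopy.nullHomotopicMap' hom := by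
    refine to_single_hom_ext ?_
    rw [Homotopy.nullHomotopicMap'_f (show (ComplexShape.up ℤ).Rel (n - 1) n from by simp)
      (show (ComplexShape.up ℤ).Rel n (n + 1) from rfl),
      show S.d (n - 1) n = 0 from (isZero_single_obj_X _ _ _ _ (by omega)).eq_of_src _ _,
      comp_zero, add_zero]
    simp only [hom, dif_pos, eqToHom_refl, Category.id_comp, Category.comp_id]
    rw [reassoc_of% hk, Iso.hom_inv_id, Category.comp_id]
  have h0 : DerivedCategory.Q.map φ = 0 := by
    rw [hnull, DerivedCategory.Q_map_eq_of_homotopy _ (Homotopy.nullHomotopy' hom), Functor.map_zero]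
  rw [h0] at hφ
  exact (cancel_mono (toDSingleIso n (ModuleCat.of A J)).inv).1 (hφ.symm.trans zero_comp.symm)

/-- Shifting the source of a morphism to a module. -/
lemma subsingleton_hom_shift_single (X : Dual.D A) (k n : ℤ) (N : Type u) [AddCommGroup N] [Module A N]
    (h : Subsingleton (X ⟶ (Dual.inD A N)⟦-(n + k)⟧)) :
    Subsingleton (X⟦k⟧ ⟶ (Dual.inD A N)⟦-n⟧) :=
  (((shiftEquiv (Dual.D A) k).toAdjunction.homEquiv X ((Dual.inD A N)⟦-n⟧)).trans
    (Iso.homToEquiv ((CategoryTheory.shiftFunctorAdd' (Dual.D A) (-n) (-k) (-(n + k)) (by omega)).app (Dual.inD A N)).symm)).subsingleton_congr.2 h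

/-- The split form of the truncation triangle when cohomology vanishes in `[a, c)`. -/
theorem exists_split (K : Dual.D A) (a c : ℤ) (hac : a ≤ c)
    (hgap : ∀ i, a ≤ i → i < c → Subsingleton (Dual.HD A K i))
    (hδ : Subsingleton (((TStructure.t : Triangulated.TStructure (Dual.D A)).truncGE c).obj K ⟶
      (((TStructure.t : Triangulated.TStructure (Dual.D A)).truncLT c).obj K)⟦(1 : ℤ)⟧))
    [HasBinaryBiproduct (((TStructure.t : Triangulated.TStructure (Dual.D A)).truncLT a).obj K)
      (((TStructure.t : Triangulated.TStructure (Dual.D A)).truncGE c).obj K)] :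
    ∃ e : K ≅ ((TStructure.t : Triangulated.TStructure (Dual.D A)).truncLT a).obj K ⊞
        ((TStructure.t : Triangulated.TStructure (Dual.D A)).truncGE c).obj K,
      ((TStructure.t : Triangulated.TStructure (Dual.D A)).truncLTι a).app K ≫ e.hom = biprod.inl ∧
        e.hom ≫ biprod.snd = ((TStructure.t : Triangulated.TStructure (Dual.D A)).truncGEπ c).app K := by
  let t : Triangulated.TStructure (Dual.D A) := TStructure.t
  let j := (t.natTransTruncLTOfLE a c hac).app K
  have hj : j ≫ (t.truncLTι c).app K = (t.truncLTι a).app K := t.natTransTruncLTOfLE_ι_app a c hac K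
  haveI hji : IsIso j := (DerivedCategory.isIso_iff _ j).2 fun i => by
    let H := DerivedCategory.homologyFunctor (ModuleCat.{u} A) i
    by_cases hi : i < a
    · haveI := DerTrunc.isIso_homology_truncLTι K a i hi
      haveI := DerTrunc.isIso_homology_truncLTι K c i (by omega)
      have h2 : H.map j ≫ H.map ((t.truncLTι c).app K) = H.map ((t.truncLTι a).app K) := by
        rw [← Functor.map_comp, hj]
      exact IsIso.of_isIso_fac_right h2
    · have h1 := DerTrunc.isZero_homology_truncLT K a i (by omega)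
      refine h1.isIso ?_ _
      by_cases hic : i < c
      · haveI := DerTrunc.isIso_homology_truncLTι K c i hic
        exact ((subsingleton_iff_isZero _).1 (hgap i (by omega) hic)).of_iso (asIso (H.map ((t.truncLTι c).app K)))
      · exact DerTrunc.isZero_homology_truncLT K c i (by omega)
  let T := Triangle.mk ((t.truncLTι a).app K) ((t.truncGEπ c).app K) ((t.truncGEδLT c).app K ≫ (inv j)⟦(1 : ℤ)⟧')
  have hT : T ∈ distTriang _ := by
    refine isomorphic_distinguished _ (t.triangleLTGE_distinguished c K) _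
      (Triangle.isoMk _ _ (@asIso _ _ _ _ j hji) (Iso.refl _) (Iso.refl _) ?_ ?_ ?_)
    · exact (Category.comp_id _).trans hj.symm
    · exact (Category.comp_id _).trans (Category.id_comp _).symm
    · change ((t.truncGEδLT c).app K ≫ (inv j)⟦(1 : ℤ)⟧') ≫ j⟦(1 : ℤ)⟧' = 𝟙 _ ≫ (t.truncGEδLT c).app K
      rw [Category.assoc, ← Functor.map_comp, IsIso.inv_hom_id, CategoryTheory.Functor.map_id, Category.id_comp]
      exact Category.comp_id _
  haveI : HasBinaryBiproduct T.obj₁ T.obj₃ := ‹_›
  have hzero : T.mor₃ = 0 := by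
    change (t.truncGEδLT c).app K ≫ (inv j)⟦(1 : ℤ)⟧' = 0
    rw [show (t.truncGEδLT c).app K = 0 from @Subsingleton.elim _ hδ _ _, zero_comp]
  obtain ⟨e, he₁, he₂⟩ := exists_iso_binaryBiproduct_of_distTriang T hT hzero
  exact ⟨e, he₁, he₂.symm⟩

/-- The truncation above a degree where morphisms to modules are detected by monomorphisms. -/
theorem hasProjAmp_truncGE (a b : ℤ) (K : Dual.D A) (hb : ∀ i, b < i → Subsingleton (Dual.HD A K i))
    (h : ∀ (M M' : Type u) [AddCommGroup M] [Module A M] [AddCommGroup M'] [Module A M'] (g : M →ₗ[A] M'),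
      Function.Injective g → Function.Injective (fun x : K ⟶ (CategoryTheory.shiftFunctor (Dual.D A) (-a)).obj (Dual.inD A M) =>
        x ≫ (CategoryTheory.shiftFunctor (Dual.D A) (-a)).map
          ((DerivedCategory.singleFunctor (ModuleCat.{u} A) 0).map (ModuleCat.ofHom g)))) :
    HasProjAmp (((TStructure.t : Triangulated.TStructure (Dual.D A)).truncGE (a + 1)).obj K) (a + 1) (max b (a + 1)) := by
  let t : Triangulated.TStructure (Dual.D A) := TStructure.t
  refine hasProjAmp_of_vanishing _ _ _ (fun n hn => ?_) fun N _ _ => ?_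
  · rcases hn with hn | hn
    · exact (subsingleton_iff_isZero _).2 (DerTrunc.isZero_homology_truncGE K (a + 1) n (by omega))
    · haveI := DerTrunc.isIso_homology_truncGEπ K (a + 1) n (by omega)
      exact (asIso ((DerivedCategory.homologyFunctor (ModuleCat.{u} A) n).map
        ((t.truncGEπ (a + 1)).app K))).toLinearEquiv.symm.toEquiv.subsingleton_congr.2 (hb n (by omega))
  · rw [show a + 1 - 1 = a by omega]
    obtain ⟨p⟩ := EnoughInjectives.presentation (ModuleCat.of A N)
    have hJ : Injective p.J := p.injective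
    haveI : Module.Injective A p.J := (Module.injective_iff_injective_object (R := A) p.J).2 hJ
    have hH : Subsingleton (Dual.HD A ((t.truncGE (a + 1)).obj K) a) :=
      (subsingleton_iff_isZero _).2 (DerTrunc.isZero_homology_truncGE K (a + 1) a (by omega))
    haveI := subsingleton_hom_single_of_injective _ a hH p.J
    suffices h0 : ∀ ξ : (t.truncGE (a + 1)).obj K ⟶ (Dual.inD A N)⟦-a⟧, ξ = 0 from
      ⟨fun x y => (h0 x).trans (h0 y).symm⟩
    intro ξ
    have hπ : (t.truncGEπ (a + 1)).app K ≫ ξ = 0 := by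
      refine h N p.J p.f.hom ((ModuleCat.mono_iff_injective p.f).1 inferInstance) ?_
      change ((t.truncGEπ (a + 1)).app K ≫ ξ) ≫ _ = 0 ≫ _
      rw [Category.assoc, zero_comp]
      have : ξ ≫ (CategoryTheory.shiftFunctor (Dual.D A) (-a)).map
          ((DerivedCategory.singleFunctor (ModuleCat.{u} A) 0).map (ModuleCat.ofHom p.f.hom)) = 0 :=
        Subsingleton.elim (α := (t.truncGE (a + 1)).obj K ⟶ (Dual.inD A p.J)⟦-a⟧) _ _
      rw [this, comp_zero]
    obtain ⟨y, hy⟩ := Triangle.yoneda_exact₃ _ (t.triangleLTGE_distinguished (a + 1) K) ξ hπ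
    haveI : TStructure.t.IsLE ((t.truncLT (a + 1)).obj K) a := inferInstance
    have h1 : TStructure.t.IsLE (((t.truncLT (a + 1)).obj K)⟦(1 : ℤ)⟧) (a - 1) :=
      t.isLE_shift _ a 1 (a - 1) (by omega)
    rw [hy, show y = 0 from t.zero_of_isLE_of_isGE y (a - 1) a (by omega) h1 (isGE_shift_inD N a)]
    exact comp_zero

/-- Morphisms out of an object of projective amplitude `≥ a` into objects without cohomology from `a` on. -/
theorem subsingleton_hom_of_hasProjAmp' {X Y : Dual.D A} {a b : ℤ} (h : HasProjAmp X a b)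
    (hY : ∀ i, a ≤ i → Subsingleton (Dual.HD A Y i)) : Subsingleton (X ⟶ Y) := by
  obtain ⟨P, hv, hp, ⟨e⟩⟩ := h
  obtain ⟨Q, hQ, -, ⟨eQ⟩⟩ := exists_projective_rep Y (a - 1) fun i hi => hY i (by omega)
  haveI := isKProjective P b (fun i hi => hv i (Or.inr hi)) hp
  suffices h0 : ∀ f : X ⟶ Y, f = 0 from ⟨fun f g => (h0 f).trans (h0 g).symm⟩
  intro f
  obtain ⟨φ, hφ⟩ := exists_lift P (e.hom ≫ f ≫ eQ.inv)
  have h : φ = 0 := HomologicalComplex.hom_ext _ _ fun i => by
    by_cases hi : i < a
    · exact (hv i (Or.inl hi)).eq_of_src _ _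
    · exact (hQ i (by omega)).eq_of_tgt _ _
  rw [h, Functor.map_zero] at hφ
  simpa using congrArg (fun t => e.inv ≫ t ≫ eQ.hom) hφ.symm

lemma subsingleton_HD_truncLT_shift (K : Dual.D A) (c i : ℤ) (hi : c ≤ i + 1) :
    Subsingleton (Dual.HD A ((((TStructure.t : Triangulated.TStructure (Dual.D A)).truncLT c).obj K)⟦(1 : ℤ)⟧) i) :=
  ((((DerivedCategory.homologyFunctor (ModuleCat.{u} A) 0).shiftIso 1 i (1 + i) rfl).app
    _).toLinearEquiv).toEquiv.subsingleton_congr.2
      ((subsingleton_iff_isZero _).2 (DerTrunc.isZero_homology_truncLT K c (1 + i) (by omega)))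

/-- Morphisms to modules out of a module of projective dimension `≤ d`. -/
theorem subsingleton_hom_of_pdLE : ∀ (d : ℕ) (M : Type u) [AddCommGroup M] [Module A M],
    Serre.PdLE A M d → ∀ (n : ℤ), n < -(d : ℤ) → ∀ (N : Type u) [AddCommGroup N] [Module A N],
      Subsingleton (Dual.inD A M ⟶ (Dual.inD A N)⟦-n⟧) := by
  have base : ∀ (M : Type u) [AddCommGroup M] [Module A M], Module.Projective A M →
      ∀ (n : ℤ), n < 0 → ∀ (N : Type u) [AddCommGroup N] [Module A N],
        Subsingleton (Dual.inD A M ⟶ (Dual.inD A N)⟦-n⟧) := fun M _ _ hM n hn N _ _ => by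
    refine subsingleton_hom_of_hasProjAmp (a := 0) (b := 0)
      ⟨(HomologicalComplex.single (ModuleCat.{u} A) (ComplexShape.up ℤ) 0).obj (ModuleCat.of A M),
        fun i hi => isZero_single_obj_X _ _ _ _ (by omega), fun i => ?_,
        ⟨(((SingleFunctors.evaluation _ _ 0).mapIso
          (DerivedCategory.singleFunctorsPostcompQIso (ModuleCat.{u} A))).app (ModuleCat.of A M)).symm⟩⟩
      n (Or.inl hn) N
    by_cases h : i = 0
    · subst h
      exact Module.Projective.of_equiv (singleObjXSelf (ComplexShape.up ℤ) 0 (ModuleCat.of A M)).toLinearEquiv.symm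
    · haveI := ModuleCat.subsingleton_of_isZero (isZero_single_obj_X (ComplexShape.up ℤ) 0 (ModuleCat.of A M) i h)
      infer_instance
  intro d
  induction d with
  | zero => exact fun M _ _ hM n hn => base M (Serre.pdLE_zero_iff.1 hM) n (by simpa using hn)
  | succ d ih =>
    intro M _ _ hM n hn N _ _
    let π := Finsupp.linearCombination A (id : M → M)
    have hπ : Function.Surjective π := fun m => ⟨Finsupp.single m 1, by simp [π]⟩
    have hK := (Serre.pdLE_succ_iff π hπ d).1 hM
    let S : ShortComplex (ModuleCat.{u} A) := ShortComplex.mk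
      (X₁ := ModuleCat.of A ↥(LinearMap.ker π)) (X₂ := ModuleCat.of A (M →₀ A)) (X₃ := ModuleCat.of A M)
      (ModuleCat.ofHom (X := ↥(LinearMap.ker π)) (LinearMap.ker π).subtype)
      (ModuleCat.ofHom π) (ModuleCat.hom_ext (LinearMap.ext fun x => x.2))
    have hS : S.ShortExact := ShortComplex.ShortExact.mk'
      ((ShortComplex.moduleCat_exact_iff _).2 fun x hx => ⟨⟨x, hx⟩, rfl⟩)
      ((ModuleCat.mono_iff_injective _).2 Subtype.val_injective) ((ModuleCat.epi_iff_surjective _).2 hπ)
    have hT := hS.singleTriangle_distinguished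
    haveI : Subsingleton (hS.singleTriangle.obj₂ ⟶ (Dual.inD A N)⟦-n⟧) :=
      base (M →₀ A) inferInstance n (by omega) N
    haveI : Subsingleton (hS.singleTriangle.obj₁⟦(1 : ℤ)⟧ ⟶ (Dual.inD A N)⟦-n⟧) :=
      subsingleton_hom_shift_single (Dual.inD A (LinearMap.ker π)) 1 n N (ih _ hK (n + 1) (by push_cast at hn; omega) N)
    suffices h0 : ∀ ξ : hS.singleTriangle.obj₃ ⟶ (Dual.inD A N)⟦-n⟧, ξ = 0 from
      ⟨fun x y => (h0 x).trans (h0 y).symm⟩
    intro ξ
    obtain ⟨y, hy⟩ := Triangle.yoneda_exact₃ _ hT ξ (Subsingleton.elim _ _)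
    rw [hy, Subsingleton.elim y 0, comp_zero]

/-- Bounded objects over a ring of global dimension `≤ d` have projective amplitude. -/
theorem hasProjAmp_of_globalDimension (d : ℕ) (hgl : ∀ (M : Type u) [AddCommGroup M] [Module A M], Serre.PdLE A M d)
    (K : Dual.D A) (a b : ℤ) (hK : ∀ i, i < a ∨ b < i → Subsingleton (Dual.HD A K i)) :
    HasProjAmp K (a - d) b := by
  refine hasProjAmp_of_vanishing K _ _ (fun n hn => hK n (by omega)) fun N _ _ => ?_
  refine prop_homology (fun X => Subsingleton (X ⟶ (Dual.inD A N)⟦-(a - (d : ℤ) - 1)⟧)) (fun e h => ?_)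
    (fun X hX => ⟨fun x y => hX.eq_of_src x y⟩) (fun T hT h₁ h₃ => ?_) K a b hK fun i hi _ => ?_
  · exact (Iso.homFromEquiv e).subsingleton_congr.1 h
  · suffices h0 : ∀ ξ : T.obj₂ ⟶ (Dual.inD A N)⟦-(a - (d : ℤ) - 1)⟧, ξ = 0 from
      ⟨fun x y => (h0 x).trans (h0 y).symm⟩
    intro ξ
    obtain ⟨y, hy⟩ := Triangle.yoneda_exact₂ _ hT ξ (@Subsingleton.elim _ h₁ _ _)
    rw [hy, @Subsingleton.elim _ h₃ y 0, comp_zero]
  · exact subsingleton_hom_shift_single _ (-i) _ N
      (subsingleton_hom_of_pdLE d _ (hgl _) _ (by omega) N)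

/-- Regular rings of dimension `d` have global dimension at most `d`. -/
theorem pdLE_of_regular [IsNoetherianRing A]
    (hreg : ∀ p : PrimeSpectrum A, IsRegularLocalRing (Localization.AtPrime p.asIdeal)) (d : ℕ)
    (hd : ringKrullDim A = d) (M : Type u) [AddCommGroup M] [Module A M] : Serre.PdLE A M d := by
  have hfin : ∀ (M : Type u) [AddCommGroup M] [Module A M] [Module.Finite A M], Serre.PdLE A M d :=
    fun M _ _ _ => pdLE_of_forall_prime d M fun p => by
      haveI := hreg p
      have hle : ringKrullDim (Localization.AtPrime p.asIdeal) ≤ (d : WithBot ℕ∞) := by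
        rw [← hd, IsLocalization.AtPrime.ringKrullDim_eq_height p.asIdeal (Localization.AtPrime p.asIdeal)]
        exact Ideal.height_le_ringKrullDim_of_ne_top p.isPrime.ne_top
      obtain ⟨e, he⟩ : ∃ e : ℕ, ringKrullDim (Localization.AtPrime p.asIdeal) = e :=
        ⟨_, IsRegularLocalRing.spanFinrank_maximalIdeal.symm⟩
      rw [he] at hle
      exact Serre.pdLE_mono (by exact_mod_cast hle) (Serre.pdLE_of_isRegularLocalRing _ e he _)
  refine hasProjectiveDimensionLT_of_enoughInjectives _ _ fun Y => ?_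
  have := Serre.hasInjectiveDimensionLT_of_cyclic d Y fun I =>
    have := hfin (A ⧸ I)
    HasProjectiveDimensionLT.subsingleton (ModuleCat.of A (A ⧸ I)) (d + 1) (d + 1) le_rfl Y
  exact HasInjectiveDimensionLT.subsingleton Y (d + 1) (d + 1) le_rfl _

end GrothLib.DR
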