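import Groth.Agent.Lib.DCxKFlat.LBaseKFlat
import Groth.Agent.Lib.DCxRing.Descent
import Mathlib.LinearAlgebra.TensorProduct.Quotient

/-!
# Complexes whose reduction modulo a nilpotent ideal is pseudo-coherent or of finite tor amplitude
-/

set_option autoImplicit false
set_option maxHeartbeats 800000
universe u

open CategoryTheory CategoryTheory.Limits MonoidalCategory HomologicalComplex TensorProduct

attribute [local instance] HasDerivedCategory.standard

namespace GrothLib.DR

variable {A B : Type u} [CommRing A] [CommRing B]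

/-- Tensor products of K-flat representatives of one object are exact in the same degrees. -/
theorem exactAt_tensor_congr {P Q : DRing.Cx A} (hP : KF.IsKFlat P) (hQ : KF.IsKFlat Q)
    (e : DRing.toD P ≅ DRing.toD Q) (M : ModuleCat.{u} A) (i : ℤ) :
    (DRing.tensorCx P M).ExactAt i ↔ (DRing.tensorCx Q M).ExactAt i := by
  haveI := KF.hasLTensor M
  obtain ⟨eP⟩ := KF.lTensor_value M hP
  obtain ⟨eQ⟩ := KF.lTensor_value M hQ
  rw [exactAt_iff, exactAt_iff]
  let e' := eP.symm ≪≫ (DRing.LTensor A M).mapIso e ≪≫ eQ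
  exact ⟨subsingleton_HD_of_iso e' i, subsingleton_HD_of_iso e'.symm i⟩

/-- Exactness of `P ⊗ -` is closed under extensions of modules. -/
theorem exactAt_tensor_middle {P : DRing.Cx A} (hP : DRing.TermwiseFlat P) {S : ShortComplex (ModuleCat.{u} A)}
    (hS : S.ShortExact) (i : ℤ) (h₁ : (DRing.tensorCx P S.X₁).ExactAt i)
    (h₃ : (DRing.tensorCx P S.X₃).ExactAt i) : (DRing.tensorCx P S.X₂).ExactAt i := by
  let T : ShortComplex (DRing.Cx A) := ShortComplex.mk
    (({ f := fun j => P.X j ◁ S.f
        comm' := fun j k _ => (whisker_exchange (P.d j k) S.f).symm.symm }) :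
      DRing.tensorCx P S.X₁ ⟶ DRing.tensorCx P S.X₂)
    (({ f := fun j => P.X j ◁ S.g
        comm' := fun j k _ => (whisker_exchange (P.d j k) S.g).symm.symm }) :
      DRing.tensorCx P S.X₂ ⟶ DRing.tensorCx P S.X₃)
    (HomologicalComplex.hom_ext _ _ fun j => by
      show P.X j ◁ S.f ≫ P.X j ◁ S.g = 0
      rw [← MonoidalCategory.whiskerLeft_comp, S.zero, MonoidalPreadditive.whiskerLeft_zero])
  have hT : T.ShortExact := HomologicalComplex.shortExact_of_degreewise_shortExact _ fun j => by
    haveI := hP j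
    have hex := (ShortComplex.ShortExact.moduleCat_exact_iff_function_exact S).1 hS.exact
    have hinj := (ModuleCat.mono_iff_injective S.f).1 hS.mono_f
    have hsurj := (ModuleCat.epi_iff_surjective S.g).1 hS.epi_g
    exact { exact := (ShortComplex.ShortExact.moduleCat_exact_iff_function_exact _).2
              (Module.Flat.lTensor_exact (R := A) (P.X j) hex)
            mono_f := (ModuleCat.mono_iff_injective _).2
              (Module.Flat.lTensor_preserves_injective_linearMap (M := P.X j) S.f.hom hinj)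
            epi_g := (ModuleCat.epi_iff_surjective _).2 (LinearMap.lTensor_surjective (P.X j) hsurj) }
  rw [exactAt_iff_isZero_homology] at h₁ h₃ ⊢
  exact (hT.homology_exact₂ i).isZero_of_both_zeros (h₁.eq_of_src _ _) (h₃.eq_of_tgt _ _)

variable (φ : A →+* B)

/-- A module killed by the kernel of a surjection comes from the target. -/
theorem exists_restrict_iso (hφ : Function.Surjective φ) (N : ModuleCat.{u} A)
    (hN : RingHom.ker φ • (⊤ : Submodule A N) = ⊥) :
    ∃ M : ModuleCat.{u} B, Nonempty ((ModuleCat.restrictScalars φ).obj M ≅ N) := by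
  let Q := N ⧸ (RingHom.ker φ • (⊤ : Submodule A N))
  let e := RingHom.quotientKerEquivOfSurjective hφ
  letI : Module B Q := Module.compHom Q e.symm.toRingHom
  let f : Q ≃ₗ[A] N := Submodule.quotEquivOfEqBot _ hN
  refine ⟨ModuleCat.of B Q, ⟨LinearEquiv.toModuleIso
    ({ toFun := f
       invFun := f.symm
       map_add' := f.map_add
       left_inv := f.left_inv
       right_inv := f.right_inv
       map_smul' := fun a x => ?_ } :
      ((ModuleCat.restrictScalars φ).obj (ModuleCat.of B Q)) ≃ₗ[A] N)⟩⟩
  show f (e.symm (φ a) • (show Q from x)) = a • f x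
  have : e.symm (φ a) = Ideal.Quotient.mk _ a :=
    e.symm_apply_eq.2 (RingHom.quotientKerEquivOfSurjective_apply_mk hφ a).symm
  rw [this, ← f.map_smul]
  rfl

/-- Exactness after tensoring spreads from `B`-modules to all modules, for a nilpotent kernel. -/
theorem exactAt_tensor_of_nilpotent (hφ : Function.Surjective φ) (hnil : IsNilpotent (RingHom.ker φ))
    {P : DRing.Cx A} (hP : DRing.TermwiseFlat P) (i : ℤ)
    (h : ∀ M : ModuleCat.{u} B, (DRing.tensorCx ((bc φ).obj P) M).ExactAt i) (N : ModuleCat.{u} A) :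
    (DRing.tensorCx P N).ExactAt i := by
  have key : ∀ (k : ℕ) (N : ModuleCat.{u} A), RingHom.ker φ ^ k • (⊤ : Submodule A N) = ⊥ →
      (DRing.tensorCx P N).ExactAt i := by
    intro k
    induction k with
    | zero =>
      intro N hN
      rw [pow_zero, Ideal.one_eq_top, Submodule.top_smul] at hN
      haveI : Subsingleton N :=
        ⟨fun x y => ((Submodule.mem_bot A).1 (hN ▸ Submodule.mem_top (x := x))).trans
          ((Submodule.mem_bot A).1 (hN ▸ Submodule.mem_top (x := y))).symm⟩
      exact ShortComplex.exact_of_isZero_X₂ _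
        (((curriedTensor (ModuleCat.{u} A)).obj (P.X i)).map_isZero (ModuleCat.isZero_of_subsingleton N))
    | succ k ih =>
      intro N hN
      let W : Submodule A N := RingHom.ker φ • ⊤
      have hW : RingHom.ker φ ^ k • (⊤ : Submodule A W) = ⊥ := by
        apply Submodule.map_injective_of_injective (f := W.subtype) Subtype.val_injective
        rw [Submodule.map_smul'', Submodule.map_top, Submodule.range_subtype, Submodule.map_bot]
        show RingHom.ker φ ^ k • (RingHom.ker φ • (⊤ : Submodule A N)) = ⊥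
        rw [← Submodule.mul_smul, ← pow_succ]
        exact hN
      have hQ : RingHom.ker φ • (⊤ : Submodule A (N ⧸ W)) = ⊥ := by
        rw [← Submodule.range_mkQ W, ← Submodule.map_top, ← Submodule.map_smul'']
        exact Submodule.mkQ_map_self W
      obtain ⟨M, ⟨eM⟩⟩ := exists_restrict_iso φ hφ (ModuleCat.of A (N ⧸ W)) hQ
      have h3 : (DRing.tensorCx P (ModuleCat.of A (N ⧸ W))).ExactAt i :=
        ((KF.exactAt_tensor_restrict_iff φ P M i).2 (h M)).of_iso
          (HomologicalComplex.Hom.isoOfComponents (fun j => whiskerLeftIso (P.X j) eM)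
            fun j k _ => whisker_exchange (P.d j k) eM.hom |>.symm.symm)
      let S : ShortComplex (ModuleCat.{u} A) := ShortComplex.mk
        (X₁ := ModuleCat.of A W) (X₂ := N) (X₃ := ModuleCat.of A (N ⧸ W))
        (ModuleCat.ofHom (X := ↥W) W.subtype) (ModuleCat.ofHom W.mkQ)
        (ModuleCat.hom_ext (LinearMap.ext fun x => (Submodule.Quotient.mk_eq_zero W).2 x.2))
      have hS : S.ShortExact :=
        { exact := (ShortComplex.ShortExact.moduleCat_exact_iff_function_exact S).2 (LinearMap.exact_subtype_mkQ W)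
          mono_f := (ModuleCat.mono_iff_injective _).2 Subtype.val_injective
          epi_g := (ModuleCat.epi_iff_surjective _).2 W.mkQ_surjective }
      exact exactAt_tensor_middle hP hS i (ih (ModuleCat.of A W) hW) h3
  obtain ⟨n, hn⟩ := hnil
  exact key n N (by rw [hn]; exact Submodule.bot_smul _)

/-- Tor amplitude descends along a surjection with nilpotent kernel. -/
theorem hasTorAmplitudeIn_of_lBase (hφ : Function.Surjective φ) (hnil : IsNilpotent (RingHom.ker φ))
    [DRing.HasLBaseChange φ] (K : Dual.D A) (a b : ℤ)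
    (h : DRing.HasTorAmplitudeIn B a b ((DRing.LBaseChange φ).obj K)) : DRing.HasTorAmplitudeIn A a b K := by
  obtain ⟨P, hP, hPf, ⟨e⟩⟩ := KF.exists_kflat_rep K
  obtain ⟨e'⟩ := KF.lBase_value φ hP
  have h' := (KF.hasTorAmplitudeIn_iff_kflat (KF.isKFlat_bc φ hP) a b).1
    (hasTorAmplitudeIn_of_iso ((DRing.LBaseChange φ).mapIso e.symm ≪≫ e') h)
  exact hasTorAmplitudeIn_of_iso e ((KF.hasTorAmplitudeIn_iff_kflat hP a b).2 fun N i hi =>
    exactAt_tensor_of_nilpotent φ hφ hnil hPf i (fun M => h' M i hi) N)

/-- A module which is finite modulo a nilpotent ideal is finite. -/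
theorem finite_of_finite_quotient {I : Ideal A} (hI : IsNilpotent I) {N : Type u} [AddCommGroup N] [Module A N]
    (h : Module.Finite A (N ⧸ (I • ⊤ : Submodule A N))) : Module.Finite A N := by
  obtain ⟨s, hs⟩ := h.fg_top
  classical
  choose g hg using Submodule.mkQ_surjective (I • ⊤ : Submodule A N)
  let N₀ : Submodule A N := Submodule.span A ((s.image g : Finset N) : Set N)
  have h1 : N₀ ⊔ I • ⊤ = ⊤ := by
    have h2 : N₀.map (I • ⊤ : Submodule A N).mkQ = ⊤ := by
      rw [Submodule.map_span, Finset.coe_image, Set.image_image]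
      simp only [hg, Set.image_id']
      exact hs
    have h3 := congrArg (Submodule.comap (I • ⊤ : Submodule A N).mkQ) h2
    rwa [Submodule.comap_map_eq, Submodule.ker_mkQ, Submodule.comap_top] at h3
  have hk : ∀ k : ℕ, N₀ ⊔ I ^ k • ⊤ = ⊤ := by
    intro k
    induction k with
    | zero => rw [pow_zero, Ideal.one_eq_top, Submodule.top_smul, sup_top_eq]
    | succ k ih =>
      refine eq_top_iff.2 ?_
      calc (⊤ : Submodule A N) = N₀ ⊔ I ^ k • (N₀ ⊔ I • ⊤) := by rw [h1, ih]
        _ = N₀ ⊔ (I ^ k • N₀ ⊔ I ^ k • (I • ⊤)) := by rw [Submodule.smul_sup]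
        _ ≤ N₀ ⊔ I ^ (k + 1) • ⊤ := by
          refine sup_le le_sup_left (sup_le (Submodule.smul_le_right.trans le_sup_left) ?_)
          rw [← Submodule.mul_smul, ← pow_succ]
          exact le_sup_right
  obtain ⟨n, hn⟩ := hI
  refine ⟨⟨s.image g, ?_⟩⟩
  have h4 := hk n
  rw [hn] at h4
  simpa [N₀] using h4

/-- Cohomology in a degree where the outgoing differential vanishes. -/
noncomputable def topHomologyIso (C : DRing.Cx A) (c : ℤ) (hd : C.d c (c + 1) = 0) :
    C.homology c ≅ ModuleCat.of A (C.X c ⧸ LinearMap.range (C.d (c - 1) c).hom) :=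
  haveI := C.isIso_homologyι c (c + 1) (by simp) hd
  asIso (C.homologyι c) ≪≫
    ShortComplex.opcyclesMapIso (C.isoSc' (c - 1) c (c + 1) (by simp) (by simp)) ≪≫
      (C.sc' (c - 1) c (c + 1)).moduleCatOpcyclesIso

/-- Nakayama for base change along a surjection with nilpotent kernel. -/
theorem finite_of_finite_extendScalars (hφ : Function.Surjective φ) (hnil : IsNilpotent (RingHom.ker φ))
    (N : ModuleCat.{u} A) (h : Module.Finite B ((ModuleCat.extendScalars.{u, u, u} φ).obj N)) :
    Module.Finite A N := by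
  letI := φ.toAlgebra
  haveI h' : Module.Finite B (B ⊗[A] N) := h
  haveI : Module.Finite A B := Module.Finite.of_surjective (Algebra.linearMap A B) hφ
  haveI : Module.Finite A (B ⊗[A] N) := Module.Finite.trans B _
  let q : (A ⧸ RingHom.ker φ) ≃ₗ[A] B :=
    { RingHom.quotientKerEquivOfSurjective hφ with
      map_smul' := fun a x => by
        obtain ⟨x, rfl⟩ := Ideal.Quotient.mk_surjective x
        show φ (a * x) = φ a * φ x
        exact map_mul φ a x }
  refine finite_of_finite_quotient hnil (Module.Finite.equiv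
    ((TensorProduct.congr q.symm (LinearEquiv.refl A N)).trans
      (TensorProduct.quotTensorEquivQuotSMul N (RingHom.ker φ))))

/-- The top cohomology of a flat complex is finite if that of its reduction is. -/
theorem finite_homology_of_bc
    (hNak : ∀ N : ModuleCat.{u} A, Module.Finite B ((ModuleCat.extendScalars.{u, u, u} φ).obj N) →
      Module.Finite A N)
    {C : DRing.Cx A} {b c : ℤ} (hb : DRing.VanishesAbove C b) (hf : DRing.TermwiseFlat C)
    (hex : ∀ i, c < i → C.ExactAt i) (h : Module.Finite B (((bc φ).obj C).homology c)) :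
    Module.Finite A (C.homology c) := by
  haveI : C.IsLE c := (CochainComplex.isLE_iff C c).2 hex
  haveI := (C.quasiIso_ιTruncLE_iff c).2 inferInstance
  let C' := C.truncLE c
  have hv : DRing.VanishesAbove C' c := fun i hi => C'.isZero_of_isStrictlyLE c i hi
  have hf' : DRing.TermwiseFlat C' := fun i => by
    rcases lt_trichotomy i c with hi | rfl | hi
    · haveI := hf i
      exact Module.Flat.of_linearEquiv (C.truncLEXIso c i hi).toLinearEquiv
    · let S := C.sc' (i - 1) i (i + 1)
      haveI : Module.Flat A S.moduleCatLeftHomologyData.K :=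
        flat_ker_of_exact C b hb i (fun j _ => hf j) hex i le_rfl
      exact Module.Flat.of_linearEquiv (C.truncLEXIsoCycles i ≪≫
        ShortComplex.cyclesMapIso (C.isoSc' (i - 1) i (i + 1) (by simp) (by simp)) ≪≫
          S.moduleCatCyclesIso).toLinearEquiv
    · haveI := ModuleCat.subsingleton_of_isZero (hv i hi)
      infer_instance
  haveI hq : QuasiIso ((bc φ).map (C.ιTruncLE c)) := KF.quasiIso_bc_map φ _
    (KF.isKFlat_of_vanishesAbove hv hf') (KF.isKFlat_of_vanishesAbove hb hf)
  have hd : C'.d c (c + 1) = 0 := (hv (c + 1) (by omega)).eq_of_tgt _ _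
  have hd' : ((bc φ).obj C').d c (c + 1) = 0 :=
    ((ModuleCat.extendScalars.{u, u, u} φ).map_isZero (hv (c + 1) (by omega))).eq_of_tgt _ _
  let N : ModuleCat.{u} A := ModuleCat.of A (C'.X c ⧸ LinearMap.range (C'.d (c - 1) c).hom)
  haveI h1 : Module.Finite B (((bc φ).obj C').homology c) :=
    Module.Finite.equiv (asIso (homologyMap ((bc φ).map (C.ιTruncLE c)) c)).toLinearEquiv.symm
  haveI h2 : Module.Finite B ((ModuleCat.extendScalars.{u, u, u} φ).obj N) := by
    haveI := Module.Finite.equiv (topHomologyIso ((bc φ).obj C') c hd').toLinearEquiv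
    letI := φ.toAlgebra
    let π : (ModuleCat.extendScalars.{u, u, u} φ).obj (C'.X c) ⟶ (ModuleCat.extendScalars.{u, u, u} φ).obj N :=
      (ModuleCat.extendScalars.{u, u, u} φ).map
        (ModuleCat.ofHom (LinearMap.range (C'.d (c - 1) c).hom).mkQ)
    have hzero : ((bc φ).obj C').d (c - 1) c ≫ π = 0 := by
      show (ModuleCat.extendScalars.{u, u, u} φ).map _ ≫ (ModuleCat.extendScalars.{u, u, u} φ).map _ = 0
      rw [← Functor.map_comp]
      convert (ModuleCat.extendScalars.{u, u, u} φ).map_zero _ _ using 2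
      exact ModuleCat.hom_ext (LinearMap.range_mkQ_comp _)
    refine Module.Finite.of_surjective
      ((LinearMap.range (((bc φ).obj C').d (c - 1) c).hom).liftQ π.hom
        (LinearMap.range_le_ker_iff.2 (congrArg ModuleCat.Hom.hom hzero))) ?_
    intro y
    haveI := (ModuleCat.extendRestrictScalarsAdj.{u} φ).leftAdjoint_preservesColimits
    have hepi : Epi (ModuleCat.ofHom (LinearMap.range (C'.d (c - 1) c).hom).mkQ : C'.X c ⟶ N) :=
      (ModuleCat.epi_iff_surjective _).2 (Submodule.mkQ_surjective _)
    obtain ⟨x, hx⟩ := (ModuleCat.epi_iff_surjective π).1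
      (@Functor.map_epi _ _ _ _ (ModuleCat.extendScalars.{u, u, u} φ) _ _ _ _ hepi) y
    exact ⟨Submodule.Quotient.mk x, hx⟩
  haveI := hNak N h2
  exact Module.Finite.equiv ((topHomologyIso C' c hd).symm ≪≫
    asIso (homologyMap (C.ιTruncLE c) c)).toLinearEquiv

/-- Pseudo-coherence descends along a surjection with nilpotent kernel. -/
theorem isPseudoCoherent'_of_lBase (hφ : Function.Surjective φ) (hnil : IsNilpotent (RingHom.ker φ))
    [DRing.HasLBaseChange φ] (K : Dual.D A)
    (h : DRing.IsPseudoCoherent' B ((DRing.LBaseChange φ).obj K)) : DRing.IsPseudoCoherent' A K := by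
  obtain ⟨P₀, hP₀, hP₀f, ⟨e₀⟩⟩ := KF.exists_kflat_rep K
  obtain ⟨e₀'⟩ := KF.lBase_value φ hP₀
  obtain ⟨E, b, hEb, hEf, ⟨eE⟩⟩ := h
  have hEflat := termwiseFlat_of_projective fun i => projective_of_finiteFree hEf i
  let eB : DRing.toD ((bc φ).obj P₀) ≅ DRing.toD E :=
    e₀'.symm ≪≫ (DRing.LBaseChange φ).mapIso e₀ ≪≫ eE.symm
  have hv : ∀ i, b < i → Subsingleton (Dual.HD A K i) := fun i hi => by
    have h1 := exactAt_tensor_of_nilpotent φ hφ hnil hP₀f i (fun M =>
      (exactAt_tensor_congr (KF.isKFlat_bc φ hP₀) (KF.isKFlat_of_vanishesAbove hEb hEflat) eB M i).2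
        (ShortComplex.exact_of_isZero_X₂ _ ((tensorRight M).map_isZero (hEb i hi)))) (ModuleCat.of A A)
    exact subsingleton_HD_of_iso e₀ i ((exactAt_iff P₀ i).1 (h1.of_iso (KF.tensorCxUnitIso P₀)))
  obtain ⟨P, hP, hPp, ⟨e⟩⟩ := exists_projective_rep K b hv
  have hPflat := termwiseFlat_of_projective hPp
  obtain ⟨e'⟩ := KF.lBase_value φ (KF.isKFlat_of_vanishesAbove hP hPflat)
  let eP : DRing.toD ((bc φ).obj P) ≅ DRing.toD E :=
    e'.symm ≪≫ (DRing.LBaseChange φ).mapIso e ≪≫ eE.symm
  refine isPseudoCoherent'_of_forall fun m₀ => DerBC.isPseudoCoherent_of_iso e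
    (isPseudoCoherent_of_canStep hP m₀ fun m _ _ G f hv hf hex => ?_)
  let F := ModuleCat.extendScalars.{u, u, u} φ
  have hexB : ∀ i, m ≤ i → (CochainComplex.mappingCone ((bc φ).map f)).ExactAt i := fun i hi => by
    refine HomologicalComplex.ExactAt.of_iso ?_ (CochainComplex.mappingCone.mapHomologicalComplexIso f F)
    refine (exactAt_bc_iff φ _ i).2 ?_
    letI := φ.toAlgebra
    refine tExact_of_exact (b := max b (b + 1)) (fun j hj => isZero_cone_X f (hv (j + 1) (Or.inr (by omega)))
      (hP j (by omega))) (flat_cone f (termwiseFlat_of_projective fun j => projective_of_finiteFree hf j) hPflat)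
      (n := m) (fun j hj => hex j hj) i hi B
  have hfin := finite_cone ((bc φ).map f) (vanishesOutside_map F hv)
    (fun k => DerBC.finiteFree_extendScalars φ (G.X k) (hf k).1 (hf k).2)
    (DerBC.isPseudoCoherent_of_iso eP.symm (isPseudoCoherent_of_prime ⟨E, b, hEb, hEf, ⟨Iso.refl _⟩⟩ (m - 1))) hexB
  refine finite_homology_of_bc φ (fun N => finite_of_finite_extendScalars φ hφ hnil N) (b := max b (b + 1))
    (fun j hj => isZero_cone_X f (hv (j + 1) (Or.inr (by omega))) (hP j (by omega)))
    (flat_cone f (termwiseFlat_of_projective fun j => projective_of_finiteFree hf j) hPflat)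
    (fun j hj => hex j (by omega)) ?_
  exact @Module.Finite.equiv _ _ _ _ _ _ _ _ hfin ((HomologicalComplex.homologyFunctor _ _ (m - 1)).mapIso
    (CochainComplex.mappingCone.mapHomologicalComplexIso f F).symm).toLinearEquiv

end GrothLib.DR
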