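import Groth.Agent.Lib.DCxRing.LBase
import Groth.Agent.Lib.DCxRing.Reduction
import Groth.Agent.Lib.DCxKFlat.LBaseKFlat
import Mathlib.LinearAlgebra.Matrix.Charpoly.LinearMap
import Mathlib.LinearAlgebra.TensorProduct.Quotient
import Mathlib.RingTheory.TensorProduct.Maps
import Mathlib.RingTheory.Finiteness.Nakayama

/-!
# Exactness from the closed fibres
-/

set_option autoImplicit false
universe u

open CategoryTheory CategoryTheory.Limits HomologicalComplex TensorProduct Polynomial

attribute [local instance] HasDerivedCategory.standard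

namespace GrothLib.DR

variable {A : Type u} [CommRing A]

section Field

variable {k : Type u} [Field k] {U V W : Type u} [AddCommGroup U] [Module k U] [AddCommGroup V] [Module k V]
  [AddCommGroup W] [Module k W]

/-- An exact sequence of vector spaces is split exact. -/
theorem exists_contraction (u : U →ₗ[k] V) (v : V →ₗ[k] W) (h : Function.Exact u v) :
    ∃ (r : W →ₗ[k] V) (s : V →ₗ[k] U), ∀ x, r (v x) + u (s x) = x := by
  obtain ⟨σ, hσ⟩ := u.rangeRestrict.exists_rightInverse_of_surjective (LinearMap.range_rangeRestrict u)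
  obtain ⟨p, hp⟩ := (LinearMap.range u).subtype.exists_leftInverse_of_injective (Submodule.ker_subtype _)
  let g : V →ₗ[k] V := LinearMap.id - (LinearMap.range u).subtype.comp p
  have hg : LinearMap.ker v ≤ LinearMap.ker g := fun x hx => by
    have hx' : x ∈ LinearMap.range u := (h x).1 hx
    have := LinearMap.congr_fun hp ⟨x, hx'⟩
    simp only [LinearMap.comp_apply, Submodule.subtype_apply, LinearMap.id_apply] at this
    simp [g, this]
  obtain ⟨l, hl⟩ := ((LinearMap.ker v).liftQ v le_rfl).exists_leftInverse_of_injective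
    (Submodule.ker_liftQ_eq_bot _ _ _ le_rfl)
  refine ⟨((LinearMap.ker v).liftQ g hg).comp l, σ.comp p, fun x => ?_⟩
  have h1 := LinearMap.congr_fun hl ((LinearMap.ker v).mkQ x)
  simp only [LinearMap.comp_apply, Submodule.mkQ_apply, Submodule.liftQ_apply, LinearMap.id_apply] at h1
  have h2 := congrArg Subtype.val (LinearMap.congr_fun hσ (p x))
  simp only [LinearMap.comp_apply, LinearMap.id_apply] at h2
  simp only [LinearMap.comp_apply, h1, Submodule.liftQ_apply]
  rw [show u (σ (p x)) = (p x : V) from h2]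
  simp [g]

end Field

variable {X Y Z : Type u} [AddCommGroup X] [Module A X] [AddCommGroup Y] [Module A Y] [AddCommGroup Z] [Module A Z]

/-- Lifting a contraction from the fibre at a maximal ideal. -/
theorem exists_contraction_mod (m : Ideal A) [hm : m.IsMaximal] (u : X →ₗ[A] Y) (v : Y →ₗ[A] Z)
    [Module.Projective A Y] [Module.Projective A Z]
    (h : Function.Exact (u.rTensor (A ⧸ m)) (v.rTensor (A ⧸ m))) :
    ∃ (r : Z →ₗ[A] Y) (s : Y →ₗ[A] X), ∀ x, r (v x) + u (s x) - x ∈ (m • ⊤ : Submodule A Y) := by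
  letI : Field (A ⧸ m) := Ideal.Quotient.field m
  let Xm := (m • ⊤ : Submodule A X)
  let Ym := (m • ⊤ : Submodule A Y)
  let Zm := (m • ⊤ : Submodule A Z)
  have hu : Xm ≤ Ym.comap u := Submodule.map_le_iff_le_comap.1 (by
    rw [Submodule.map_smul'']; exact Submodule.smul_mono le_rfl le_top)
  have hv : Ym ≤ Zm.comap v := Submodule.map_le_iff_le_comap.1 (by
    rw [Submodule.map_smul'']; exact Submodule.smul_mono le_rfl le_top)
  let ub := Xm.mapQ Ym u hu
  let vb := Ym.mapQ Zm v hv
  have hex : Function.Exact ub vb := by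
    refine Function.Exact.of_ladder_linearEquiv_of_exact (e₁ := tensorQuotEquivQuotSMul X m)
      (e₂ := tensorQuotEquivQuotSMul Y m) (e₃ := tensorQuotEquivQuotSMul Z m) ?_ ?_ h <;>
    · refine TensorProduct.ext' fun x q => ?_
      obtain ⟨a, rfl⟩ := Ideal.Quotient.mk_surjective q
      simp [ub, vb, tensorQuotEquivQuotSMul_tmul_mk, Xm, Ym, Zm]
  have hsurj : Function.Surjective (algebraMap A (A ⧸ m)) := Ideal.Quotient.mk_surjective
  obtain ⟨r₀, s₀, h0⟩ := exists_contraction (k := A ⧸ m) (ub.extendScalarsOfSurjective hsurj)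
    (vb.extendScalarsOfSurjective hsurj) hex
  obtain ⟨r, hr⟩ := Module.projective_lifting_property Ym.mkQ ((r₀.restrictScalars A).comp Zm.mkQ) Ym.mkQ_surjective
  obtain ⟨s, hs⟩ := Module.projective_lifting_property Xm.mkQ ((s₀.restrictScalars A).comp Ym.mkQ) Xm.mkQ_surjective
  refine ⟨r, s, fun x => (Submodule.Quotient.eq Ym).1 ?_⟩
  have h1 : Ym.mkQ (r (v x)) = r₀ (vb (Ym.mkQ x)) := (LinearMap.congr_fun hr (v x)).trans rfl
  have h2 : Ym.mkQ (u (s x)) = ub (s₀ (Ym.mkQ x)) := by
    refine Eq.trans ?_ (congrArg ub (LinearMap.congr_fun hs x))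
    rfl
  change Ym.mkQ (r (v x) + u (s x)) = Ym.mkQ x
  rw [map_add, h1, h2]
  exact h0 (Ym.mkQ x)

/-- Exactness at every closed fibre gives exactness after tensoring with any module. -/
theorem rTensor_exact_of_fibres (u : X →ₗ[A] Y) (v : Y →ₗ[A] Z) (huv : ∀ x, v (u x) = 0)
    [Module.Finite A Y] [Module.Projective A Y] [Module.Projective A Z]
    (h : ∀ m : Ideal A, m.IsMaximal → Function.Exact (u.rTensor (A ⧸ m)) (v.rTensor (A ⧸ m)))
    (N : Type u) [AddCommGroup N] [Module A N] : Function.Exact (u.rTensor N) (v.rTensor N) := by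
  have hc : ∀ w, v.rTensor N (u.rTensor N w) = 0 := fun w => by
    rw [← LinearMap.rTensor_comp_apply, show v.comp u = 0 from LinearMap.ext huv]
    simp
  intro z
  refine ⟨fun hz => ?_, by rintro ⟨w, rfl⟩; exact hc w⟩
  let R := LinearMap.range (u.rTensor N)
  suffices hJ : R.comap (LinearMap.toSpanSingleton A _ z) = ⊤ by
    have h1 : (1 : A) ∈ R.comap (LinearMap.toSpanSingleton A _ z) := hJ ▸ trivial
    have h2 : z ∈ R := by simpa using h1
    exact h2
  by_contra hne
  obtain ⟨m, hm, hle⟩ := Ideal.exists_le_maximal _ hne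
  obtain ⟨r, s, hrs⟩ := exists_contraction_mod (hm := hm) m u v (h m hm)
  let T : Module.End A Y := r.comp v + u.comp s
  let D : Module.End A Y := T - 1
  have hD : LinearMap.range D ≤ (m • ⊤ : Submodule A Y) := by
    rintro _ ⟨x, rfl⟩
    exact hrs x
  obtain ⟨p, hpm, hdeg, hcoef, hp⟩ :=
    LinearMap.exists_monic_and_natDegree_eq_and_coeff_mem_pow_and_aeval_eq_zero A D m hD
  let Φ : Module.End A Y →ₐ[A] Module.End A (Y ⊗[A] N) := Module.End.rTensorAlgHom A Y N
  have hTz : Φ T z ∈ R ∧ (∀ w ∈ R, Φ T w ∈ R) := by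
    have hΦ : ∀ w, Φ T w = r.rTensor N (v.rTensor N w) + u.rTensor N (s.rTensor N w) := fun w => by
      change T.rTensor N w = _
      rw [LinearMap.rTensor_add, LinearMap.add_apply, LinearMap.rTensor_comp_apply, LinearMap.rTensor_comp_apply]
    refine ⟨?_, fun w hw => ?_⟩
    · rw [hΦ, hz, map_zero, zero_add]
      exact ⟨_, rfl⟩
    · obtain ⟨w, rfl⟩ := hw
      rw [hΦ, hc, map_zero, zero_add]
      exact ⟨_, rfl⟩
  have hDz : ∀ j : ℕ, Φ D ((Φ D ^ j) z) + (Φ D ^ j) z ∈ R := by
    have hD' : ∀ w, Φ D w = Φ T w - w := fun w => by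
      rw [map_sub, map_one]
      rfl
    intro j
    induction j with
    | zero =>
      rw [pow_zero, Module.End.one_apply, hD', sub_add_cancel]
      exact hTz.1
    | succ j ih =>
      rw [pow_succ', Module.End.mul_apply]
      have h1 := sub_mem (hTz.2 _ ih) ih
      rw [hD' (Φ D ((Φ D ^ j) z))]
      rw [map_add, show Φ T ((Φ D ^ j) z) = Φ D ((Φ D ^ j) z) + (Φ D ^ j) z by rw [hD', sub_add_cancel]] at h1
      convert h1 using 1
      abel
  have hpow : ∀ j : ℕ, (Φ D ^ j) z - ((-1 : A) ^ j) • z ∈ R := by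
    intro j
    induction j with
    | zero => simp
    | succ j ih =>
      have h1 := sub_mem (hDz j) ih
      rw [pow_succ', Module.End.mul_apply, pow_succ', ← smul_smul]
      convert h1 using 1
      simp only [neg_smul, one_smul]
      abel
  have hval : (p.eval (-1) : A) • z ∈ R := by
    have h0 : aeval (Φ D) p = 0 := by rw [aeval_algHom_apply, hp, map_zero]
    have h1 := LinearMap.congr_fun h0 z
    rw [aeval_eq_sum_range, LinearMap.sum_apply] at h1
    have h2 : ∑ j ∈ Finset.range (p.natDegree + 1), (p.coeff j • ((Φ D ^ j) z - ((-1 : A) ^ j) • z)) ∈ R :=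
      sum_mem fun j _ => Submodule.smul_mem _ _ (hpow j)
    simp only [smul_sub, Finset.sum_sub_distrib, smul_smul, ← Finset.sum_smul] at h2
    simp only [LinearMap.smul_apply, LinearMap.zero_apply] at h1
    rw [h1, zero_sub, neg_mem_iff, ← eval_eq_sum_range] at h2
    exact h2
  have hmem : p.eval (-1) ∈ m := hle (by simpa using hval)
  have hlast : (-1 : A) ^ p.natDegree ∈ m := by
    rw [eval_eq_sum_range, Finset.sum_range_succ, hpm.coeff_natDegree, one_mul] at hmem
    refine (Ideal.add_mem_iff_right _ ?_).1 hmem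
    refine sum_mem fun j hj => Ideal.mul_mem_right _ _ ?_
    have hj' := Finset.mem_range.1 hj
    exact Ideal.pow_le_self (show p.natDegree - j ≠ 0 by omega) (hcoef j)
  exact hm.ne_top (Ideal.eq_top_of_isUnit_mem _ hlast ((isUnit_one.neg).pow _))

/-- Exactness of `P ⊗ N` from exactness at the closed fibres. -/
theorem tExact_of_fibres (P : DRing.Cx A) (i : ℤ) [Module.Finite A (P.X i)] [Module.Projective A (P.X i)]
    [Module.Projective A (P.X (i + 1))]
    (h : ∀ m : Ideal A, m.IsMaximal → ((bc (Ideal.Quotient.mk m)).obj P).ExactAt i)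
    (N : Type u) [AddCommGroup N] [Module A N] : TExact P N i :=
  rTensor_exact_of_fibres _ _ (fun x => ConcreteCategory.congr_hom (P.d_comp_d (i - 1) i (i + 1)) x)
    (fun m hm => (exactAt_bc_iff (Ideal.Quotient.mk m) P i).1 (h m hm)) N

/-- Tor amplitude of a pseudo-coherent object from its closed fibres. -/
theorem hasTorAmplitudeIn_of_fibres (K : Dual.D A) (hK : DRing.IsPseudoCoherent' A K) (a b : ℤ)
    (h : ∀ (P : DRing.Cx A), KF.IsKFlat P → Nonempty (DRing.toD P ≅ K) →
      ∀ (m : Ideal A), m.IsMaximal → ∀ i : ℤ, (i < a ∨ b < i) → ((bc (Ideal.Quotient.mk m)).obj P).ExactAt i) :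
    DRing.IsPerfect A K ∧ DRing.HasTorAmplitudeIn A a b K := by
  obtain ⟨P, c, hPc, hPf, e⟩ := hK
  have hflat : DRing.TermwiseFlat P := termwiseFlat_of_projective fun i => projective_of_finiteFree hPf i
  have hk := KF.isKFlat_of_vanishesAbove hPc hflat
  have hT : DRing.HasTorAmplitudeIn A a b (DRing.toD P) :=
    (hasTorAmplitudeIn_iff hPc hflat a b).2 fun N _ _ i hi => by
      haveI := (hPf i).1
      haveI := projective_of_finiteFree hPf i
      haveI := projective_of_finiteFree hPf (i + 1)
      exact tExact_of_fibres P i (fun m hm => h P hk e m hm i hi) N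
  obtain ⟨e⟩ := e
  refine ⟨isPerfect_iff.2 ⟨⟨P, c, hPc, hPf, ⟨e⟩⟩, a, b, ?_⟩, hasTorAmplitudeIn_of_iso e hT⟩
  exact hasTorAmplitudeIn_of_iso e hT

/-- The value of derived base change, as exactness. -/
theorem exactAt_bc_of_lBase {B : Type u} [CommRing B] (φ : A →+* B) [DRing.HasLBaseChange φ] {K : Dual.D A}
    {P : DRing.Cx A} (hP : KF.IsKFlat P) (e : Nonempty (DRing.toD P ≅ K)) (i : ℤ)
    (h : Subsingleton (Dual.HD B ((DRing.LBaseChange φ).obj K) i)) : ((bc φ).obj P).ExactAt i := by
  obtain ⟨e'⟩ := KF.lBase_value φ hP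
  exact (exactAt_iff _ i).2 (subsingleton_HD_of_iso ((DRing.LBaseChange φ).mapIso e.some.symm ≪≫ e') i h)

/-- Modules killed by a power of an ideal, by devissage. -/
theorem exactAt_tensor_of_pow {P : DRing.Cx A} (hP : DRing.TermwiseFlat P) (J : Ideal A) (i : ℤ)
    (h : ∀ N : ModuleCat.{u} A, J • (⊤ : Submodule A N) = ⊥ → (DRing.tensorCx P N).ExactAt i) :
    ∀ (k : ℕ) (N : ModuleCat.{u} A), J ^ k • (⊤ : Submodule A N) = ⊥ → (DRing.tensorCx P N).ExactAt i := by
  intro k
  induction k with
  | zero =>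
    intro N hN
    rw [pow_zero, Ideal.one_eq_top, Submodule.top_smul] at hN
    haveI : Subsingleton N :=
      ⟨fun x y => ((Submodule.mem_bot A).1 (hN ▸ Submodule.mem_top (x := x))).trans
        ((Submodule.mem_bot A).1 (hN ▸ Submodule.mem_top (x := y))).symm⟩
    exact ShortComplex.exact_of_isZero_X₂ _
      (((MonoidalCategory.curriedTensor (ModuleCat.{u} A)).obj (P.X i)).map_isZero (ModuleCat.isZero_of_subsingleton N))
  | succ k ih =>
    intro N hN
    let W : Submodule A N := J • ⊤
    have hW : J ^ k • (⊤ : Submodule A W) = ⊥ := by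
      apply Submodule.map_injective_of_injective (f := W.subtype) Subtype.val_injective
      rw [Submodule.map_smul'', Submodule.map_top, Submodule.range_subtype, Submodule.map_bot]
      show J ^ k • (J • (⊤ : Submodule A N)) = ⊥
      rw [← Submodule.mul_smul, ← pow_succ]
      exact hN
    have hQ : J • (⊤ : Submodule A (N ⧸ W)) = ⊥ := by
      rw [← Submodule.range_mkQ W, ← Submodule.map_top, ← Submodule.map_smul'']
      exact Submodule.mkQ_map_self W
    let S : ShortComplex (ModuleCat.{u} A) := ShortComplex.mk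
      (X₁ := ModuleCat.of A W) (X₂ := N) (X₃ := ModuleCat.of A (N ⧸ W))
      (ModuleCat.ofHom (X := ↥W) W.subtype) (ModuleCat.ofHom W.mkQ)
      (ModuleCat.hom_ext (LinearMap.ext fun x => (Submodule.Quotient.mk_eq_zero W).2 x.2))
    have hS : S.ShortExact :=
      { exact := (ShortComplex.ShortExact.moduleCat_exact_iff_function_exact S).2 (LinearMap.exact_subtype_mkQ W)
        mono_f := (ModuleCat.mono_iff_injective _).2 Subtype.val_injective
        epi_g := (ModuleCat.epi_iff_surjective _).2 W.mkQ_surjective }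
    exact exactAt_tensor_middle hP hS i (ih (ModuleCat.of A W) hW) (h _ hQ)

/-- Exactness of `P ⊗ N` for a module killed by the kernel of a surjection. -/
theorem exactAt_tensor_of_killed {B : Type u} [CommRing B] (φ : A →+* B) (hφ : Function.Surjective φ)
    {P : DRing.Cx A} (i : ℤ) (h : ∀ M : ModuleCat.{u} B, (DRing.tensorCx ((bc φ).obj P) M).ExactAt i)
    (N : ModuleCat.{u} A) (hN : RingHom.ker φ • (⊤ : Submodule A N) = ⊥) : (DRing.tensorCx P N).ExactAt i := by
  obtain ⟨M, ⟨eM⟩⟩ := exists_restrict_iso φ hφ N hN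
  exact ((KF.exactAt_tensor_restrict_iff φ P M i).2 (h M)).of_iso
    (HomologicalComplex.Hom.isoOfComponents (fun j => MonoidalCategory.whiskerLeftIso (P.X j) eM)
      fun j k _ => MonoidalCategory.whisker_exchange (P.d j k) eM.hom |>.symm.symm)

/-- Over a field tensoring preserves exactness. -/
theorem exactAt_tensor_of_field {k : Type u} [Field k] (C : DRing.Cx k) (i : ℤ) (h : C.ExactAt i)
    (M : ModuleCat.{u} k) : (DRing.tensorCx C M).ExactAt i := by
  rw [← tExact_iff]
  exact Module.Flat.rTensor_exact (R := k) M ((function_exact_d C (i - 1) i (i + 1) (by omega) rfl).1 h)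

end GrothLib.DR
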