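import Groth.Agent.Lib.DCxRing.Step
import Mathlib.CategoryTheory.Limits.Constructions.EventuallyConstant
import Mathlib.CategoryTheory.Functor.OfSequence
import Mathlib.Algebra.Category.ModuleCat.Colimits
import Mathlib.Algebra.Homology.HomologicalComplexLimits

/-!
# Approximation of bounded above complexes by finite free complexes
-/

universe u

open CategoryTheory Limits HomologicalComplex CochainComplex

attribute [local instance] HasDerivedCategory.standard

namespace GrothLib.DR

variable {A : Type u} [CommRing A]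

/-- The cone of a map is exact at `i` iff the cone in `D(A)` has no cohomology in degree `i`. -/
lemma exactAt_cone_iff {E P : DRing.Cx A} (f : E ⟶ P) (i : ℤ) :
    (mappingCone f).ExactAt i ↔ IsZero ((DerivedCategory.homologyFunctor (ModuleCat.{u} A) i).obj
      (DRing.toD (mappingCone f))) :=
  (exactAt_iff _ i).trans (subsingleton_iff_isZero _)

lemma cone_exact_iff {E P : DRing.Cx A} (f : E ⟶ P) (m : ℤ) :
    (∀ i, m ≤ i → (mappingCone f).ExactAt i) ↔
      (∀ i, m < i → IsIso ((DerivedCategory.homologyFunctor (ModuleCat.{u} A) i).map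
        (DerivedCategory.Q.map f))) ∧
        Epi ((DerivedCategory.homologyFunctor (ModuleCat.{u} A) m).map (DerivedCategory.Q.map f)) := by
  simp only [exactAt_cone_iff]
  exact DerBC.cone_vanish_iff _ (DerivedCategory.mappingCone_triangle_distinguished f) m

/-- An approximation by finite free modules gives pseudo-coherence. -/
theorem isPseudoCoherent_of_cone {E P : DRing.Cx A} (f : E ⟶ P) {a b m : ℤ}
    (hv : DRing.VanishesOutside E a b) (hf : DRing.TermwiseFiniteFree E)
    (hex : ∀ i, m ≤ i → (mappingCone f).ExactAt i) : DRing.IsPseudoCoherent A m (DRing.toD P) :=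
  ⟨E, a, b, DerivedCategory.Q.map f, hv, hf, ((cone_exact_iff f m).1 hex).1,
    ((cone_exact_iff f m).1 hex).2⟩

/-- Pseudo-coherence gives an approximation of any representative. -/
theorem exists_cone_of_isPseudoCoherent {P : DRing.Cx A} {m : ℤ}
    (h : DRing.IsPseudoCoherent A m (DRing.toD P)) :
    ∃ (E : DRing.Cx A) (a b : ℤ) (f : E ⟶ P), DRing.VanishesOutside E a b ∧
      DRing.TermwiseFiniteFree E ∧ ∀ i, m ≤ i → (mappingCone f).ExactAt i := by
  obtain ⟨E, a, b, α, hv, hf, hi, he⟩ := h
  haveI := DerBC.isKProjective_of_finiteFree hv hf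
  obtain ⟨f, rfl⟩ := exists_lift E α
  exact ⟨E, a, b, f, hv, hf, (cone_exact_iff f m).2 ⟨hi, he⟩⟩

/-- A bounded complex of finite free modules is pseudo-coherent. -/
theorem isPseudoCoherent_finiteFree {E : DRing.Cx A} {a b : ℤ} (hv : DRing.VanishesOutside E a b)
    (hf : DRing.TermwiseFiniteFree E) (m : ℤ) : DRing.IsPseudoCoherent A m (DRing.toD E) :=
  ⟨E, a, b, 𝟙 _, hv, hf, fun i _ => by rw [CategoryTheory.Functor.map_id]; infer_instance,
    by rw [CategoryTheory.Functor.map_id]; infer_instance⟩

lemma isPseudoCoherent_mono {K : Dual.D A} {m m' : ℤ} (hm : m ≤ m')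
    (h : DRing.IsPseudoCoherent A m K) : DRing.IsPseudoCoherent A m' K := by
  obtain ⟨E, a, b, α, hv, hf, hi, he⟩ := h
  refine ⟨E, a, b, α, hv, hf, fun i hi' => hi i (by omega), ?_⟩
  rcases hm.eq_or_lt with rfl | hlt
  · exact he
  · haveI := hi m' hlt
    infer_instance

/-- The first cohomology module of the cone of an approximation of a pseudo-coherent object
is finite. -/
theorem finite_cone {E P : DRing.Cx A} (f : E ⟶ P) {a b m : ℤ}
    (hv : DRing.VanishesOutside E a b) (hf : DRing.TermwiseFiniteFree E)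
    (hP : DRing.IsPseudoCoherent A (m - 1) (DRing.toD P))
    (hex : ∀ i, m ≤ i → (mappingCone f).ExactAt i) :
    Module.Finite A ((mappingCone f).homology (m - 1)) := by
  have hC := (DerBC.isPseudoCoherent_triangle _
    (DerivedCategory.mappingCone_triangle_distinguished f) (m - 1)).1
    (isPseudoCoherent_finiteFree hv hf _) hP
  have hfin : Module.Finite A ((DerivedCategory.homologyFunctor (ModuleCat.{u} A) (m - 1)).obj
      (DRing.toD (mappingCone f))) :=
    (DerBC.finite_homology _ (m - 1) hC).1 fun i hi => (exactAt_cone_iff f i).1 (hex i (by omega))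
  exact @Module.Finite.equiv _ _ _ _ _ _ _ _ hfin
    (homologyIso (mappingCone f) (m - 1)).toLinearEquiv

/-- The hypothesis needed to improve an approximation by one degree. -/
def CanStep (P : DRing.Cx A) (b m : ℤ) : Prop :=
  ∀ (E : DRing.Cx A) (f : E ⟶ P), DRing.VanishesOutside E m b → DRing.TermwiseFiniteFree E →
    (∀ i, m ≤ i → (mappingCone f).ExactAt i) →
      Module.Finite A ((mappingCone f).homology (m - 1))

theorem canStep_of_isPseudoCoherent {P : DRing.Cx A} {b m : ℤ}
    (h : DRing.IsPseudoCoherent A (m - 1) (DRing.toD P)) : CanStep P b m :=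
  fun _ f hv hf hex => finite_cone f hv hf h hex

/-- An approximation in degrees `≥ b + 1 - n`. -/
structure Approx (P : DRing.Cx A) (b : ℤ) (n : ℕ) where
  /-- the finite free complex -/
  E : DRing.Cx A
  /-- the comparison map -/
  f : E ⟶ P
  vanish : DRing.VanishesOutside E (b + 1 - n) b
  free : DRing.TermwiseFiniteFree E
  exact : ∀ i, b + 1 - n ≤ i → (mappingCone f).ExactAt i

/-- The empty approximation. -/
noncomputable def Approx.zero {P : DRing.Cx A} {b : ℤ} (hP : DRing.VanishesAbove P b) :
    Approx P b 0 where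
  E := (HomologicalComplex.single (ModuleCat.{u} A) (ComplexShape.up ℤ) 0).obj
    (ModuleCat.of A (Fin 0 → A))
  f := 0
  vanish i _ := by
    rcases eq_or_ne i 0 with rfl | hi
    · exact (ModuleCat.isZero_of_subsingleton _).of_iso (singleObjXSelf _ _ _)
    · exact isZero_single_obj_X _ _ _ _ hi
  free := finiteFree_single 0 0
  exact i hi := by
    refine ShortComplex.exact_of_isZero_X₂ _ ?_
    refine isZero_cone_X (0 : (HomologicalComplex.single (ModuleCat.{u} A) (ComplexShape.up ℤ) 0).obj
      (ModuleCat.of A (Fin 0 → A)) ⟶ P) ?_ (hP i (by push_cast at hi; omega))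
    rcases eq_or_ne (i + 1) 0 with h | h
    · rw [h]
      exact (ModuleCat.isZero_of_subsingleton _).of_iso (singleObjXSelf _ _ _)
    · exact isZero_single_obj_X _ _ _ _ h

theorem Approx.exists_succ {P : DRing.Cx A} {b : ℤ} {n : ℕ} (a : Approx P b n)
    (h : CanStep P b (b + 1 - n)) :
    ∃ (a' : Approx P b (n + 1)) (ι : a.E ⟶ a'.E), ι ≫ a'.f = a.f ∧
      ∀ i, i ≠ b - n → IsIso (ι.f i) := by
  obtain ⟨E', ι, f', h1, h2, h3, h4, h5⟩ := exists_step a.f (b + 1 - n) (by omega) a.vanish a.free
    a.exact (h a.E a.f a.vanish a.free a.exact)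
  exact ⟨⟨E', f', fun i hi => h2 i (by push_cast at hi; omega), h3,
    fun i hi => h5 i (by push_cast at hi; omega)⟩, ι, h1, fun i hi => h4 i (by omega)⟩

/-- Bounded above complexes where one can step down as far as `m₀` have approximations. -/
theorem exists_approx {P : DRing.Cx A} {b : ℤ} (hP : DRing.VanishesAbove P b) (n : ℕ)
    (h : ∀ m, b + 1 - n < m → m ≤ b + 1 → CanStep P b m) : Nonempty (Approx P b n) := by
  induction n with
  | zero => exact ⟨Approx.zero hP⟩
  | succ n ih =>
    obtain ⟨a⟩ := ih fun m hm hm' => h m (by push_cast; omega) hm'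
    obtain ⟨a', _⟩ := a.exists_succ (h _ (by push_cast; omega) (by omega))
    exact ⟨a'⟩

/-- Pseudo-coherence from stepping down. -/
theorem isPseudoCoherent_of_canStep {P : DRing.Cx A} {b : ℤ} (hP : DRing.VanishesAbove P b)
    (m₀ : ℤ) (h : ∀ m, m₀ < m → m ≤ b + 1 → CanStep P b m) :
    DRing.IsPseudoCoherent A m₀ (DRing.toD P) := by
  obtain ⟨a⟩ := exists_approx hP (b + 1 - m₀).toNat fun m hm hm' => h m (by omega) hm'
  exact isPseudoCoherent_of_cone a.f a.vanish a.free fun i hi => a.exact i (by omega)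

lemma isIso_cone_map {E E' P : DRing.Cx A} (f : E ⟶ P) (f' : E' ⟶ P) (ι : E ⟶ E')
    (comm : f ≫ 𝟙 P = ι ≫ f') (i : ℤ) [IsIso (ι.f (i + 1))] :
    IsIso ((mappingCone.map f f' ι (𝟙 P) comm).f i) := by
  refine ⟨(mappingCone.fst f').1.v i (i + 1) rfl ≫ inv (ι.f (i + 1)) ≫
      (mappingCone.inl f).v (i + 1) i (by omega) +
    (mappingCone.snd f').v i i (add_zero _) ≫ (mappingCone.inr f).f i, ?_, ?_⟩
  · rw [mappingCone.ext_from_iff f (i + 1) i rfl]
    constructor <;> simp [mappingCone.map]
  · rw [← mappingCone.id_X f' i (i + 1) rfl]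
    simp [mappingCone.map]

/-- Bounded above complexes where one can step down indefinitely are quasi-isomorphic to
bounded above complexes of finite free modules. -/
theorem exists_finiteFree_quasiIso {P : DRing.Cx A} {b : ℤ} (hP : DRing.VanishesAbove P b)
    (h : ∀ m, m ≤ b + 1 → CanStep P b m) :
    ∃ (E : DRing.Cx A) (f : E ⟶ P), DRing.VanishesAbove E b ∧ DRing.TermwiseFiniteFree E ∧
      QuasiIso f := by
  choose next ι hι hiso using fun (n : ℕ) (a : Approx P b n) => a.exists_succ (h _ (by omega))
  let seq : ∀ n : ℕ, Approx P b n := fun n => Nat.rec (Approx.zero hP) (fun k a => next k a) n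
  let F : ℕ ⥤ DRing.Cx A := Functor.ofSequence (X := fun n => (seq n).E) fun n => ι n (seq n)
  let c : Cocone F := ⟨P, NatTrans.ofSequence (fun n => (seq n).f) fun n => by
    simp only [F, Functor.ofSequence_map_homOfLE_succ]
    exact (hι n (seq n)).trans (Category.comp_id _).symm⟩
  have hev : ∀ (i : ℤ) (n₀ : ℕ), b - n₀ < i →
      (F ⋙ HomologicalComplex.eval _ _ i).IsEventuallyConstantFrom n₀ := fun i n₀ hn₀ => by
    intro j f
    obtain ⟨k, rfl⟩ := Nat.le.dest (leOfHom f)
    obtain rfl : f = homOfLE (Nat.le_add_right _ _) := Subsingleton.elim _ _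
    induction k with
    | zero => exact inferInstanceAs (IsIso ((F ⋙ HomologicalComplex.eval _ _ i).map (𝟙 n₀)))
    | succ k ih =>
      rw [← homOfLE_comp (Nat.le_add_right n₀ k) (Nat.le_succ (n₀ + k)), Functor.map_comp]
      haveI := ih
      haveI : IsIso ((F ⋙ HomologicalComplex.eval _ _ i).map (homOfLE (Nat.le_succ (n₀ + k)))) := by
        simp only [Functor.comp_map, F, Functor.ofSequence_map_homOfLE_succ]
        exact hiso (n₀ + k) (seq (n₀ + k)) i (by push_cast; omega)
      infer_instance
  let f : colimit F ⟶ P := colimit.desc F c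
  have hι' : ∀ (i : ℤ) (n : ℕ), b - n < i → IsIso ((colimit.ι F n).f i) := fun i n hn =>
    (hev i n hn).isIso_ι_of_isColimit
      (isColimitOfPreserves (HomologicalComplex.eval _ _ i) (colimit.isColimit F))
  have hX : ∀ (i : ℤ) (n : ℕ), b - n < i → ((seq n).E.X i ≅ (colimit F).X i) := fun i n hn =>
    @asIso _ _ _ _ ((colimit.ι F n).f i) (hι' i n hn)
  refine ⟨colimit F, f, fun i hi => ((seq 0).vanish i (Or.inr hi)).of_iso
    (hX i 0 (by push_cast; omega)).symm, fun i => ?_, ?_⟩
  · let e := (hX i ((b - i).toNat + 1) (by omega)).toLinearEquiv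
    obtain ⟨h1, h2⟩ := (seq ((b - i).toNat + 1)).free i
    exact ⟨Module.Finite.equiv e, Module.Free.of_equiv e⟩
  have hex : ∀ i, (mappingCone f).ExactAt i := fun i => by
    let n := (b - i).toNat + 2
    let φ := mappingCone.map (seq n).f f (colimit.ι F n) (𝟙 P)
      ((Category.comp_id _).trans (colimit.ι_desc c n).symm)
    have hφ : ∀ j, i - 1 ≤ j → IsIso (φ.f j) := fun j hj =>
      @isIso_cone_map _ _ _ _ _ _ _ _ _ j (hι' (j + 1) n (by omega))
    let e : ∀ j, i - 1 ≤ j → ((mappingCone (seq n).f).X j ≅ (mappingCone f).X j) := fun j hj =>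
      @asIso _ _ _ _ (φ.f j) (hφ j hj)
    have h0 := (seq n).exact i (by omega)
    rw [exactAt_iff' _ (i - 1) i (i + 1) (by simp) (by simp)] at h0 ⊢
    exact (ShortComplex.exact_iff_of_iso (ShortComplex.isoMk (e (i - 1) le_rfl) (e i (by omega))
      (e (i + 1) (by omega)) (φ.comm _ _) (φ.comm _ _))).1 h0
  constructor
  intro i
  have h1 : IsIso ((DerivedCategory.homologyFunctor (ModuleCat.{u} A) i).map
      (DerivedCategory.Q.map f)) :=
    ((cone_exact_iff f (i - 1)).1 fun j _ => hex j).1 i (by omega)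
  rw [quasiIsoAt_iff_isIso_homologyMap]
  exact ((MorphismProperty.isomorphisms (ModuleCat.{u} A)).arrow_mk_iso_iff
    (Arrow.isoMk ((DerivedCategory.homologyFunctorFactors _ i).app _)
      ((DerivedCategory.homologyFunctorFactors _ i).app _)
      (DerivedCategory.homologyFunctorFactors_hom_naturality f i).symm)).1 h1

end GrothLib.DR
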