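import Groth.Agent.Lib.DCxRing.Step
import Groth.Agent.Lib.DCxRing.LBase
import Mathlib.LinearAlgebra.TensorProduct.Quotient

/-!
# Lifting complexes modulo an ideal inside a class of projective modules
-/

set_option autoImplicit false
universe u

open CategoryTheory CategoryTheory.Limits HomologicalComplex TensorProduct

attribute [local instance] HasDerivedCategory.standard

namespace GrothLib.DR

variable {R : Type u} [CommRing R] {I : Ideal R}

/-- An `R/I`-complex over `R`. -/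
noncomputable abbrev res (I : Ideal R) (E : DRing.Cx (R ⧸ I)) : DRing.Cx R :=
  (DRing.restrictCx (Ideal.Quotient.mk I)).obj E

lemma map_smul_top_eq_zero {X : Type u} [AddCommGroup X] [Module R X] {M : ModuleCat.{u} (R ⧸ I)}
    (q : X →ₗ[R] (ModuleCat.restrictScalars (Ideal.Quotient.mk I)).obj M) {x : X}
    (hx : x ∈ I • (⊤ : Submodule R X)) : q x = 0 := by
  refine Submodule.smul_induction_on hx (fun r hr n _ => ?_) (fun a b ha hb => ?_)
  · rw [map_smul]
    show Ideal.Quotient.mk I r • (show M from q n) = 0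
    rw [Ideal.Quotient.eq_zero_iff_mem.2 hr, zero_smul]
  · rw [map_add, ha, hb, add_zero]

/-- A chain map reducing a complex modulo `I`. -/
def IsReduction {P : DRing.Cx R} {E : DRing.Cx (R ⧸ I)} (q : P ⟶ res I E) : Prop :=
  ∀ i, Function.Surjective (q.f i).hom ∧ ∀ x, (q.f i).hom x = 0 → x ∈ I • (⊤ : Submodule R (P.X i))

/-- A reduction gives an isomorphism with the termwise base change. -/
theorem nonempty_bc_iso {P : DRing.Cx R} {E : DRing.Cx (R ⧸ I)} {q : P ⟶ res I E} (hq : IsReduction q) :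
    Nonempty ((bc (Ideal.Quotient.mk I)).obj P ≅ E) := by
  let adj := ModuleCat.extendRestrictScalarsAdj.{u, u} (Ideal.Quotient.mk I)
  let ψ : ∀ i, ((bc (Ideal.Quotient.mk I)).obj P).X i ⟶ E.X i := fun i => (adj.homEquiv _ _).symm (q.f i)
  haveI : ∀ i, IsIso (ψ i) := fun i => by
    refine (ConcreteCategory.isIso_iff_bijective _).2 ⟨(injective_iff_map_eq_zero _).2 ?_, fun e => ?_⟩
    · intro z hz
      letI := (Ideal.Quotient.mk I).toAlgebra
      obtain ⟨x, rfl⟩ := TensorProduct.mk_surjective R (P.X i) (R ⧸ I) Ideal.Quotient.mk_surjective z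
      have h0 : (q.f i).hom x = 0 := (one_smul (R ⧸ I) (show E.X i from (q.f i).hom x)).symm.trans hz
      have h1 : x ∈ LinearMap.ker (TensorProduct.mk R (R ⧸ I) (P.X i) 1) := by
        rw [LinearMap.ker_tensorProductMk]
        exact (hq i).2 x h0
      exact h1
    · obtain ⟨x, hx⟩ := (hq i).1 e
      letI := (Ideal.Quotient.mk I).toAlgebra
      exact ⟨(1 : R ⧸ I) ⊗ₜ[R] x, (one_smul (R ⧸ I) (show E.X i from (q.f i).hom x)).trans hx⟩
  refine ⟨Hom.isoOfComponents (fun i => asIso (ψ i)) fun i j _ => ?_⟩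
  change ψ i ≫ E.d i j = (ModuleCat.extendScalars (Ideal.Quotient.mk I)).map (P.d i j) ≫ ψ j
  exact (adj.homEquiv_naturality_right_symm (q.f i) (E.d i j)).symm.trans ((congrArg _ (q.comm i j)).trans
    (adj.homEquiv_naturality_left_symm (P.d i j) (q.f j)))

/-- The reduction map of a module whose base change is given. -/
theorem exists_reduction_map {X : ModuleCat.{u} R} {M : ModuleCat.{u} (R ⧸ I)}
    (e : TensorProduct R (R ⧸ I) X ≃ₗ[R ⧸ I] M) :
    ∃ q : X →ₗ[R] (ModuleCat.restrictScalars (Ideal.Quotient.mk I)).obj M, Function.Surjective q ∧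
      ∀ x, q x = 0 → x ∈ I • (⊤ : Submodule R X) := by
  refine ⟨
    { toFun := fun x => (e ((1 : R ⧸ I) ⊗ₜ[R] x) : M)
      map_add' := fun x y => by rw [TensorProduct.tmul_add, map_add]; rfl
      map_smul' := fun r x => by
        rw [TensorProduct.tmul_smul, ← algebraMap_smul (R ⧸ I) r ((1 : R ⧸ I) ⊗ₜ[R] x), map_smul]
        rfl }, fun m => ?_, fun x hx => ?_⟩
  · obtain ⟨z, hz⟩ := e.surjective m
    obtain ⟨x, rfl⟩ := TensorProduct.mk_surjective R X (R ⧸ I) Ideal.Quotient.mk_surjective z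
    exact ⟨x, hz⟩
  · rw [← LinearMap.ker_tensorProductMk (I := I) (X : Type u)]
    exact LinearMap.mem_ker.2 (e.map_eq_zero_iff.1 hx)

/-- Splitting along a surjection onto a projective module. -/
theorem exists_equiv_prod_ker {X Y : Type u} [AddCommGroup X] [Module R X] [AddCommGroup Y] [Module R Y]
    [Module.Projective R Y] (g : X →ₗ[R] Y) (hg : Function.Surjective g) :
    Nonempty (X ≃ₗ[R] Y × LinearMap.ker g) ∧
      ∃ r : X →ₗ[R] LinearMap.ker g, ∀ x : LinearMap.ker g, r x = x := by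
  obtain ⟨σ, hσ⟩ := Module.projective_lifting_property g LinearMap.id hg
  have hσ' : ∀ y, g (σ y) = y := LinearMap.congr_fun hσ
  let r : X →ₗ[R] LinearMap.ker g := (LinearMap.id - σ.comp g).codRestrict _ fun x => by simp [hσ']
  have hr : ∀ x : LinearMap.ker g, r x = x := fun x => Subtype.ext (by simp [r, show g x.1 = 0 from x.2])
  refine ⟨⟨LinearEquiv.ofBijective (g.prod r) ⟨(injective_iff_map_eq_zero _).2 fun x hx => ?_, fun z => ?_⟩⟩, r, hr⟩
  · have h1 : g x = 0 := congrArg Prod.fst hx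
    have h2 : r x = ⟨x, h1⟩ := hr ⟨x, h1⟩
    exact congrArg Subtype.val (h2.symm.trans (congrArg Prod.snd hx))
  · refine ⟨σ z.1 + z.2.1, Prod.ext ?_ (Subtype.ext ?_)⟩
    · simp [hσ', show g z.2.1 = 0 from z.2.2]
    · simp [r, hσ', show g z.2.1 = 0 from z.2.2]

variable {Pc : ObjectProperty (ModuleCat.{u} R)} [Pc.IsClosedUnderIsomorphisms]

lemma prop_of_equiv {X Y : Type u} [AddCommGroup X] [Module R X] [AddCommGroup Y] [Module R Y] (e : X ≃ₗ[R] Y)
    (h : Pc (ModuleCat.of R X)) : Pc (ModuleCat.of R Y) :=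
  Pc.prop_of_iso e.toModuleIso h

variable (h1 : ∀ X : ModuleCat.{u} R, Pc X → Module.Projective R X)
  (h2 : ∀ X Y : ModuleCat.{u} R, Pc X → Pc (ModuleCat.of R (X × Y)) → Pc Y)
  (h3 : ∀ (X Y : ModuleCat.{u} R) (f : X ⟶ Y), Pc X → Pc Y →
    LinearMap.range f.hom ⊔ I • (⊤ : Submodule R Y) = ⊤ → Function.Surjective f.hom)

include h1 h2 in
lemma prop_ker {X Y : Type u} [AddCommGroup X] [Module R X] [AddCommGroup Y] [Module R Y]
    (hX : Pc (ModuleCat.of R X)) (hY : Pc (ModuleCat.of R Y)) (g : X →ₗ[R] Y) (hg : Function.Surjective g) :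
    Pc (ModuleCat.of R (LinearMap.ker g)) := by
  haveI : Module.Projective R Y := h1 _ hY
  obtain ⟨⟨e⟩, -⟩ := exists_equiv_prod_ker g hg
  exact h2 (ModuleCat.of R Y) (ModuleCat.of R (LinearMap.ker g)) hY (prop_of_equiv e hX)

include h3 in
lemma eq_zero_of_le {K : Type u} [AddCommGroup K] [Module R K] (hK : Pc (ModuleCat.of R K))
    (h : ∀ k : K, k ∈ I • (⊤ : Submodule R K)) (k : K) : k = 0 := by
  obtain ⟨x, hx⟩ := h3 (ModuleCat.of R K) (ModuleCat.of R K) (ModuleCat.ofHom 0) hK hK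
    (eq_top_iff.2 fun x _ => Submodule.mem_sup_right (h x)) k
  exact hx.symm

section Acyclic

variable {E : DRing.Cx (R ⧸ I)} (hEa : E.Acyclic) (X : ℤ → ModuleCat.{u} R) (hX : ∀ i, Pc (X i))
  (q : ∀ i, X i →ₗ[R] (res I E).X i) (hqs : ∀ i, Function.Surjective (q i))
  (hqk : ∀ i x, q i x = 0 → x ∈ I • (⊤ : Submodule R (X i)))

/-- A direct summand in the class lifting the cycles. -/
def IsGoodCycles (Pc : ObjectProperty (ModuleCat.{u} R)) {E : DRing.Cx (R ⧸ I)} (X : ℤ → ModuleCat.{u} R)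
    (q : ∀ i, X i →ₗ[R] (res I E).X i) (i : ℤ) (Q : Submodule R (X i)) : Prop :=
  Pc (ModuleCat.of R Q) ∧ (∃ r : X i →ₗ[R] Q, ∀ x : Q, r x = x) ∧
    (∀ x ∈ Q, ((res I E).d i (i + 1)).hom (q i x) = 0) ∧
      ∀ e, ((res I E).d i (i + 1)).hom e = 0 → ∃ x ∈ Q, q i x = e

include h1 h3 hEa hqk in
/-- Lifting the differential onto the lifted cycles. -/
theorem exists_lift_onto {i : ℤ} {Q : Submodule R (X (i + 1))} (hQ : IsGoodCycles Pc X q (i + 1) Q)
    {M : Type u} [AddCommGroup M] [Module R M] (hM : Pc (ModuleCat.of R M)) (p : M →ₗ[R] (res I E).X i)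
    (hp : ∀ e, ∃ m, ((res I E).d i (i + 1)).hom (p m) = ((res I E).d i (i + 1)).hom e) :
    ∃ g : M →ₗ[R] Q, Function.Surjective g ∧ ∀ m, q (i + 1) (g m) = ((res I E).d i (i + 1)).hom (p m) := by
  obtain ⟨hQp, ⟨r, hr⟩, hQ1, hQ2⟩ := hQ
  let T := LinearMap.ker ((res I E).d (i + 1) (i + 1 + 1)).hom
  let φ : Q →ₗ[R] T := ((q (i + 1)).comp Q.subtype).codRestrict T fun x => hQ1 x.1 x.2
  have hφ : Function.Surjective φ := fun t => by
    obtain ⟨x, hx, hx'⟩ := hQ2 t.1 t.2
    exact ⟨⟨x, hx⟩, Subtype.ext hx'⟩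
  let ψ : M →ₗ[R] T := (((res I E).d i (i + 1)).hom.comp p).codRestrict T fun m =>
    ConcreteCategory.congr_hom ((res I E).d_comp_d i (i + 1) (i + 1 + 1)) (p m)
  haveI : Module.Projective R M := h1 _ hM
  obtain ⟨g, hg⟩ := Module.projective_lifting_property φ ψ hφ
  have hg' : ∀ m, q (i + 1) (g m) = ((res I E).d i (i + 1)).hom (p m) := fun m =>
    congrArg Subtype.val (LinearMap.congr_fun hg m)
  refine ⟨g, h3 (ModuleCat.of R M) (ModuleCat.of R Q) (ModuleCat.ofHom g) hM hQp (eq_top_iff.2 fun y _ => ?_), hg'⟩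
  obtain ⟨e, he⟩ : ∃ e, ((res I E).d i (i + 1)).hom e = q (i + 1) y.1 :=
    (element_exact (res I E) i (i + 1) (i + 1 + 1) rfl rfl).1
      ((hEa (i + 1)).map (ModuleCat.restrictScalars (Ideal.Quotient.mk I))) _ (hQ1 y.1 y.2)
  obtain ⟨m, hm⟩ := hp e
  refine Submodule.mem_sup.2 ⟨g m, ⟨m, rfl⟩, y - g m, ?_, by abel⟩
  have h0 : (y.1 - (g m).1) ∈ I • (⊤ : Submodule R (X (i + 1))) := hqk _ _ (by rw [map_sub, hg', hm, he, sub_self])
  have h := Submodule.mem_map_of_mem (f := r) h0
  rw [Submodule.map_smul''] at h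
  rw [show y - g m = r (y.1 - (g m).1) by rw [map_sub, hr, hr]]
  exact Submodule.smul_mono le_rfl le_top h

include h1 h2 h3 hEa hqk hqs hX in
theorem exists_goodCycles {b : ℤ} (hEb : DRing.VanishesAbove E b) :
    ∀ i, ∃ Q : Submodule R (X i), IsGoodCycles Pc X q i Q := by
  suffices h : ∀ (n : ℕ) (i : ℤ), b + 1 - i ≤ n → ∃ Q : Submodule R (X i), IsGoodCycles Pc X q i Q from
    fun i => h (b + 1 - i).toNat i (Int.self_le_toNat _)
  intro n
  induction n with
  | zero =>
    intro i hi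
    haveI : Subsingleton ((res I E).X i) := ModuleCat.subsingleton_of_isZero
      ((ModuleCat.restrictScalars (Ideal.Quotient.mk I)).map_isZero (hEb i (by omega)))
    refine ⟨⊤, prop_of_equiv Submodule.topEquiv.symm (hX i), ⟨LinearMap.id.codRestrict ⊤ fun _ => trivial, fun _ => rfl⟩,
      fun x _ => by rw [Subsingleton.elim (q i x) 0, map_zero], fun e _ => ⟨0, trivial, Subsingleton.elim _ _⟩⟩
  | succ n ih =>
    intro i hi
    obtain ⟨Q', hQ'⟩ := ih (i + 1) (by push_cast at hi; omega)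
    obtain ⟨g, hg, hgq⟩ := exists_lift_onto h1 h3 hEa X q hqk hQ' (hX i) (q i) fun e => by
      obtain ⟨x, rfl⟩ := hqs i e
      exact ⟨x, rfl⟩
    haveI : Module.Projective R Q' := h1 _ hQ'.1
    obtain ⟨-, r, hr⟩ := exists_equiv_prod_ker g hg
    refine ⟨LinearMap.ker g, prop_ker h1 h2 (hX i) hQ'.1 g hg, ⟨r, hr⟩, fun x hx => ?_, fun e he => ?_⟩
    · rw [← hgq, show g x = 0 from hx]
      exact map_zero _
    · obtain ⟨x, rfl⟩ := hqs i e
      rw [← hgq] at he
      obtain ⟨r', hr'⟩ := hQ'.2.1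
      have h4 := Submodule.mem_map_of_mem (f := r') (hqk _ _ he)
      rw [hr', Submodule.map_smul''] at h4
      have h5 : g x ∈ I • Submodule.map g ⊤ := by
        rw [Submodule.map_top, LinearMap.range_eq_top.2 hg]
        exact Submodule.smul_mono le_rfl le_top h4
      rw [← Submodule.map_smul''] at h5
      obtain ⟨w, hw, hw'⟩ := h5
      exact ⟨x - w, by rw [LinearMap.mem_ker, map_sub, hw', sub_self],
        by
          have h0 : q i w = 0 := map_smul_top_eq_zero (M := E.X i) (q i) hw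
          rw [map_sub, h0, sub_zero]⟩

end Acyclic

include h1 h2 h3 in
/-- A bounded above acyclic complex lifts within the class. -/
theorem exists_acyclic_lift {E : DRing.Cx (R ⧸ I)} {b : ℤ} (hEb : DRing.VanishesAbove E b) (hEa : E.Acyclic)
    (hEt : ∀ i : ℤ, ∃ X : ModuleCat.{u} R, Pc X ∧ Nonempty (TensorProduct R (R ⧸ I) X ≃ₗ[R ⧸ I] E.X i)) :
    ∃ (P : DRing.Cx R) (q : P ⟶ res I E), IsReduction q ∧ DRing.VanishesAbove P b ∧ P.Acyclic ∧ ∀ i, Pc (P.X i) := by
  choose X hX eX using hEt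
  have hq : ∀ i, ∃ q : X i →ₗ[R] (res I E).X i, Function.Surjective q ∧
      ∀ x, q x = 0 → x ∈ I • (⊤ : Submodule R (X i)) := fun i => exists_reduction_map (eX i).some
  choose q hqs hqk using hq
  choose Q hQ using exists_goodCycles h1 h2 h3 hEa X hX q hqs hqk hEb
  choose r hr using fun i => (hQ i).2.1
  have hstep : ∀ i, ∃ d : X i →ₗ[R] X (i + 1), LinearMap.ker d = Q i ∧ LinearMap.range d = Q (i + 1) ∧
      ∀ x, q (i + 1) (d x) = ((res I E).d i (i + 1)).hom (q i x) := fun i => by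
    let C := LinearMap.ker (r i)
    have hrs : Function.Surjective (r i) := fun y => ⟨y.1, hr i y⟩
    have hC : Pc (ModuleCat.of R C) := prop_ker h1 h2 (hX i) (hQ i).1 (r i) hrs
    let π : X i →ₗ[R] C := (LinearMap.id - (Q i).subtype.comp (r i)).codRestrict C fun x => by simp [C, hr]
    have hπ : ∀ x, (π x).1 = x - (r i x).1 := fun x => rfl
    have hπC : ∀ c : C, π c = c := fun c => Subtype.ext (by simp [hπ, show r i c.1 = 0 from c.2])
    have hdq : ∀ x, ((res I E).d i (i + 1)).hom (q i (π x).1) = ((res I E).d i (i + 1)).hom (q i x) := fun x => by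
      rw [hπ, map_sub, map_sub, (hQ i).2.2.1 _ (r i x).2, sub_zero]
    obtain ⟨g, hg, hgq⟩ := exists_lift_onto h1 h3 hEa X q hqk (hQ (i + 1)) hC ((q i).comp C.subtype) fun e => by
      obtain ⟨x, rfl⟩ := hqs i e
      exact ⟨π x, hdq x⟩
    haveI : Module.Projective R (Q (i + 1)) := h1 _ (hQ (i + 1)).1
    have hK : Pc (ModuleCat.of R (LinearMap.ker g)) := prop_ker h1 h2 hC (hQ (i + 1)).1 g hg
    obtain ⟨-, rK, hrK⟩ := exists_equiv_prod_ker g hg
    have hK0 : ∀ k : LinearMap.ker g, k = 0 := eq_zero_of_le h3 hK fun k => by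
      have h0 : ((res I E).d i (i + 1)).hom (q i k.1.1) = 0 := (hgq k.1).symm.trans (by
        rw [show g k.1 = 0 from k.2]
        exact map_zero _)
      obtain ⟨y, hy, hy'⟩ := (hQ i).2.2.2 _ h0
      have h := Submodule.mem_map_of_mem (f := rK.comp π) (hqk i (k.1.1 - y) (by rw [map_sub, hy', sub_self]))
      rw [Submodule.map_smul''] at h
      have hy0 : π y = 0 := Subtype.ext (by rw [hπ, show r i y = ⟨y, hy⟩ from hr i ⟨y, hy⟩]; simp)
      rw [LinearMap.comp_apply, map_sub, hy0, sub_zero, hπC, hrK] at h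
      exact Submodule.smul_mono le_rfl le_top h
    refine ⟨((Q (i + 1)).subtype.comp g).comp π, ?_, ?_, fun x => ?_⟩
    · ext x
      simp only [LinearMap.mem_ker, LinearMap.comp_apply, Submodule.subtype_apply, ZeroMemClass.coe_eq_zero]
      refine ⟨fun hx => ?_, fun hx => ?_⟩
      · have h := congrArg Subtype.val (congrArg Subtype.val (hK0 ⟨π x, hx⟩))
        change (π x).1 = 0 at h
        rw [hπ, sub_eq_zero] at h
        rw [h]
        exact (r i x).2
      · rw [show π x = 0 from Subtype.ext (by rw [hπ, show r i x = ⟨x, hx⟩ from hr i ⟨x, hx⟩]; simp), map_zero]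
    · rw [LinearMap.range_comp, LinearMap.range_eq_top.2 (fun c => ⟨c.1, hπC c⟩), Submodule.map_top,
        LinearMap.range_comp, LinearMap.range_eq_top.2 hg, Submodule.map_top, Submodule.range_subtype]
    · exact (hgq (π x)).trans (hdq x)
  choose d hdker hdrange hdq using hstep
  let P : DRing.Cx R := CochainComplex.of X (fun i => ModuleCat.ofHom (d i)) fun i =>
    ModuleCat.hom_ext (LinearMap.ext fun x => (show d (i + 1) (d i x) = 0 from LinearMap.mem_ker.1 (by
      rw [hdker, ← hdrange]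
      exact ⟨x, rfl⟩)))
  let φ : P ⟶ res I E :=
    { f := fun i => ModuleCat.ofHom (X := X i) (Y := (res I E).X i) (q i)
      comm' := fun i j hij => by
        obtain rfl : i + 1 = j := hij
        dsimp only [P]
        rw [CochainComplex.of_d]
        ext x
        exact (hdq i x).symm }
  refine ⟨P, φ, fun i => ⟨hqs i, hqk i⟩, fun i hi => ?_, fun i => ?_, hX⟩
  · haveI : Subsingleton ((res I E).X i) := ModuleCat.subsingleton_of_isZero
      ((ModuleCat.restrictScalars (Ideal.Quotient.mk I)).map_isZero (hEb i hi))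
    have h0 : ∀ x : X i, x = 0 := eq_zero_of_le h3 (hX i) fun x => hqk i x (Subsingleton.elim _ _)
    exact @ModuleCat.isZero_of_subsingleton _ _ (P.X i) ⟨fun a c => (h0 a).trans (h0 c).symm⟩
  · rw [element_exact P (i - 1) i (i + 1) (by omega) rfl]
    have key : ∀ j, j + 1 = i → ∀ x, (P.d i (i + 1)).hom x = 0 → ∃ y, (P.d j i).hom y = x := by
      rintro j rfl x hx
      dsimp only [P] at hx ⊢
      rw [CochainComplex.of_d] at hx ⊢
      have h : x ∈ LinearMap.range (d j) := by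
        rw [hdrange, ← hdker]
        exact hx
      exact h
    exact key (i - 1) (by omega)

end GrothLib.DR
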