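import Groth.Agent.Lib.DCxRing.ClassRep
import Mathlib.RingTheory.Nakayama
import Mathlib.RingTheory.TensorProduct.IsBaseChangeHom
import Mathlib.Algebra.Module.StablyFree.Basic

/-!
# Classes of finite projective modules for lifting along the Jacobson radical
-/

set_option autoImplicit false
universe u

open CategoryTheory CategoryTheory.Limits HomologicalComplex TensorProduct

attribute [local instance] HasDerivedCategory.standard

namespace GrothLib.DR

variable {R : Type u} [CommRing R] {I : Ideal R}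

/-- A surjective map with kernel in `I X` identifies `(R/I) ⊗ X`. -/
theorem nonempty_tensor_equiv {X M : Type u} [AddCommGroup X] [Module R X] [AddCommGroup M] [Module (R ⧸ I) M]
    (q : X →+ M) (hq : ∀ (r : R) x, q (r • x) = Ideal.Quotient.mk I r • q x) (hs : Function.Surjective q)
    (hk : ∀ x, q x = 0 → x ∈ I • (⊤ : Submodule R X)) :
    Nonempty (TensorProduct R (R ⧸ I) X ≃ₗ[R ⧸ I] M) := by
  letI : Module R M := Module.compHom M (Ideal.Quotient.mk I)
  haveI : IsScalarTower R (R ⧸ I) M := ⟨fun r s m => by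
    obtain ⟨s, rfl⟩ := Ideal.Quotient.mk_surjective s
    show Ideal.Quotient.mk I (r * s) • m = Ideal.Quotient.mk I r • Ideal.Quotient.mk I s • m
    rw [map_mul, mul_smul]⟩
  let ql : X →ₗ[R] M := { q with map_smul' := hq }
  refine ⟨LinearEquiv.ofBijective (ql.liftBaseChange (R ⧸ I)) ⟨(injective_iff_map_eq_zero _).2 fun z hz => ?_, fun m => ?_⟩⟩
  · obtain ⟨x, rfl⟩ := TensorProduct.mk_surjective R X (R ⧸ I) Ideal.Quotient.mk_surjective z
    rw [TensorProduct.mk_apply, LinearMap.liftBaseChange_tmul, one_smul] at hz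
    have h : x ∈ LinearMap.ker (TensorProduct.mk R (R ⧸ I) X 1) := by
      rw [LinearMap.ker_tensorProductMk]
      exact hk x hz
    exact h
  · obtain ⟨x, hx⟩ := hs m
    exact ⟨1 ⊗ₜ[R] x, by rw [LinearMap.liftBaseChange_tmul, one_smul]; exact hx⟩

/-- Surjectivity modulo an ideal in the Jacobson radical. -/
theorem surjective_of_jacobson (hI : I ≤ Ideal.jacobson (⊥ : Ideal R)) {X Y : Type u} [AddCommGroup X] [Module R X]
    [AddCommGroup Y] [Module R Y] [Module.Finite R Y] (f : X →ₗ[R] Y)
    (h : LinearMap.range f ⊔ I • (⊤ : Submodule R Y) = ⊤) : Function.Surjective f :=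
  LinearMap.range_eq_top.1 (top_le_iff.1
    (Submodule.le_of_le_smul_of_le_jacobson_bot Module.Finite.fg_top hI h.ge))

variable (R) in
/-- Finite projective modules. -/
def finProj : ObjectProperty (ModuleCat.{u} R) := fun X => Module.Finite R X ∧ Module.Projective R X

instance : (finProj R).IsClosedUnderIsomorphisms where
  of_iso e h := by
    haveI := h.1; haveI := h.2
    exact ⟨Module.Finite.equiv e.toLinearEquiv, Module.Projective.of_equiv e.toLinearEquiv⟩

lemma finProj_iff (X Y : ModuleCat.{u} R) (hX : finProj R X) :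
    finProj R (ModuleCat.of R (X × Y)) ↔ finProj R Y := by
  haveI := hX.1; haveI := hX.2
  refine ⟨fun h => ?_, fun h => ?_⟩
  · haveI : Module.Finite R (X × Y) := h.1
    haveI : Module.Projective R (X × Y) := h.2
    exact ⟨Module.Finite.of_surjective (LinearMap.snd R X Y) fun y => ⟨(0, y), rfl⟩,
      Module.Projective.of_split (LinearMap.inr R X Y) (LinearMap.snd R X Y) (LinearMap.ext fun _ => rfl)⟩
  · haveI := h.1; haveI := h.2
    exact ⟨inferInstanceAs (Module.Finite R (X × Y)), inferInstanceAs (Module.Projective R (X × Y))⟩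

/-- A finite projective module free modulo the Jacobson radical is free. -/
theorem free_of_jacobson (hI : I ≤ Ideal.jacobson (⊥ : Ideal R)) (P : Type u) [AddCommGroup P] [Module R P]
    [Module.Finite R P] [Module.Projective R P] (h : Module.Free (R ⧸ I) (TensorProduct R (R ⧸ I) P)) :
    Module.Free R P := by
  rcases subsingleton_or_nontrivial (R ⧸ I) with hR | hR
  · haveI : Subsingleton R := by
      rw [Ideal.Quotient.subsingleton_iff] at hR
      have h1 : (1 : R) ∈ Ideal.jacobson (⊥ : Ideal R) := hI (hR ▸ trivial)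
      have h2 := Ideal.mem_jacobson_bot.1 h1 (-1)
      rw [mul_neg_one, neg_add_cancel, isUnit_zero_iff] at h2
      exact subsingleton_of_zero_eq_one h2
    haveI : Subsingleton P := Module.subsingleton R P
    exact Module.Free.of_subsingleton R P
  let b := Module.Free.chooseBasis (R ⧸ I) (TensorProduct R (R ⧸ I) P)
  let ι := Module.Free.ChooseBasisIndex (R ⧸ I) (TensorProduct R (R ⧸ I) P)
  let mkP : P →ₗ[R] TensorProduct R (R ⧸ I) P := TensorProduct.mk R (R ⧸ I) P 1
  let mkF : (ι → R) →ₗ[R] (ι → R ⧸ I) := (Algebra.linearMap R (R ⧸ I)).compLeft ι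
  have hsP : Function.Surjective mkP := TensorProduct.mk_surjective R P (R ⧸ I) Ideal.Quotient.mk_surjective
  have hsF : Function.Surjective mkF := Function.Surjective.comp_left Ideal.Quotient.mk_surjective
  let φ : TensorProduct R (R ⧸ I) P ≃ₗ[R] (ι → R ⧸ I) := b.equivFun.restrictScalars R
  obtain ⟨g, hg⟩ := Module.projective_lifting_property mkF (φ.toLinearMap.comp mkP) hsF
  obtain ⟨f, hf⟩ := Module.projective_lifting_property mkP (φ.symm.toLinearMap.comp mkF) hsP
  have hg' : ∀ x, mkF (g x) = φ (mkP x) := LinearMap.congr_fun hg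
  have hf' : ∀ x, mkP (f x) = φ.symm (mkF x) := LinearMap.congr_fun hf
  have hkP : ∀ x, mkP x = 0 → x ∈ I • (⊤ : Submodule R P) := fun x hx => by
    rw [← LinearMap.ker_tensorProductMk (I := I) P]
    exact hx
  have hkF : ∀ x, mkF x = 0 → x ∈ I • (⊤ : Submodule R (ι → R)) := fun x hx => by
    classical
    rw [show x = ∑ k, x k • (Pi.single k (1 : R) : ι → R) from funext fun i => by simp [Pi.single_apply]]
    exact sum_mem fun k _ => Submodule.smul_mem_smul (Ideal.Quotient.eq_zero_iff_mem.1 (congrFun hx k)) trivial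
  have hh2 : ∀ X Y : ModuleCat.{u} R, finProj R X → (finProj R (ModuleCat.of R (X × Y)) ↔ finProj R Y) := finProj_iff
  have hh3 : ∀ (X Y : ModuleCat.{u} R) (f : X ⟶ Y), finProj R X → finProj R Y →
      LinearMap.range f.hom ⊔ I • (⊤ : Submodule R Y) = ⊤ → Function.Surjective f.hom := fun X Y f _ hY hr =>
    haveI := hY.1
    surjective_of_jacobson hI f.hom hr
  have b1 : Function.Bijective (f.comp g) :=
    bijective_of_congr (fun X hX => hX.2) hh2 hh3
      (⟨inferInstanceAs (Module.Finite R P), inferInstanceAs (Module.Projective R P)⟩ : finProj R (ModuleCat.of R P))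
      (f.comp g) fun x => hkP _ (by rw [map_sub, LinearMap.comp_apply, hf', hg', LinearEquiv.symm_apply_apply, sub_self])
  have b2 : Function.Bijective (g.comp f) :=
    bijective_of_congr (fun X hX => hX.2) hh2 hh3
      (⟨inferInstanceAs (Module.Finite R (ι → R)), inferInstanceAs (Module.Projective R (ι → R))⟩ :
        finProj R (ModuleCat.of R (ι → R)))
      (g.comp f) fun x => hkF _ (by rw [map_sub, LinearMap.comp_apply, hg', hf', LinearEquiv.apply_symm_apply, sub_self])
  rw [LinearMap.coe_comp] at b1 b2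
  exact Module.Free.of_equiv
    (LinearEquiv.ofBijective f ⟨b2.1.of_comp, Function.Surjective.of_comp b1.2⟩)

variable (R) in
/-- Finite stably free modules. -/
def finStablyFree : ObjectProperty (ModuleCat.{u} R) := fun X => Module.Finite R X ∧ Module.IsStablyFree R X

instance : (finStablyFree R).IsClosedUnderIsomorphisms where
  of_iso e h := by
    haveI := h.1; haveI := h.2
    exact ⟨Module.Finite.equiv e.toLinearEquiv, Module.IsStablyFree.equiv e.toLinearEquiv⟩

lemma projective_of_stablyFree {X : Type u} [AddCommGroup X] [Module R X] [Module.IsStablyFree R X] :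
    Module.Projective R X := by
  obtain ⟨N, _, _, _, _, _⟩ := Module.IsStablyFree.exist_free_prod R X
  exact Module.Projective.of_split (LinearMap.inl R X N) (LinearMap.fst R X N) (LinearMap.ext fun _ => rfl)

lemma finStablyFree_iff (X Y : ModuleCat.{u} R) (hX : finStablyFree R X) :
    finStablyFree R (ModuleCat.of R (X × Y)) ↔ finStablyFree R Y := by
  haveI := hX.1; haveI := hX.2
  obtain ⟨N, _, _, _, _, _⟩ := Module.IsStablyFree.exist_free_prod R X
  refine ⟨fun h => ?_, fun h => ?_⟩
  · haveI : Module.Finite R (X × Y) := h.1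
    haveI : Module.IsStablyFree R (X × Y) := h.2
    obtain ⟨M, _, _, _, _, _⟩ := Module.IsStablyFree.exist_free_prod R (X × Y)
    refine ⟨Module.Finite.of_surjective (LinearMap.snd R X Y) fun y => ⟨(0, y), rfl⟩, ?_⟩
    haveI : Module.Free R (Y × ((X × N) × M)) := Module.Free.of_equiv
      (show (((X × Y) × M) × N) ≃ₗ[R] Y × ((X × N) × M) from
        { toFun := fun z => (z.1.1.2, ((z.1.1.1, z.2), z.1.2))
          invFun := fun z => (((z.2.1.1, z.1), z.2.2), z.2.1.2)
          map_add' := fun _ _ => rfl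
          map_smul' := fun _ _ => rfl })
    exact Module.IsStablyFree.of_free_prod R Y ((X × N) × M)
  · haveI := h.1; haveI := h.2
    obtain ⟨M, _, _, _, _, _⟩ := Module.IsStablyFree.exist_free_prod R Y
    refine ⟨inferInstanceAs (Module.Finite R (X × Y)), ?_⟩
    haveI : Module.Free R ((X × Y) × (N × M)) :=
      Module.Free.of_equiv (LinearEquiv.prodProdProdComm R X N Y M)
    exact Module.IsStablyFree.of_free_prod R (X × Y) (N × M)

/-- A finite stably free module lifts along the Jacobson radical. -/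
theorem exists_stablyFree_lift (hI : I ≤ Ideal.jacobson (⊥ : Ideal R)) (E : Type u) [AddCommGroup E]
    [Module (R ⧸ I) E] [Module.Finite (R ⧸ I) E] [Module.IsStablyFree (R ⧸ I) E] :
    ∃ X : ModuleCat.{u} R, finStablyFree R X ∧ Nonempty (TensorProduct R (R ⧸ I) X ≃ₗ[R ⧸ I] E) := by
  obtain ⟨N, _, _, _, _, _⟩ := Module.IsStablyFree.exist_free_prod (R ⧸ I) E
  haveI : Module.Finite (R ⧸ I) (E × N) := inferInstance
  let ιm := Module.Free.ChooseBasisIndex (R ⧸ I) (E × N)
  let ιn := Module.Free.ChooseBasisIndex (R ⧸ I) N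
  let bm := (Module.Free.chooseBasis (R ⧸ I) (E × N)).equivFun
  let bn := (Module.Free.chooseBasis (R ⧸ I) N).equivFun
  let π₀ : (ιm → R) →ₗ[R] (ιm → R ⧸ I) := (Algebra.linearMap R (R ⧸ I)).compLeft ιm
  let σ₀ : (ιn → R) →ₗ[R] (ιn → R ⧸ I) := (Algebra.linearMap R (R ⧸ I)).compLeft ιn
  have hπ₀ : Function.Surjective π₀ := Function.Surjective.comp_left Ideal.Quotient.mk_surjective
  have hσ₀ : Function.Surjective σ₀ := Function.Surjective.comp_left Ideal.Quotient.mk_surjective
  let ρ : (ιm → R ⧸ I) →ₗ[R ⧸ I] (ιn → R ⧸ I) :=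
    bn.toLinearMap.comp ((LinearMap.snd (R ⧸ I) E N).comp bm.symm.toLinearMap)
  obtain ⟨π, hπ⟩ := Module.projective_lifting_property σ₀ ((ρ.restrictScalars R).comp π₀) hσ₀
  have hπ' : ∀ z, σ₀ (π z) = ρ (π₀ z) := LinearMap.congr_fun hπ
  have hkσ : ∀ y, σ₀ y = 0 → y ∈ I • (⊤ : Submodule R (ιn → R)) := fun x hx => by
    classical
    rw [show x = ∑ k, x k • (Pi.single k (1 : R) : ιn → R) from funext fun i => by simp [Pi.single_apply]]
    exact sum_mem fun k _ => Submodule.smul_mem_smul (Ideal.Quotient.eq_zero_iff_mem.1 (congrFun hx k)) trivial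
  have hπs : Function.Surjective π := surjective_of_jacobson hI π (eq_top_iff.2 fun y _ => by
    obtain ⟨z, hz⟩ := hπ₀ (bm (0, bn.symm (σ₀ y)))
    refine Submodule.mem_sup.2 ⟨π z, ⟨z, rfl⟩, y - π z, hkσ _ ?_, by abel⟩
    rw [map_sub, hπ', hz]
    simp [ρ])
  obtain ⟨⟨e⟩, r, hr⟩ := exists_equiv_prod_ker π hπs
  refine ⟨ModuleCat.of R (LinearMap.ker π), ⟨?_, ?_⟩, ?_⟩
  · exact Module.Finite.of_surjective r fun x => ⟨x.1, hr x⟩
  · haveI : Module.Free R ((ιn → R) × LinearMap.ker π) := Module.Free.of_equiv e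
    exact Module.IsStablyFree.of_free_prod' R (LinearMap.ker π) (ιn → R)
  · let q : LinearMap.ker π →+ E :=
      ((LinearMap.fst (R ⧸ I) E N).comp bm.symm.toLinearMap).toAddMonoidHom.comp (π₀.comp (LinearMap.ker π).subtype).toAddMonoidHom
    have hq : ∀ x, q x = (bm.symm (π₀ x.1)).1 := fun x => rfl
    have hsnd : ∀ x : LinearMap.ker π, (bm.symm (π₀ x.1)).2 = 0 := fun x => by
      have h := hπ' x.1
      rw [show π x.1 = 0 from x.2, map_zero] at h
      exact bn.map_eq_zero_iff.1 h.symm
    refine nonempty_tensor_equiv q (fun r x => ?_) (fun v => ?_) fun x hx => ?_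
    · rw [hq, hq, Submodule.coe_smul, map_smul, ← algebraMap_smul (R ⧸ I) r (π₀ x.1), map_smul, Prod.smul_fst]
      rfl
    · obtain ⟨z, hz⟩ := hπ₀ (bm (v, 0))
      have h0 : σ₀ (π z) = 0 := by
        rw [hπ', hz]
        simp [ρ]
      have hmem : π z ∈ (I • (⊤ : Submodule R (ιm → R))).map π := by
        rw [Submodule.map_smul'', Submodule.map_top, LinearMap.range_eq_top.2 hπs]
        exact hkσ _ h0
      obtain ⟨w, hw, hw'⟩ := hmem
      refine ⟨⟨z - w, by rw [LinearMap.mem_ker, map_sub, hw', sub_self]⟩, ?_⟩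
      have hw0 : π₀ w = 0 := by
        refine Submodule.smul_induction_on hw (fun a ha n _ => ?_) (fun a b ha hb => by rw [map_add, ha, hb, add_zero])
        funext k
        show Ideal.Quotient.mk I (a * n k) = 0
        exact Ideal.Quotient.eq_zero_iff_mem.2 (I.mul_mem_right _ ha)
      rw [hq, map_sub, hw0, sub_zero, hz, LinearEquiv.symm_apply_apply]
    · have hx0 : π₀ x.1 = 0 := bm.symm.map_eq_zero_iff.1 (Prod.ext hx (hsnd x))
      have hmem : x.1 ∈ I • (⊤ : Submodule R (ιm → R)) := by
        classical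
        rw [show x.1 = ∑ k, x.1 k • (Pi.single k (1 : R) : ιm → R) from funext fun i => by simp [Pi.single_apply]]
        exact sum_mem fun k _ => Submodule.smul_mem_smul (Ideal.Quotient.eq_zero_iff_mem.1 (congrFun hx0 k)) trivial
      have h' := Submodule.mem_map_of_mem (f := r) hmem
      rw [Submodule.map_smul'', hr] at h'
      exact Submodule.smul_mono le_rfl le_top h'

end GrothLib.DR
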