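import Groth.Agent.Lib.DCxRing.Basic

/-!
# Killing one cohomology module of a cone by a finite free module
-/

universe u

open CategoryTheory Limits HomologicalComplex CochainComplex CochainComplex.HomComplex

attribute [local instance] HasDerivedCategory.standard

namespace GrothLib.DR

variable {A : Type u} [CommRing A]

lemma element_exact (K : DRing.Cx A) (i j k : ℤ) (hij : i + 1 = j) (hjk : j + 1 = k) :
    K.ExactAt j ↔ ∀ x : K.X j, (K.d j k).hom x = 0 → ∃ y : K.X i, (K.d i j).hom y = x := by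
  rw [exactAt_iff' K i j k (by simp; omega) (by simp; omega), ShortComplex.moduleCat_exact_iff]
  rfl

/-- A finite homology module is generated by finitely many cycles. -/
lemma exists_cycles (K : DRing.Cx A) (i j k : ℤ) (hij : i + 1 = j) (hjk : j + 1 = k)
    (h : Module.Finite A (K.homology j)) :
    ∃ (r : ℕ) (G : ModuleCat.of A (Fin r → A) ⟶ K.X j), G ≫ K.d j k = 0 ∧
      ∀ x : K.X j, (K.d j k).hom x = 0 →
        ∃ (a : Fin r → A) (w : K.X i), x = G.hom a + (K.d i j).hom w := by
  let S := K.sc' i j k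
  let e : K.homology j ≅ S.homology := ShortComplex.homologyMapIso
    (K.isoSc' i j k (by simp; omega) (by simp; omega))
  let q := (LinearMap.range S.moduleCatToCycles).mkQ
  haveI : Module.Finite A (↥(LinearMap.ker S.g.hom) ⧸ LinearMap.range S.moduleCatToCycles) :=
    Module.Finite.equiv (e ≪≫ S.moduleCatHomologyIso).toLinearEquiv
  obtain ⟨r, π, hπ⟩ := Module.Finite.exists_fin' A
    (↥(LinearMap.ker S.g.hom) ⧸ LinearMap.range S.moduleCatToCycles)
  obtain ⟨G, hG⟩ := Module.projective_lifting_property q π (Submodule.mkQ_surjective _)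
  refine ⟨r, ModuleCat.ofHom ((LinearMap.ker S.g.hom).subtype.comp G), ?_, fun x hx => ?_⟩
  · ext a
    exact (G _).2
  · obtain ⟨a, ha⟩ := hπ (q ⟨x, hx⟩)
    have h0 : q (⟨x, hx⟩ - G a) = 0 := by
      rw [map_sub, ← LinearMap.comp_apply, hG, ha, sub_self]
    obtain ⟨w, hw⟩ := (Submodule.Quotient.mk_eq_zero _).1 h0
    exact ⟨a, w, (eq_add_of_sub_eq' (congrArg Subtype.val hw).symm)⟩

lemma finiteFree_single (r : ℕ) (m : ℤ) :
    DRing.TermwiseFiniteFree
      ((HomologicalComplex.single (ModuleCat.{u} A) (ComplexShape.up ℤ) m).obj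
        (ModuleCat.of A (Fin r → A))) := fun i => by
  by_cases h : i = m
  · subst h
    let e := (singleObjXSelf (ComplexShape.up ℤ) i (ModuleCat.of A (Fin r → A))).toLinearEquiv.symm
    exact ⟨Module.Finite.equiv e, Module.Free.of_equiv e⟩
  · haveI := ModuleCat.subsingleton_of_isZero
      (isZero_single_obj_X (ComplexShape.up ℤ) m (ModuleCat.of A (Fin r → A)) i h)
    exact ⟨inferInstance, inferInstance⟩

lemma finiteFree_cone {F E : DRing.Cx A} (g : F ⟶ E) (hF : DRing.TermwiseFiniteFree F)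
    (hE : DRing.TermwiseFiniteFree E) : DRing.TermwiseFiniteFree (mappingCone g) := fun i => by
  let e : (F.X (i + 1) × E.X i) ≃ₗ[A] (mappingCone g).X i :=
    ((homotopyCofiber.XIsoBiprod g i (i + 1) (by simp)) ≪≫
      ModuleCat.biprodIsoProd _ _).toLinearEquiv.symm
  haveI := (hF (i + 1)).1
  haveI := (hF (i + 1)).2
  haveI := (hE i).1
  haveI := (hE i).2
  exact ⟨Module.Finite.equiv e, Module.Free.of_equiv e⟩

lemma isZero_cone_X {F E : DRing.Cx A} (g : F ⟶ E) {i : ℤ} (hF : IsZero (F.X (i + 1)))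
    (hE : IsZero (E.X i)) : IsZero ((mappingCone g).X i) :=
  ((biprod_isZero_iff _ _).2 ⟨hF, hE⟩).of_iso (homotopyCofiber.XIsoBiprod g i (i + 1) (by simp))

/-- If the cone of `f : E ⟶ P` is exact from degree `m` on and its cohomology in degree `m - 1`
is finite, then `f` extends to a cone `E ⊕ F[1-m]` with cone exact from degree `m - 1` on. -/
theorem exists_step {P E : DRing.Cx A} {b : ℤ} (f : E ⟶ P) (m : ℤ) (hm : m ≤ b + 1)
    (hEv : DRing.VanishesOutside E m b) (hEf : DRing.TermwiseFiniteFree E)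
    (hex : ∀ i, m ≤ i → (mappingCone f).ExactAt i)
    (hfin : Module.Finite A ((mappingCone f).homology (m - 1))) :
    ∃ (E' : DRing.Cx A) (ι : E ⟶ E') (f' : E' ⟶ P), ι ≫ f' = f ∧
      DRing.VanishesOutside E' (m - 1) b ∧ DRing.TermwiseFiniteFree E' ∧
      (∀ i, i ≠ m - 1 → IsIso (ι.f i)) ∧ ∀ i, m - 1 ≤ i → (mappingCone f').ExactAt i := by
  obtain ⟨r, G, hG, hgen⟩ := exists_cycles (mappingCone f) (m - 2) (m - 1) m (by omega) (by omega) hfin
  let e : ModuleCat.of A (Fin r → A) ⟶ E.X m :=
    G ≫ (mappingCone.fst f).1.v (m - 1) m (by omega)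
  let p : ModuleCat.of A (Fin r → A) ⟶ P.X (m - 1) :=
    G ≫ (mappingCone.snd f).v (m - 1) (m - 1) (add_zero _)
  have he : e ≫ E.d m (m + 1) = 0 := by
    have h := mappingCone.d_fst_v f (m - 1) m (m + 1) (by omega) rfl
    have h' := congrArg (G ≫ ·) h
    simp only [reassoc_of% hG, zero_comp, Preadditive.comp_neg] at h'
    simp only [e, Category.assoc]
    rw [← neg_eq_zero]
    simpa using h'.symm
  have hp : e ≫ f.f m + p ≫ P.d (m - 1) m = 0 := by
    have h' := congrArg (G ≫ ·) (mappingCone.d_snd_v f (m - 1) m (by omega))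
    simp only [reassoc_of% hG, zero_comp, Preadditive.comp_add] at h'
    simpa [e, p] using h'.symm
  let F : ModuleCat.{u} A := ModuleCat.of A (Fin r → A)
  let S := (HomologicalComplex.single (ModuleCat.{u} A) (ComplexShape.up ℤ) m).obj F
  let s := singleObjXSelf (ComplexShape.up ℤ) m F
  have hS : ∀ j, j ≠ m → IsZero (S.X j) := fun j hj =>
    isZero_single_obj_X (ComplexShape.up ℤ) m F j hj
  let g : S ⟶ E := mkHomFromSingle e fun k hk => by
    obtain rfl : m + 1 = k := hk
    exact he
  let α : Cochain S P (-1) := Cochain.mk fun i j hij =>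
    if h : i = m then
      eqToHom (by rw [h]) ≫ s.hom ≫ (-p) ≫ eqToHom (by rw [show j = m - 1 by omega])
    else 0
  have hα : α.v m (m - 1) (by omega) = s.hom ≫ (-p) := by
    simp [α, Cochain.mk_v]
  have hg : g.f m = s.hom ≫ e := mkHomFromSingle_f _ _
  have eq : δ (-1) 0 α = Cochain.ofHom (g ≫ f) := by
    refine Cochain.ext _ _ fun i j hij => ?_
    obtain rfl : i = j := by omega
    by_cases h : i = m
    · subst h
      rw [δ_v (-1) 0 (by omega) α i i _ (i - 1) (i + 1) rfl rfl, Cochain.ofHom_v, comp_f, hg, hα,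
        (hS (i + 1) (by omega)).eq_of_tgt (S.d i (i + 1)) 0, zero_comp, smul_zero, add_zero]
      simp only [Category.assoc, Preadditive.comp_neg, Preadditive.neg_comp]
      rw [← Preadditive.comp_neg, neg_eq_of_add_eq_zero_left hp]
    · exact (hS i h).eq_of_src _ _
  refine ⟨mappingCone g, mappingCone.inr g, mappingCone.desc g α f eq, mappingCone.inr_desc g α f eq,
    fun i hi => isZero_cone_X g (hS _ (by omega)) (hEv i (by omega)),
    finiteFree_cone g (finiteFree_single r m) hEf, fun i hi => ?_, fun i hi => ?_⟩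
  · have hz := hS (i + 1) (by omega)
    refine ⟨(mappingCone.snd g).v i i (add_zero i), mappingCone.inr_f_snd_v g i, ?_⟩
    have hid := mappingCone.id_X g i (i + 1) rfl
    rwa [hz.eq_of_tgt ((mappingCone.fst g).1.v i (i + 1) rfl) 0, zero_comp, zero_add] at hid
  -- exactness of the new cone
  set f' := mappingCone.desc g α f eq with hf'
  let φ : mappingCone f ⟶ mappingCone f' :=
    mappingCone.map f f' (mappingCone.inr g) (𝟙 P) (by simp [hf'])
  have hφl : ∀ j k (h : j + (-1) = k), (mappingCone.inl f).v j k h ≫ φ.f k =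
      (mappingCone.inr g).f j ≫ (mappingCone.inl f').v j k h := fun j k h => by
    simp [φ, mappingCone.map]
  have hφr : ∀ k, (mappingCone.inr f).f k ≫ φ.f k = (mappingCone.inr f').f k := fun k => by
    simp [φ, mappingCone.map]
  have hGφ : G ≫ φ.f (m - 1) = (-(s.inv ≫ (mappingCone.inl g).v m (m - 1) (by omega) ≫
      (mappingCone.inl f').v (m - 1) (m - 2) (by omega))) ≫
      (mappingCone f').d (m - 2) (m - 1) := by
    have h1 := mappingCone.inl_v_d f' (m - 1) (m - 2) m (by omega) (by omega)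
    have h2 := mappingCone.inl_v_d g m (m - 1) (m + 1) (by omega) (by omega)
    have hG' : G = e ≫ (mappingCone.inl f).v m (m - 1) (by omega) +
        p ≫ (mappingCone.inr f).f (m - 1) := by
      conv_lhs => rw [← Category.comp_id G, ← mappingCone.id_X f (m - 1) m (by omega)]
      simp [e, p, Preadditive.comp_add]
    have h4 : (mappingCone.inl g).v m (m - 1) (by omega) ≫ f'.f (m - 1) = s.hom ≫ (-p) :=
      (mappingCone.inl_v_desc_f g α f eq m (m - 1) (by omega)).trans hα
    rw [Preadditive.neg_comp, Category.assoc, Category.assoc, h1, Preadditive.comp_sub,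
      Preadditive.comp_sub, ← Category.assoc ((mappingCone.inl g).v m (m - 1) _) (f'.f (m - 1)),
      h4, ← Category.assoc ((mappingCone.inl g).v m (m - 1) _) _ _,
      h2, (hS (m + 1) (by omega)).eq_of_tgt (S.d m (m + 1)) 0, zero_comp, sub_zero, hg]
    simp only [Category.assoc, Preadditive.neg_comp, Preadditive.comp_neg, Iso.inv_hom_id_assoc]
    rw [hG', Preadditive.add_comp, Category.assoc e, Category.assoc p, hφl, hφr]
    abel
  rw [element_exact _ (i - 1) i (i + 1) (by omega) rfl]
  intro x hx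
  let ψ : ∀ k, (mappingCone f').X k ⟶ (mappingCone f).X k := fun k =>
    (mappingCone.fst f').1.v k (k + 1) rfl ≫ (mappingCone.snd g).v (k + 1) (k + 1) (add_zero _) ≫
        (mappingCone.inl f).v (k + 1) k (by omega) +
      (mappingCone.snd f').v k k (add_zero _) ≫ (mappingCone.inr f).f k
  have hψ : ∀ k, φ.f k ≫ ψ k = 𝟙 _ := fun k => by
    rw [mappingCone.ext_from_iff f (k + 1) k rfl]
    constructor
    · rw [← Category.assoc, hφl]
      simp [ψ]
    · rw [← Category.assoc, hφr]
      simp [ψ]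
  obtain ⟨y, rfl⟩ : ∃ y, (φ.f i).hom y = x := by
    have hz := hS (i + 1 + 1) (by omega)
    have hid' := mappingCone.id_X g (i + 1) (i + 1 + 1) rfl
    rw [hz.eq_of_tgt ((mappingCone.fst g).1.v (i + 1) (i + 1 + 1) rfl) 0, zero_comp, zero_add]
      at hid'
    have hid : ψ i ≫ φ.f i = 𝟙 _ := by
      show (_ + _) ≫ φ.f i = 𝟙 _
      rw [Preadditive.add_comp, Category.assoc, Category.assoc, Category.assoc, hφl, hφr,
        reassoc_of% hid']
      exact mappingCone.id_X f' i (i + 1) rfl
    exact ⟨(ψ i).hom x, congrArg (fun t => t.hom x) hid⟩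
  have hy : ((mappingCone f).d i (i + 1)).hom y = 0 := by
    have hmono : Mono (φ.f (i + 1)) := (SplitMono.mk (ψ (i + 1)) (hψ (i + 1))).mono
    refine (ModuleCat.mono_iff_injective _).1 hmono ?_
    rw [map_zero]
    exact (DerBC.comm_apply (φ.comm i (i + 1)) y).symm.trans hx
  rcases (show m ≤ i ∨ i = m - 1 by omega) with hi' | rfl
  · obtain ⟨w, hw⟩ := (element_exact _ (i - 1) i (i + 1) (by omega) rfl).1 (hex i hi') y hy
    refine ⟨(φ.f (i - 1)).hom w, ?_⟩
    rw [← hw]
    exact DerBC.comm_apply (φ.comm (i - 1) i) w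
  · obtain ⟨a, w, rfl⟩ := hgen y (by
      rwa [show (m - 1 + 1 : ℤ) = m by omega] at hy)
    have h1 : (φ.f (m - 1)).hom (G.hom a) =
        ((mappingCone f').d (m - 2) (m - 1)).hom ((-(s.inv ≫
          (mappingCone.inl g).v m (m - 1) (by omega) ≫
          (mappingCone.inl f').v (m - 1) (m - 2) (by omega))).hom a) :=
      congrArg (fun t => t.hom a) hGφ
    rw [show (m - 1 - 1 : ℤ) = m - 2 by omega]
    refine ⟨(-(s.inv ≫ (mappingCone.inl g).v m (m - 1) (by omega) ≫
          (mappingCone.inl f').v (m - 1) (m - 2) (by omega))).hom a + (φ.f (m - 2)).hom w, ?_⟩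
    rw [map_add, map_add, h1]
    exact congrArg (_ + ·) (DerBC.comm_apply (φ.comm (m - 2) (m - 1)) w)

end GrothLib.DR
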