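import Groth.Agent.Lib.DCxRing.ClassLift
import Groth.Agent.Lib.DCxRing.Step
import Groth.Agent.Lib.DCxKFlat.LBaseKFlat
import Mathlib.LinearAlgebra.TensorProduct.Prod
import Mathlib.Algebra.Homology.DerivedCategory.ShortExact

/-!
# Representatives lifting a given reduction
-/

set_option autoImplicit false
universe u

open CategoryTheory CategoryTheory.Limits HomologicalComplex TensorProduct Pretriangulated
open CochainComplex (mappingCone)

attribute [local instance] HasDerivedCategory.standard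

namespace GrothLib.DR

variable {R : Type u} [CommRing R] {I : Ideal R}

/-- An acyclic complex is zero in the derived category. -/
lemma isZero_toD_of_acyclic {A : DRing.Cx R} (h : A.Acyclic) : IsZero (DRing.toD A) := by
  have h0 : IsIso (DerivedCategory.Q.map (0 : A ⟶ A)) := by
    rw [DerivedCategory.isIso_iff]
    intro n
    have hz : IsZero ((DerivedCategory.homologyFunctor (ModuleCat.{u} R) n).obj (DRing.toD A)) :=
      (subsingleton_iff_isZero _).1 ((exactAt_iff A n).1 (h n))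
    exact ⟨0, hz.eq_of_src _ _, hz.eq_of_src _ _⟩
  rw [IsZero.iff_id_eq_zero]
  refine (cancel_epi (DerivedCategory.Q.map (0 : A ⟶ A))).1 ?_
  rw [Category.comp_id, comp_zero, Functor.map_zero]

variable {Pc : ObjectProperty (ModuleCat.{u} R)} [Pc.IsClosedUnderIsomorphisms]
  (h1 : ∀ X : ModuleCat.{u} R, Pc X → Module.Projective R X)
  (h2 : ∀ X Y : ModuleCat.{u} R, Pc X → (Pc (ModuleCat.of R (X × Y)) ↔ Pc Y))
  (h3 : ∀ (X Y : ModuleCat.{u} R) (f : X ⟶ Y), Pc X → Pc Y →
    LinearMap.range f.hom ⊔ I • (⊤ : Submodule R Y) = ⊤ → Function.Surjective f.hom)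

include h1 h2 h3 in
/-- An endomorphism in the class congruent to the identity is bijective. -/
theorem bijective_of_congr {X : Type u} [AddCommGroup X] [Module R X] (hX : Pc (ModuleCat.of R X))
    (e : X →ₗ[R] X) (he : ∀ x, e x - x ∈ I • (⊤ : Submodule R X)) : Function.Bijective e := by
  have hs : Function.Surjective e := h3 (ModuleCat.of R X) (ModuleCat.of R X) (ModuleCat.ofHom e) hX hX
    (eq_top_iff.2 fun x _ => Submodule.mem_sup.2 ⟨e x, ⟨x, rfl⟩, -(e x - x), neg_mem (he x), by abel⟩)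
  haveI : Module.Projective R X := h1 _ hX
  obtain ⟨-, r, hr⟩ := exists_equiv_prod_ker e hs
  have h0 := eq_zero_of_le h3 (prop_ker h1 (fun X Y hX h => (h2 X Y hX).1 h) hX hX e hs) fun k => by
    have h : k.1 ∈ I • (⊤ : Submodule R X) := by
      simpa [show e k.1 = 0 from k.2] using he k.1
    have h' := Submodule.mem_map_of_mem (f := r) h
    rw [Submodule.map_smul'', hr] at h'
    exact Submodule.smul_mono le_rfl le_top h'
  exact ⟨(injective_iff_map_eq_zero _).2 fun x hx => congrArg Subtype.val (h0 ⟨x, hx⟩), hs⟩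

include h1 h2 h3 in
/-- Representatives lifting a complex isomorphic to the derived reduction. -/
theorem exists_representative_lift [DRing.HasLBaseChange (Ideal.Quotient.mk I)] (K : Dual.D R) {Q : DRing.Cx R}
    {c : ℤ} (hQc : DRing.VanishesAbove Q c) (hQ : ∀ i : ℤ, Pc (Q.X i)) (eQ : DRing.toD Q ≅ K)
    {E : DRing.Cx (R ⧸ I)} {b : ℤ} (hEb : DRing.VanishesAbove E b)
    (hEt : ∀ i : ℤ, ∃ X : ModuleCat.{u} R, Pc X ∧ Nonempty (TensorProduct R (R ⧸ I) X ≃ₗ[R ⧸ I] E.X i))
    (eE : DRing.toD E ≅ (DRing.LBaseChange (Ideal.Quotient.mk I)).obj K) :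
    ∃ (P : DRing.Cx R) (b' : ℤ), DRing.VanishesAbove P b' ∧ (∀ i : ℤ, Pc (P.X i)) ∧
      Nonempty (DRing.toD P ≅ K) ∧ Nonempty ((bc (Ideal.Quotient.mk I)).obj P ≅ E) := by
  have h2' : ∀ X Y : ModuleCat.{u} R, Pc X → Pc (ModuleCat.of R (X × Y)) → Pc Y := fun X Y hX h => (h2 X Y hX).1 h
  let mk := Ideal.Quotient.mk I
  let Qb := (bc mk).obj Q
  have hQp : ∀ i, Module.Projective R (Q.X i) := fun i => h1 _ (hQ i)
  have hQbp : ∀ i, Module.Projective (R ⧸ I) (Qb.X i) := fun i => by
    haveI := hQp i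
    exact inferInstanceAs (Module.Projective (R ⧸ I) ((R ⧸ I) ⊗[R] Q.X i))
  have hQbc : DRing.VanishesAbove Qb c := fun i hi => (ModuleCat.extendScalars mk).map_isZero (hQc i hi)
  haveI := isKProjective Qb c hQbc hQbp
  choose XE hXE eXE using hEt
  have hEp : ∀ i, Module.Projective (R ⧸ I) (E.X i) := fun i => by
    haveI := h1 _ (hXE i)
    exact Module.Projective.of_equiv (eXE i).some
  haveI := isKProjective E b hEb hEp
  obtain ⟨eB⟩ := KF.lBase_value mk (KF.isKFlat_of_vanishesAbove hQc (termwiseFlat_of_projective hQp))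
  let e : DRing.toD E ≅ DRing.toD Qb := eE ≪≫ ((DRing.LBaseChange mk).mapIso eQ.symm ≪≫ eB)
  obtain ⟨α, hα⟩ := exists_lift E e.hom
  haveI hαiso : IsIso (DerivedCategory.Q.map α) := by rw [hα]; infer_instance
  let C := mappingCone α
  have hCa : C.Acyclic := fun j => exactAt_cone_of_quasiIso α hαiso j
  have hCb : DRing.VanishesAbove C (max b c) := fun j hj =>
    isZero_cone_X α (hEb (j + 1) (by omega)) (hQbc j (by omega))
  -- the decomposition of the cone
  let fs : ∀ j, (C.X j ⟶ E.X (j + 1)) := fun j => (CochainComplex.mappingCone.fst α).1.v j (j + 1) rfl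
  let sn : ∀ j, (C.X j ⟶ Qb.X j) := fun j => (CochainComplex.mappingCone.snd α).v j j (add_zero j)
  let il : ∀ j, (E.X (j + 1) ⟶ C.X j) := fun j => (CochainComplex.mappingCone.inl α).v (j + 1) j (by omega)
  let ir : ∀ j, (Qb.X j ⟶ C.X j) := fun j => (CochainComplex.mappingCone.inr α).f j
  have hid : ∀ j (z : C.X j), (il j).hom ((fs j).hom z) + (ir j).hom ((sn j).hom z) = z := fun j z =>
    ConcreteCategory.congr_hom (CochainComplex.mappingCone.id_X α j (j + 1) rfl) z
  have hlf : ∀ j x, (fs j).hom ((il j).hom x) = x := fun j x =>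
    ConcreteCategory.congr_hom (CochainComplex.mappingCone.inl_v_fst_v α (j + 1) j rfl) x
  have hls : ∀ j x, (sn j).hom ((il j).hom x) = 0 := fun j x =>
    ConcreteCategory.congr_hom (CochainComplex.mappingCone.inl_v_snd_v α (j + 1) j (by omega)) x
  have hrf : ∀ j x, (fs j).hom ((ir j).hom x) = 0 := fun j x =>
    ConcreteCategory.congr_hom (CochainComplex.mappingCone.inr_f_fst_v α j (j + 1) rfl) x
  have hrs : ∀ j x, (sn j).hom ((ir j).hom x) = x := fun j x =>
    ConcreteCategory.congr_hom (CochainComplex.mappingCone.inr_f_snd_v α j) x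
  have hCt : ∀ j, ∃ X : ModuleCat.{u} R, Pc X ∧ Nonempty (TensorProduct R (R ⧸ I) X ≃ₗ[R ⧸ I] C.X j) := fun j => by
    let eC : C.X j ≃ₗ[R ⧸ I] E.X (j + 1) × Qb.X j :=
      LinearEquiv.ofLinearMap ((fs j).hom.prod (sn j).hom) ((il j).hom.coprod (ir j).hom)
        (LinearMap.ext fun z => by
          refine Prod.ext ?_ ?_
          · simp [hlf, hrf]
          · simp [hls, hrs])
        (LinearMap.ext fun z => by simp [hid])
    let eT : TensorProduct R (R ⧸ I) (Q.X j) ≃ₗ[R ⧸ I] Qb.X j := LinearEquiv.refl (R ⧸ I) _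
    exact ⟨ModuleCat.of R (XE (j + 1) × Q.X j), (h2 _ _ (hXE (j + 1))).2 (hQ j),
      ⟨TensorProduct.prodRight R (R ⧸ I) (R ⧸ I) (XE (j + 1)) (Q.X j) ≪≫ₗ
        ((eXE (j + 1)).some.prodCongr eT) ≪≫ₗ eC.symm⟩⟩
  obtain ⟨A, a, ha, hAb, hAa, hA⟩ := exists_acyclic_lift h1 h2' h3 hCb hCa hCt
  -- lifting the inclusion of the reduction of `Q`
  let η : Q ⟶ res I Qb :=
    { f := fun i => (ModuleCat.extendRestrictScalarsAdj mk).unit.app (Q.X i)
      comm' := fun i j _ => ((ModuleCat.extendRestrictScalarsAdj mk).unit.naturality (Q.d i j)).symm }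
  have hηs : ∀ i, Function.Surjective (η.f i).hom := fun i z => by
    letI := mk.toAlgebra
    obtain ⟨x, hx⟩ := TensorProduct.mk_surjective R (Q.X i) (R ⧸ I) Ideal.Quotient.mk_surjective z
    exact ⟨x, hx⟩
  have hηk : ∀ i x, (η.f i).hom x = 0 → x ∈ I • (⊤ : Submodule R (Q.X i)) := fun i x hx => by
    letI := mk.toAlgebra
    rw [← LinearMap.ker_tensorProductMk (I := I) (Q.X i : Type u)]
    exact hx
  obtain ⟨H⟩ := CochainComplex.IsKProjective.nonempty_homotopy_zero (CochainComplex.mappingCone.inr α) hCa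
  let G := ModuleCat.restrictScalars mk
  let Gh : ∀ i j, (res I Qb).X i ⟶ (res I C).X j := fun i j => G.map (H.hom i j)
  have hlift : ∀ i j, ∃ h : Q.X i ⟶ A.X j, h ≫ a.f j = η.f i ≫ Gh i j := fun i j => by
    haveI := hQp i
    obtain ⟨h, hh⟩ := Module.projective_lifting_property (a.f j).hom (η.f i ≫ Gh i j).hom (ha j).1
    exact ⟨ModuleCat.ofHom h, ModuleCat.hom_ext hh⟩
  choose h hh using hlift
  let f : Q ⟶ A := Homotopy.nullHomotopicMap h
  have hfa : f ≫ a = η ≫ (DRing.restrictCx mk).map (CochainComplex.mappingCone.inr α) := by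
    have h0 : CochainComplex.mappingCone.inr α = Homotopy.nullHomotopicMap H.hom :=
      HomologicalComplex.hom_ext _ _ fun i => (H.comm i).trans (add_zero _)
    rw [Homotopy.nullHomotopicMap_comp, h0]
    refine Eq.trans ?_ (congrArg (η ≫ ·) (Homotopy.map_nullHomotopicMap G H.hom).symm)
    refine Eq.trans ?_ (Homotopy.comp_nullHomotopicMap η Gh).symm
    exact congrArg Homotopy.nullHomotopicMap (funext fun i => funext fun j => hh i j)
  have hfa' : ∀ i x, (a.f i).hom ((f.f i).hom x) = (ir i).hom ((η.f i).hom x) := fun i x =>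
    ConcreteCategory.congr_hom (HomologicalComplex.congr_hom hfa i) x
  have hretr : ∀ i, ∃ r : A.X i →ₗ[R] Q.X i, ∀ x, r ((f.f i).hom x) = x := fun i => by
    haveI := h1 _ (hA i)
    obtain ⟨r₀, hr₀⟩ := Module.projective_lifting_property (η.f i).hom (a.f i ≫ G.map (sn i)).hom (hηs i)
    have hr₀' : ∀ x, (η.f i).hom (r₀ x) = (sn i).hom ((a.f i).hom x) := LinearMap.congr_fun hr₀
    have hbij := bijective_of_congr h1 h2 h3 (hQ i) (r₀.comp (f.f i).hom) fun x => hηk i _ (by
      rw [map_sub, LinearMap.comp_apply, hr₀', hfa', sub_eq_zero]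
      exact hrs i _)
    let eq := LinearEquiv.ofBijective _ hbij
    exact ⟨eq.symm.toLinearMap.comp r₀, fun x => eq.symm_apply_apply x⟩
  choose r hr using hretr
  -- the cokernel
  let U : ∀ i, Submodule R (A.X i) := fun i => LinearMap.range (f.f i).hom
  have hUd : ∀ i, U i ≤ (U (i + 1)).comap (A.d i (i + 1)).hom := fun i => by
    rintro _ ⟨x, rfl⟩
    exact ⟨(Q.d i (i + 1)).hom x, (ConcreteCategory.congr_hom (f.comm i (i + 1)) x).symm⟩
  let P' : DRing.Cx R := CochainComplex.of (fun i => ModuleCat.of R (A.X i ⧸ U i))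
    (fun i => ModuleCat.ofHom ((U i).mapQ (U (i + 1)) (A.d i (i + 1)).hom (hUd i)))
    (fun i => ModuleCat.hom_ext (Submodule.linearMap_qext _ (LinearMap.ext fun x => by
      show Submodule.Quotient.mk ((A.d (i + 1) (i + 1 + 1)).hom ((A.d i (i + 1)).hom x)) = 0
      rw [show (A.d (i + 1) (i + 1 + 1)).hom ((A.d i (i + 1)).hom x) = 0 from
        ConcreteCategory.congr_hom (A.d_comp_d i (i + 1) (i + 1 + 1)) x, Submodule.Quotient.mk_zero])))
  let π : A ⟶ P' :=
    { f := fun i => ModuleCat.ofHom (U i).mkQ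
      comm' := fun i j hij => by
        obtain rfl : i + 1 = j := hij
        dsimp [P']
        rw [CochainComplex.of_d]
        ext x
        rfl }
  have hP'c : ∀ i, Pc (P'.X i) := fun i => by
    let rr : A.X i →ₗ[R] Q.X i := r i
    have hbij : Function.Bijective (rr.prod (U i).mkQ) := by
      refine ⟨(injective_iff_map_eq_zero _).2 fun x hx => ?_, fun z => ?_⟩
      · obtain ⟨y, rfl⟩ := (Submodule.Quotient.mk_eq_zero (U i)).1 (congrArg Prod.snd hx)
        rw [show y = 0 from (hr i y).symm.trans (congrArg Prod.fst hx), map_zero]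
      · obtain ⟨x, hx⟩ := (U i).mkQ_surjective z.2
        refine ⟨(f.f i).hom z.1 + x - (f.f i).hom (rr x), Prod.ext ?_ ?_⟩
        · simp [rr, hr]
        · show (U i).mkQ _ = z.2
          rw [map_sub, map_add, hx, show (U i).mkQ ((f.f i).hom z.1) = 0 from (Submodule.Quotient.mk_eq_zero _).2 ⟨_, rfl⟩,
            show (U i).mkQ ((f.f i).hom (rr x)) = 0 from (Submodule.Quotient.mk_eq_zero _).2 ⟨_, rfl⟩, zero_add, sub_zero]
    exact (h2 (Q.X i) _ (hQ i)).1 (prop_of_equiv (LinearEquiv.ofBijective _ hbij) (hA i))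
  let S : ShortComplex (DRing.Cx R) := ShortComplex.mk f π (by
    ext i x
    exact (Submodule.Quotient.mk_eq_zero _).2 ⟨x, rfl⟩)
  have hS : S.ShortExact := HomologicalComplex.shortExact_of_degreewise_shortExact _ fun i =>
    ShortComplex.ShortExact.mk' ((ShortComplex.moduleCat_exact_iff _).2 fun x hx =>
      (Submodule.Quotient.mk_eq_zero _).1 hx)
      ((ModuleCat.mono_iff_injective _).2 fun x y hxy => (hr i x).symm.trans ((congrArg (r i) hxy).trans (hr i y)))
      ((ModuleCat.epi_iff_surjective _).2 (U i).mkQ_surjective)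
  let T := DerivedCategory.triangleOfSES hS
  haveI hT3 : IsIso T.mor₃ := (Triangle.isZero₂_iff_isIso₃ T (DerivedCategory.triangleOfSES_distinguished hS)).1
    (isZero_toD_of_acyclic hAa)
  -- the reduction of the cokernel
  let Φ : A ⟶ res I (E⟦(1 : ℤ)⟧) := a ≫ (DRing.restrictCx mk).map (CochainComplex.mappingCone.triangle α).mor₃
  let m3 : ∀ i, (C.X i ⟶ (E⟦(1 : ℤ)⟧).X i) := fun i => (CochainComplex.mappingCone.triangle α).mor₃.f i
  have hm3 : ∀ i z, (m3 i).hom z = -((fs i).hom z) := fun i z => by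
    have hl : ∀ x, (m3 i).hom ((il i).hom x) = -x := fun x =>
      ConcreteCategory.congr_hom (CochainComplex.mappingCone.inl_v_triangle_mor₃_f α (i + 1) i (by omega)) x
    have hr' : ∀ x, (m3 i).hom ((ir i).hom x) = 0 := fun x =>
      ConcreteCategory.congr_hom (CochainComplex.mappingCone.inr_f_triangle_mor₃_f α i) x
    conv_lhs => rw [← hid i z]
    rw [map_add, hl, hr', add_zero]
  have hΦ : ∀ i x, (Φ.f i).hom x = (m3 i).hom ((a.f i).hom x) := fun i x => rfl
  have hΦU : ∀ i, U i ≤ LinearMap.ker (Φ.f i).hom := fun i => by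
    rintro _ ⟨x, rfl⟩
    rw [LinearMap.mem_ker, hΦ, hfa', hm3, hrf, neg_zero]
    rfl
  let q' : P' ⟶ res I (E⟦(1 : ℤ)⟧) :=
    { f := fun i => ModuleCat.ofHom (X := A.X i ⧸ U i) (Y := (res I (E⟦(1 : ℤ)⟧)).X i) ((U i).liftQ (Φ.f i).hom (hΦU i))
      comm' := fun i j hij => by
        obtain rfl : i + 1 = j := hij
        dsimp only [P']
        rw [CochainComplex.of_d]
        refine ModuleCat.hom_ext (Submodule.linearMap_qext _ (LinearMap.ext fun x => ?_))
        exact ConcreteCategory.congr_hom (Φ.comm i (i + 1)) x }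
  have hq' : IsReduction q' := fun i => by
    refine ⟨fun y => ?_, fun x hx => ?_⟩
    · obtain ⟨x, hx⟩ := (ha i).1 ((il i).hom (-(show E.X (i + 1) from y)))
      refine ⟨(U i).mkQ x, (hΦ i x).trans ?_⟩
      rw [hx, hm3, hlf, neg_neg]
    · obtain ⟨x, rfl⟩ := (U i).mkQ_surjective x
      have hx' : (fs i).hom ((a.f i).hom x) = 0 := neg_eq_zero.1 ((hm3 i _).symm.trans ((hΦ i x).symm.trans hx))
      obtain ⟨y, hy⟩ := hηs i ((sn i).hom ((a.f i).hom x))
      have hz := hid i ((a.f i).hom x)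
      rw [hx', map_zero, zero_add] at hz
      have hmem : x - (f.f i).hom y ∈ I • (⊤ : Submodule R (A.X i)) := (ha i).2 _ (by
        rw [map_sub, hfa', hy, sub_eq_zero]
        exact hz.symm)
      have h' := Submodule.mem_map_of_mem (f := (U i).mkQ) hmem
      rw [Submodule.map_smul'', map_sub, show (U i).mkQ ((f.f i).hom y) = 0 from
        (Submodule.Quotient.mk_eq_zero _).2 ⟨_, rfl⟩, sub_zero] at h'
      exact Submodule.smul_mono le_rfl le_top h'
  obtain ⟨ψ⟩ := nonempty_bc_iso hq'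
  refine ⟨P'⟦(-1 : ℤ)⟧, max b c + 1, fun i hi => ?_, fun i => hP'c (i + -1), ⟨?_⟩, ⟨?_⟩⟩
  · haveI := ModuleCat.subsingleton_of_isZero (hAb (i + -1) (by omega))
    exact @ModuleCat.isZero_of_subsingleton _ _ ((P'⟦(-1 : ℤ)⟧).X i)
      (inferInstanceAs (Subsingleton (A.X (i + -1) ⧸ U (i + -1))))
  · exact (DerivedCategory.Q.commShiftIso (-1 : ℤ)).app P' ≪≫ (shiftFunctor _ (-1 : ℤ)).mapIso (@asIso _ _ _ _ T.mor₃ hT3) ≪≫
      (shiftFunctorCompIsoId (Dual.D R) (1 : ℤ) (-1) (by omega)).app (DRing.toD Q) ≪≫ eQ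
  · exact ((bc mk).commShiftIso (-1 : ℤ)).app P' ≪≫ (shiftFunctor _ (-1 : ℤ)).mapIso ψ ≪≫
      (shiftFunctorCompIsoId (DRing.Cx (R ⧸ I)) (1 : ℤ) (-1) (by omega)).app E

end GrothLib.DR
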