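import Groth.Agent.Lib.DCxRing.CompactPerfect
import Groth.Agent.Lib.DCxRing.LBaseComp
import Mathlib.Algebra.Homology.GrothendieckAbelian
import Mathlib.Algebra.Module.Torsion.Basic

/-!
# Perfectness from two quotients
-/

set_option autoImplicit false
universe u

open CategoryTheory CategoryTheory.Limits HomologicalComplex Pretriangulated

attribute [local instance] HasDerivedCategory.standard

namespace GrothLib.DR

variable {A B : Type u} [CommRing A] [CommRing B]

instance preservesCoproducts_restrictCx (ψ : A →+* B) (I : Type u) :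
    PreservesColimitsOfShape (Discrete I) (DRing.restrictCx ψ) := by
  haveI : (ModuleCat.restrictScalars.{u} ψ).IsLeftAdjoint := ⟨_, ⟨ModuleCat.restrictCoextendScalarsAdj ψ⟩⟩
  refine HomologicalComplex.preservesColimitsOfShape_of_eval _ fun i => ?_
  change PreservesColimitsOfShape _ (HomologicalComplex.eval (ModuleCat.{u} B) (ComplexShape.up ℤ) i ⋙
    ModuleCat.restrictScalars.{u} ψ)
  infer_instance

variable {I : Type u}

/-- All morphisms from `L` into the coproduct of the family have finite support. -/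
def GoodFam (L : Dual.D A) (C : I → DRing.Cx A) : Prop :=
  ∀ φ : L ⟶ DerivedCategory.Q.obj (∐ C), ∃ S : Finset I, φ ≫ DerivedCategory.Q.map (supportProj C S) = φ

lemma supportProj_map {C C' : I → DRing.Cx A} (f : ∀ i, C i ⟶ C' i) (S : Finset I) :
    supportProj C S ≫ Limits.Sigma.map f = Limits.Sigma.map f ≫ supportProj C' S := by
  classical
  refine Sigma.hom_ext _ _ fun i => ?_
  rw [← Category.assoc, ι_supportProj C S i, Sigma.ι_map_assoc, ι_supportProj C' S i]
  split_ifs with h
  · rw [Sigma.ι_map]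
  · rw [zero_comp, comp_zero]

theorem goodFam_of_iso {L : Dual.D A} {C C' : I → DRing.Cx A} (e : ∀ i, C i ≅ C' i) (h : GoodFam L C) :
    GoodFam L C' := by
  intro φ
  let E := Sigma.mapIso e
  obtain ⟨S, hS⟩ := h (φ ≫ DerivedCategory.Q.map E.inv)
  refine ⟨S, ?_⟩
  rw [← cancel_mono (DerivedCategory.Q.map E.inv), Category.assoc, ← Functor.map_comp,
    show supportProj C' S ≫ E.inv = E.inv ≫ supportProj C S from supportProj_map (fun i => (e i).inv) S,
    Functor.map_comp, ← Category.assoc, hS]

/-- Families coming from `B` are good when the base change to `B` is compact. -/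
theorem goodFam_restrict (ψ : A →+* B) [DRing.HasLBaseChange ψ] {L : Dual.D A}
    (hL : CompactD ((DRing.LBaseChange ψ).obj L)) (D : I → DRing.Cx B) :
    GoodFam L (fun i => (DRing.restrictCx ψ).obj (D i)) := by
  classical
  obtain ⟨adj⟩ := Groth.Agent.S12898.result ψ
  intro φ
  let r := DRing.restrictCx ψ
  haveI : r.PreservesZeroMorphisms :=
    inferInstanceAs ((ModuleCat.restrictScalars.{u} ψ).mapHomologicalComplex (ComplexShape.up ℤ)).PreservesZeroMorphisms
  let Q := DerivedCategory.Q (C := ModuleCat.{u} A)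
  let C : I → DRing.Cx A := fun i => r.obj (D i)
  let θ : (∐ C) ≅ r.obj (∐ D) := (PreservesCoproduct.iso r D).symm
  let ν := (ModuleCat.restrictScalars.{u} ψ).mapDerivedCategoryFactors
  let w : L ⟶ (DRing.restrictD ψ).obj (DerivedCategory.Q.obj (∐ D)) :=
    φ ≫ Q.map θ.hom ≫ ν.inv.app (∐ D)
  obtain ⟨S, hS⟩ := exists_support_of_compact hL D ((adj.homEquiv _ _).symm w)
  refine ⟨S, ?_⟩
  have hw : w ≫ (DRing.restrictD ψ).map (DerivedCategory.Q.map (supportProj D S)) = w := by
    apply (adj.homEquiv _ _).symm.injective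
    rw [Adjunction.homEquiv_naturality_right_symm, hS]
  have hθ : θ.hom ≫ r.map (supportProj D S) = supportProj C S ≫ θ.hom := by
    refine Sigma.hom_ext _ _ fun i => ?_
    have hι : ∀ j, Sigma.ι C j ≫ θ.hom = r.map (Sigma.ι D j) := fun j => ι_comp_sigmaComparison r D j
    rw [reassoc_of% hι, ← Functor.map_comp, ι_supportProj D S i, ← Category.assoc, ι_supportProj C S i]
    split_ifs with h
    · exact (hι i).symm
    · rw [Functor.map_zero, zero_comp]
  haveI : IsIso (ν.inv.app (∐ D)) := inferInstance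
  refine (cancel_mono (Q.mapIso θ ≪≫ (ν.app (∐ D)).symm).hom).1 ?_
  show (φ ≫ Q.map (supportProj C S)) ≫ Q.map θ.hom ≫ ν.inv.app (∐ D) = φ ≫ Q.map θ.hom ≫ ν.inv.app (∐ D)
  have hn := ν.inv.naturality (supportProj D S)
  simp only [Functor.comp_map] at hn
  calc (φ ≫ Q.map (supportProj C S)) ≫ Q.map θ.hom ≫ ν.inv.app (∐ D)
      = φ ≫ Q.map θ.hom ≫ Q.map (r.map (supportProj D S)) ≫ ν.inv.app (∐ D) := by
        rw [Category.assoc, ← Functor.map_comp_assoc, ← hθ, Functor.map_comp_assoc]
    _ = w ≫ (DRing.restrictD ψ).map (DerivedCategory.Q.map (supportProj D S)) := by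
        simp only [w, Category.assoc]
        exact congrArg (fun t => φ ≫ Q.map θ.hom ≫ t) hn
    _ = w := hw

/-- A coproduct of short exact sequences of complexes is short exact. -/
theorem shortExact_sigma {X Y Z : I → DRing.Cx A} (f : ∀ i, X i ⟶ Y i) (g : ∀ i, Y i ⟶ Z i)
    (w : ∀ i, f i ≫ g i = 0) (h : ∀ i, (ShortComplex.mk (f i) (g i) (w i)).ShortExact) :
    (ShortComplex.mk (Limits.Sigma.map f) (Limits.Sigma.map g)
      (Sigma.hom_ext _ _ fun i => by rw [Sigma.ι_map_assoc, Sigma.ι_map, reassoc_of% (w i), zero_comp, comp_zero])).ShortExact := by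
  haveI := fun i => (h i).mono_f
  haveI := fun i => (h i).epi_g
  haveI : ∀ i, Mono ((Discrete.natTrans (fun j : Discrete I => f j.as) :
      Discrete.functor X ⟶ Discrete.functor Y).app i) := fun i => inferInstanceAs (Mono (f i.as))
  haveI := NatTrans.mono_of_mono_app (Discrete.natTrans (fun j : Discrete I => f j.as) :
      Discrete.functor X ⟶ Discrete.functor Y)
  haveI : Mono (Limits.Sigma.map f) :=
    inferInstanceAs (Mono (colim.map (Discrete.natTrans fun j : Discrete I => f j.as :
      Discrete.functor X ⟶ Discrete.functor Y)))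
  haveI : Epi (Limits.Sigma.map g) := inferInstance
  refine ShortComplex.ShortExact.mk' (ShortComplex.exact_of_g_is_cokernel _ ?_) inferInstance inferInstance
  refine CokernelCofork.IsColimit.ofπ _ _
    (fun {W} k hk => Sigma.desc fun i => (CokernelCofork.IsColimit.desc' (h i).gIsCokernel (Sigma.ι Y i ≫ k)
      (by
        have := congrArg (fun t => Sigma.ι X i ≫ t) hk
        simpa using this)).1) (fun {W} k hk => ?_) (fun {W} k hk m hm => ?_)
  · refine Sigma.hom_ext _ _ fun i => ?_
    rw [Sigma.ι_map_assoc, Sigma.ι_desc]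
    exact (CokernelCofork.IsColimit.desc' (h i).gIsCokernel (Sigma.ι Y i ≫ k) _).2
  · refine Sigma.hom_ext _ _ fun i => ?_
    rw [Sigma.ι_desc, ← cancel_epi (g i)]
    refine Eq.trans ?_ (CokernelCofork.IsColimit.desc' (h i).gIsCokernel (Sigma.ι Y i ≫ k) _).2.symm
    rw [← hm, Sigma.ι_map_assoc]

/-- Good families are closed under extensions. -/
theorem goodFam_of_shortExact {L : Dual.D A} {X Y Z : I → DRing.Cx A} (f : ∀ i, X i ⟶ Y i) (g : ∀ i, Y i ⟶ Z i)
    (w : ∀ i, f i ≫ g i = 0) (h : ∀ i, (ShortComplex.mk (f i) (g i) (w i)).ShortExact)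
    (hX : GoodFam L X) (hZ : GoodFam L Z) : GoodFam L Y := by
  classical
  intro φ
  let Q := DerivedCategory.Q (C := ModuleCat.{u} A)
  obtain ⟨S, hS⟩ := hZ (φ ≫ Q.map (Limits.Sigma.map g))
  let χ := φ - φ ≫ Q.map (supportProj Y S)
  have hχ : χ ≫ Q.map (Limits.Sigma.map g) = 0 := by
    rw [Preadditive.sub_comp, Category.assoc, ← Functor.map_comp, supportProj_map, Functor.map_comp,
      ← Category.assoc, hS, sub_self]
  obtain ⟨ψ, hψ⟩ : ∃ ψ : L ⟶ Q.obj (∐ X), χ = ψ ≫ Q.map (Limits.Sigma.map f) :=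
    Triangle.coyoneda_exact₂ _ (DerivedCategory.triangleOfSES_distinguished (shortExact_sigma f g w h)) χ hχ
  obtain ⟨T, hT⟩ := hX ψ
  have hχT : χ ≫ Q.map (supportProj Y T) = χ := by
    rw [hψ, Category.assoc, ← Functor.map_comp, ← supportProj_map, Functor.map_comp, ← Category.assoc, hT]
  refine ⟨S ∪ T, ?_⟩
  have e : φ = χ ≫ Q.map (supportProj Y T) + φ ≫ Q.map (supportProj Y S) := by
    rw [hχT]
    exact (sub_add_cancel _ _).symm
  conv_lhs => rw [e]
  rw [Preadditive.add_comp, Category.assoc, Category.assoc, ← Functor.map_comp, ← Functor.map_comp,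
    supportProj_comp Y Finset.subset_union_right, supportProj_comp Y Finset.subset_union_left]
  exact e.symm

/-- A complex annihilated by the kernel of a surjection comes from the target. -/
theorem exists_restrict_iso (ψ : A →+* B) (hψ : Function.Surjective ψ) (Y : DRing.Cx A)
    (hY : ∀ (n : ℤ) (a : A) (x : Y.X n), a ∈ RingHom.ker ψ → a • x = 0) :
    ∃ D : DRing.Cx B, Nonempty ((DRing.restrictCx ψ).obj D ≅ Y) := by
  let s : B → A := Function.surjInv hψ
  have hs : ∀ b, ψ (s b) = b := Function.surjInv_eq hψ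
  have key : ∀ (n : ℤ) (a a' : A) (x : Y.X n), ψ a = ψ a' → a • x = a' • x := fun n a a' x h => by
    rw [← sub_eq_zero, ← sub_smul]
    exact hY n _ x (by rw [RingHom.mem_ker, map_sub, h, sub_self])
  letI inst : ∀ n, Module B (Y.X n) := fun n =>
    { smul := fun b x => s b • x
      one_smul := fun x => (key n _ 1 x (by rw [hs, map_one])).trans (one_smul A x)
      mul_smul := fun b c x => (key n _ (s b * s c) x (by rw [hs, map_mul, hs, hs])).trans (mul_smul _ _ x)
      smul_zero := fun b => smul_zero (s b)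
      smul_add := fun b x y => smul_add (s b) x y
      add_smul := fun b c x => (key n _ (s b + s c) x (by rw [hs, map_add, hs, hs])).trans (add_smul _ _ x)
      zero_smul := fun x => (key n _ 0 x (by rw [hs, map_zero])).trans (zero_smul A x) }
  let D : DRing.Cx B :=
    { X := fun n => ModuleCat.of B (Y.X n)
      d := fun i j => ModuleCat.ofHom
        { toFun := fun x => Y.d i j x
          map_add' := fun x y => map_add _ x y
          map_smul' := fun b x => map_smul (Y.d i j).hom (s b) x }
      shape := fun i j h => ModuleCat.hom_ext (LinearMap.ext fun x => ConcreteCategory.congr_hom (Y.shape i j h) x)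
      d_comp_d' := fun i j k _ _ =>
        ModuleCat.hom_ext (LinearMap.ext fun x => ConcreteCategory.congr_hom (Y.d_comp_d i j k) x) }
  refine ⟨D, ⟨HomologicalComplex.Hom.isoOfComponents (fun n => LinearEquiv.toModuleIso
    ({ toFun := fun x => x
       map_add' := fun _ _ => rfl
       map_smul' := fun a x => key n (s (ψ a)) a x (hs _)
       invFun := fun x => x
       left_inv := fun _ => rfl
       right_inv := fun _ => rfl } :
      (ModuleCat.restrictScalars ψ).obj (D.X n) ≃ₗ[A] Y.X n)) fun i j _ => rfl⟩⟩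

/-- Perfectness can be checked on two quotients whose kernels multiply to zero. -/
theorem isPerfect_of_two_quotients {B₁ B₂ : Type u} [CommRing B₁] [CommRing B₂] (ψ₁ : A →+* B₁) (ψ₂ : A →+* B₂)
    (h₁ : Function.Surjective ψ₁) (h₂ : Function.Surjective ψ₂) (h : RingHom.ker ψ₂ * RingHom.ker ψ₁ = ⊥)
    [DRing.HasLBaseChange ψ₁] [DRing.HasLBaseChange ψ₂] {L : Dual.D A}
    (p₁ : DRing.IsPerfect B₁ ((DRing.LBaseChange ψ₁).obj L))
    (p₂ : DRing.IsPerfect B₂ ((DRing.LBaseChange ψ₂).obj L)) : DRing.IsPerfect A L := by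
  classical
  refine isPerfect_iff_compactD.2 fun J X _ φ => ?_
  let C : J → DRing.Cx A := fun i => DerivedCategory.Q.objPreimage (X ⟨i⟩)
  let ε : ∀ i, DerivedCategory.Q.obj (C i) ≅ X ⟨i⟩ := fun i => DerivedCategory.Q.objObjPreimageIso (X ⟨i⟩)
  let 𝔞 := RingHom.ker ψ₁
  let N : ∀ (i : J) (n : ℤ), Submodule A ((C i).X n) := fun i n => 𝔞 • ⊤
  have hd : ∀ i n m, N i n ≤ (N i m).comap ((C i).d n m).hom := fun i n m => by
    rw [← Submodule.map_le_iff_le_comap, Submodule.map_smul'']
    exact Submodule.smul_mono le_rfl le_top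
  let S : J → DRing.Cx A := fun i =>
    { X := fun n => ModuleCat.of A (N i n)
      d := fun n m => ModuleCat.ofHom (((C i).d n m).hom.restrict fun x hx => hd i n m hx)
      shape := fun n m hnm => ModuleCat.hom_ext (LinearMap.ext fun x =>
        Subtype.ext (ConcreteCategory.congr_hom ((C i).shape n m hnm) x.1))
      d_comp_d' := fun n m k _ _ => ModuleCat.hom_ext (LinearMap.ext fun x =>
        Subtype.ext (ConcreteCategory.congr_hom ((C i).d_comp_d n m k) x.1)) }
  let T : J → DRing.Cx A := fun i =>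
    { X := fun n => ModuleCat.of A ((C i).X n ⧸ N i n)
      d := fun n m => ModuleCat.ofHom (Submodule.mapQ _ _ ((C i).d n m).hom (hd i n m))
      shape := fun n m hnm => ModuleCat.hom_ext (Submodule.linearMap_qext _ (LinearMap.ext fun x =>
        congrArg (Submodule.Quotient.mk (p := N i m)) (ConcreteCategory.congr_hom ((C i).shape n m hnm) x)))
      d_comp_d' := fun n m k _ _ => ModuleCat.hom_ext (Submodule.linearMap_qext _ (LinearMap.ext fun x =>
        congrArg (Submodule.Quotient.mk (p := N i k)) (ConcreteCategory.congr_hom ((C i).d_comp_d n m k) x))) }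
  let f : ∀ i, S i ⟶ C i := fun i => { f := fun n => ModuleCat.ofHom (N i n).subtype, comm' := fun n m _ => rfl }
  let g : ∀ i, C i ⟶ T i := fun i => { f := fun n => ModuleCat.ofHom (N i n).mkQ, comm' := fun n m _ => rfl }
  have w : ∀ i, f i ≫ g i = 0 := fun i => HomologicalComplex.hom_ext _ _ fun n =>
    ModuleCat.hom_ext (LinearMap.ext fun x => (Submodule.Quotient.mk_eq_zero _).2 x.2)
  have hse : ∀ i, (ShortComplex.mk (f i) (g i) (w i)).ShortExact := fun i =>
    HomologicalComplex.shortExact_of_degreewise_shortExact _ fun n =>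
      { exact := (ShortComplex.moduleCat_exact_iff _).2 fun x hx =>
          ⟨⟨x, (Submodule.Quotient.mk_eq_zero _).1 hx⟩, rfl⟩
        mono_f := (ModuleCat.mono_iff_injective _).2 Subtype.val_injective
        epi_g := (ModuleCat.epi_iff_surjective _).2 (Submodule.mkQ_surjective _) }
  have hkill₁ : ∀ i n (a : A) (x : (T i).X n), a ∈ RingHom.ker ψ₁ → a • x = 0 := fun i n a x ha => by
    obtain ⟨x, rfl⟩ := Submodule.mkQ_surjective (N i n) x
    exact (Submodule.Quotient.mk_eq_zero _).2 (Submodule.smul_mem_smul ha trivial)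
  have hkill₂ : ∀ i n (a : A) (x : (S i).X n), a ∈ RingHom.ker ψ₂ → a • x = 0 := fun i n a x ha => by
    refine Subtype.ext ?_
    have hmem : a • x.1 ∈ RingHom.ker ψ₂ • N i n := Submodule.smul_mem_smul ha x.2
    rw [← Submodule.smul_assoc, smul_eq_mul, h, Submodule.bot_smul] at hmem
    exact hmem
  choose D₁ e₁ using fun i => exists_restrict_iso ψ₁ h₁ (T i) (hkill₁ i)
  choose D₂ e₂ using fun i => exists_restrict_iso ψ₂ h₂ (S i) (hkill₂ i)
  have hgood : GoodFam L C := goodFam_of_shortExact f g w hse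
    (goodFam_of_iso (fun i => (e₂ i).some) (goodFam_restrict ψ₂ (compactD_of_isPerfect p₂) D₂))
    (goodFam_of_iso (fun i => (e₁ i).some) (goodFam_restrict ψ₁ (compactD_of_isPerfect p₁) D₁))
  let e : (∐ X) ⟶ DerivedCategory.Q.obj (∐ C) :=
    Sigma.desc fun i => (ε i.down).inv ≫ DerivedCategory.Q.map (Sigma.ι C i.down)
  let e' : DerivedCategory.Q.obj (∐ C) ⟶ ∐ X :=
    (PreservesCoproduct.iso DerivedCategory.Q C).hom ≫ Sigma.desc fun i => (ε i).hom ≫ Sigma.ι X ⟨i⟩
  have hι : ∀ i, DerivedCategory.Q.map (Sigma.ι C i) ≫ e' = (ε i).hom ≫ Sigma.ι X ⟨i⟩ := fun i => by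
    rw [← ι_comp_sigmaComparison DerivedCategory.Q C i, Category.assoc,
      ← PreservesCoproduct.inv_hom DerivedCategory.Q C, Iso.inv_hom_id_assoc, Sigma.ι_desc]
  have hee : e ≫ e' = 𝟙 _ := by
    refine Sigma.hom_ext _ _ fun i => ?_
    rw [Sigma.ι_desc_assoc, Category.assoc, hι, Iso.inv_hom_id_assoc, Category.comp_id]
  obtain ⟨F, hF⟩ := hgood (φ ≫ e)
  have key : φ = ∑ i ∈ F, ((φ ≫ e) ≫ DerivedCategory.Q.map (Sigma.π C i) ≫ (ε i).hom) ≫ Sigma.ι X ⟨i⟩ := by
    calc φ = ((φ ≫ e) ≫ DerivedCategory.Q.map (supportProj C F)) ≫ e' := by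
          rw [hF, Category.assoc, hee, Category.comp_id]
      _ = _ := by
          rw [supportProj_eq_sum C F, Functor.map_sum, Preadditive.comp_sum, Preadditive.sum_comp]
          refine Finset.sum_congr rfl fun i _ => ?_
          simp only [Functor.map_comp, Category.assoc, hι]
  rw [key]
  exact sum_mem (S := (PerfAux.homSumToHomCoprod L X).range) fun i _ => TriCat.ι_mem_range X _ _ _

end GrothLib.DR
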