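import Groth.Prelude.Def_CohDer
import Groth.Agent.Lib.HoCat.DerivedCoproduct
import Groth.Agent.Lib.DerCat.Acyclic
import Groth.Agent.Lib.DCxRing.Basic
import Groth.Prelude.Def_DRing2
import Groth.Agent.Lib.DCxKFlat.TensorCx
import Mathlib.Algebra.Homology.DerivedCategory.ShortExact
import Mathlib.Algebra.Category.ModuleCat.AB

/-!
# Objects commuting with countable sums and sequential colimits of complexes
-/

set_option autoImplicit false
universe u

open CategoryTheory CategoryTheory.Limits Pretriangulated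

attribute [local instance] HasDerivedCategory.standard

namespace GrothLib.DR

variable {R : Type u} [CommRing R] {K : Dual.D R}

instance hasColimitsOfShape_nat_D : HasColimitsOfShape (Discrete ℕ) (Dual.D R) :=
  HoCat.derivedCategory_hasColimitsOfShape

instance hasColimitsOfShape_ulift_nat_D : HasColimitsOfShape (Discrete (ULift.{u + 1} ℕ)) (Dual.D R) :=
  hasColimitsOfShape_of_equivalence (Discrete.equivalence Equiv.ulift.symm)

/-- The hypothesis of commuting with countable sums, as used. -/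
def SumSurj (K : Dual.D R) : Prop :=
  ∀ (G : DRing.Cx R ⥤ Dual.D R) [G.Additive] [PreservesColimitsOfShape (Discrete ℕ) G] (L : ℕ → DRing.Cx R)
    (z : K ⟶ G.obj (∐ L)), ∃ s : Finset ℕ, z = ∑ j ∈ s, (z ≫ G.map (Sigma.π L j)) ≫ G.map (Sigma.ι L j)

theorem sumSurj_of_compact
    (hK : ∀ (E : ℕ → Dual.D R) [HasCoproduct fun i : ULift.{u + 1} ℕ => E i.down],
      Function.Surjective (CohDer.homSumToHomCoprod K (fun i : ULift.{u + 1} ℕ => E i.down))) :
    SumSurj K := by
  classical
  intro G _ _ L z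
  let E : ℕ → Dual.D R := fun n => G.obj (L n)
  let E' : ULift.{u + 1} ℕ → Dual.D R := fun i => E i.down
  let e : G.obj (∐ L) ⟶ ∐ E' := (PreservesCoproduct.iso G L).hom ≫ Sigma.desc fun n => Sigma.ι E' ⟨n⟩
  let e' : (∐ E') ⟶ G.obj (∐ L) := Sigma.desc fun i => G.map (Sigma.ι L i.down)
  have hι : ∀ n, Sigma.ι (fun n => G.obj (L n)) n ≫ (PreservesCoproduct.iso G L).inv = G.map (Sigma.ι L n) :=
    fun n => ι_comp_sigmaComparison G L n
  have hee : e ≫ e' = 𝟙 _ := by
    rw [← cancel_epi (PreservesCoproduct.iso G L).inv]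
    simp only [e, Category.assoc, Iso.inv_hom_id_assoc, Category.comp_id]
    refine Sigma.hom_ext _ _ fun n => ?_
    rw [hι, Sigma.ι_desc_assoc, Sigma.ι_desc]
  obtain ⟨d, hd⟩ := hK E (z ≫ e)
  let s : Finset ℕ := (DFinsupp.support d).image ULift.down
  have hz : z = ∑ i ∈ DFinsupp.support d, d i ≫ G.map (Sigma.ι L i.down) := by
    have h1 : z = CohDer.homSumToHomCoprod K E' d ≫ e' := by rw [hd, Category.assoc, hee, Category.comp_id]
    conv_lhs => rw [h1, ← DFinsupp.sum_single (f := d), DFinsupp.sum, map_sum, Preadditive.sum_comp]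
    refine Finset.sum_congr rfl fun i _ => ?_
    have h2 : CohDer.homSumToHomCoprod K E' (DirectSum.of _ i (d i)) = d i ≫ Sigma.ι E' i := by
      exact DirectSum.toAddMonoid_of (fun i => Preadditive.rightComp K (Sigma.ι E' i)) i (d i)
    refine (congrArg (· ≫ e') h2).trans ?_
    rw [Category.assoc, Sigma.ι_desc]
  refine ⟨s, ?_⟩
  let q : G.obj (∐ L) ⟶ G.obj (∐ L) := ∑ j ∈ s, G.map (Sigma.π L j) ≫ G.map (Sigma.ι L j)
  have hq : ∀ l ∈ s, G.map (Sigma.ι L l) ≫ q = G.map (Sigma.ι L l) := by
    intro l hl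
    rw [Preadditive.comp_sum, Finset.sum_eq_single l]
    · rw [← Category.assoc, ← Functor.map_comp, Sigma.ι_π_eq_id, CategoryTheory.Functor.map_id, Category.id_comp]
    · intro k _ hk
      rw [← Category.assoc, ← Functor.map_comp, Sigma.ι_π_of_ne L (Ne.symm hk), Functor.map_zero, zero_comp]
    · exact fun h => absurd hl h
  calc z = z ≫ q := by
        conv_rhs => rw [hz, Preadditive.sum_comp]
        conv_lhs => rw [hz]
        refine Finset.sum_congr rfl fun i hi => ?_
        rw [Category.assoc, hq _ (Finset.mem_image_of_mem _ hi)]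
    _ = _ := by
        rw [Preadditive.comp_sum]
        simp only [Category.assoc]

variable (hK : SumSurj K) (L : ℕ ⥤ DRing.Cx R)

local notation "σ" => 𝟙 (∐ L.obj) - DerLim.shiftMap L.obj (fun n => L.map (homOfLE (Nat.le_succ n)))

lemma sigma_π_zero : σ ≫ Sigma.π L.obj 0 = Sigma.π L.obj 0 := by
  refine Sigma.hom_ext _ _ fun l => ?_
  rw [← Category.assoc, Preadditive.comp_sub, Category.comp_id, DerLim.shiftMap, Sigma.ι_desc,
    Preadditive.sub_comp, Category.assoc, Sigma.ι_π_of_ne L.obj (by omega : l + 1 ≠ 0), comp_zero, sub_zero]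

lemma sigma_π_succ (k : ℕ) : σ ≫ Sigma.π L.obj (k + 1) =
    Sigma.π L.obj (k + 1) - Sigma.π L.obj k ≫ L.map (homOfLE (Nat.le_succ k)) := by
  refine Sigma.hom_ext _ _ fun l => ?_
  rw [← Category.assoc, Preadditive.comp_sub, Category.comp_id, DerLim.shiftMap, Sigma.ι_desc,
    Preadditive.sub_comp, Preadditive.comp_sub, Category.assoc]
  congr 1
  by_cases h : l = k
  · subst h
    rw [Sigma.ι_π_eq_id, Category.comp_id, ← Category.assoc, Sigma.ι_π_eq_id, Category.id_comp]
  · rw [Sigma.ι_π_of_ne L.obj (by omega : l + 1 ≠ k + 1), comp_zero, ← Category.assoc,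
      Sigma.ι_π_of_ne L.obj h, zero_comp]

include hK in
theorem eq_zero_of_comp_sigma (G : DRing.Cx R ⥤ Dual.D R) [G.Additive] [PreservesColimitsOfShape (Discrete ℕ) G]
    (z : K ⟶ G.obj (∐ L.obj)) (hz : z ≫ G.map σ = 0) : z = 0 := by
  have h0 : ∀ k, z ≫ G.map (Sigma.π L.obj k) = 0 := fun k => by
    induction k with
    | zero => rw [← sigma_π_zero L, Functor.map_comp, ← Category.assoc, hz, zero_comp]
    | succ k ih =>
      have h := congrArg (fun φ => z ≫ G.map φ) (sigma_π_succ L k)
      rw [Functor.map_sub, Functor.map_comp, Functor.map_comp, Preadditive.comp_sub, ← Category.assoc, hz,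
        zero_comp, ← Category.assoc, ih, zero_comp, sub_zero] at h
      exact h.symm
  obtain ⟨s, hs⟩ := hK G L.obj z
  rw [hs]
  exact Finset.sum_eq_zero fun j _ => by rw [h0, zero_comp]

include hK in
/-- Morphisms into a sequential colimit of complexes. -/
theorem hom_colimit_of_sumSurj (c : Cocone L) (hc : IsColimit c) :
    (∀ x : K ⟶ DRing.toD c.pt, ∃ (n : ℕ) (y : K ⟶ DRing.toD (L.obj n)),
        y ≫ DerivedCategory.Q.map (c.ι.app n) = x) ∧
      (∀ (n : ℕ) (y : K ⟶ DRing.toD (L.obj n)), y ≫ DerivedCategory.Q.map (c.ι.app n) = 0 →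
        ∃ (m : ℕ) (h : n ≤ m), y ≫ DerivedCategory.Q.map (L.map (homOfLE h)) = 0) := by
  classical
  let π : (∐ L.obj) ⟶ colimit L := Sigma.desc fun n => colimit.ι L n
  have w : σ ≫ π = 0 := by
    refine Sigma.hom_ext _ _ fun n => ?_
    rw [← Category.assoc, Preadditive.comp_sub, Category.comp_id, DerLim.shiftMap, Sigma.ι_desc,
      Preadditive.sub_comp, Category.assoc, Sigma.ι_desc, Sigma.ι_desc, colimit.w, sub_self, comp_zero]
  have hS := DerCat.shortExact_telescope L (w := w)
  let T := DerivedCategory.triangleOfSES hS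
  have hT : T ∈ distTriang _ := DerivedCategory.triangleOfSES_distinguished hS
  let u := (colimit.isColimit L).coconePointUniqueUpToIso hc
  have hu : ∀ n, colimit.ι L n ≫ u.hom = c.ι.app n := fun n =>
    (colimit.isColimit L).comp_coconePointUniqueUpToIso_hom hc n
  let Q := DerivedCategory.Q (C := ModuleCat.{u} R)
  let G₁ := Q ⋙ CategoryTheory.shiftFunctor (Dual.D R) (1 : ℤ)
  refine ⟨fun x => ?_, fun n y hy => ?_⟩
  · let x' : K ⟶ Q.obj (colimit L) := x ≫ Q.map u.inv
    have h1 : (x' ≫ T.mor₃) ≫ G₁.map σ = 0 := by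
      rw [Category.assoc]
      exact (congrArg (x' ≫ ·) (comp_distTriang_mor_zero₃₁ _ hT)).trans comp_zero
    obtain ⟨b, hb⟩ : ∃ b : K ⟶ Q.obj (∐ L.obj), x' = b ≫ Q.map π :=
      Triangle.coyoneda_exact₃ _ hT x' (eq_zero_of_comp_sigma hK L G₁ _ h1)
    obtain ⟨s, hs⟩ := hK Q L.obj b
    let N := s.sup id
    refine ⟨N, ∑ j ∈ s.attach, (b ≫ Q.map (Sigma.π L.obj j.1)) ≫
      Q.map (L.map (homOfLE (Finset.le_sup (f := id) j.2))), ?_⟩
    have hx : x = b ≫ Q.map (π ≫ u.hom) := by
      rw [Functor.map_comp, ← Category.assoc]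
      rw [← hb, Category.assoc, ← Functor.map_comp, Iso.inv_hom_id,
        CategoryTheory.Functor.map_id, Category.comp_id]
    rw [hx]
    conv_rhs => rw [hs, Preadditive.sum_comp, ← Finset.sum_attach]
    rw [Preadditive.sum_comp]
    refine Finset.sum_congr rfl fun j _ => ?_
    simp only [Q, Category.assoc, ← Functor.map_comp, c.w, π, Sigma.ι_desc_assoc, hu]
  · have h0 : (y ≫ Q.map (Sigma.ι L.obj n)) ≫ T.mor₂ = 0 := by
      refine (Category.assoc _ _ _).trans ?_
      show y ≫ Q.map (Sigma.ι L.obj n) ≫ Q.map π = 0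
      rw [← Functor.map_comp, Sigma.ι_desc, ← cancel_mono (Q.map u.hom), Category.assoc, ← Functor.map_comp, hu,
        zero_comp]
      exact hy
    obtain ⟨w', hw'⟩ : ∃ w' : K ⟶ Q.obj (∐ L.obj), y ≫ Q.map (Sigma.ι L.obj n) = w' ≫ Q.map σ :=
      Triangle.coyoneda_exact₂ _ hT _ h0
    have hk : ∀ k, w' ≫ Q.map (Sigma.π L.obj k) =
        if h : n ≤ k then y ≫ Q.map (L.map (homOfLE h)) else 0 := by
      intro k
      induction k with
      | zero =>
        have h := congrArg (· ≫ Q.map (Sigma.π L.obj 0)) hw'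
        simp only [Category.assoc, ← Functor.map_comp, sigma_π_zero] at h
        rw [← h]
        split_ifs with hn
        · obtain rfl : n = 0 := by omega
          rw [Sigma.ι_π_eq_id, Subsingleton.elim (homOfLE _) (𝟙 _), L.map_id]
        · rw [Sigma.ι_π_of_ne L.obj (by omega), Functor.map_zero, comp_zero]
      | succ k ih =>
        have h := congrArg (· ≫ Q.map (Sigma.π L.obj (k + 1))) hw'
        simp only [Category.assoc, ← Functor.map_comp, sigma_π_succ] at h
        rw [Functor.map_sub, Preadditive.comp_sub, Functor.map_comp Q (Sigma.π L.obj k), ← Category.assoc w', ih] at h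
        rw [eq_sub_iff_add_eq] at h
        rw [← h]
        by_cases hn : n ≤ k
        · rw [dif_pos hn, dif_pos (by omega), Sigma.ι_π_of_ne L.obj (by omega), Functor.map_zero, comp_zero, zero_add,
            Category.assoc, ← Functor.map_comp, ← Functor.map_comp, homOfLE_comp]
        · rw [dif_neg hn, zero_comp, add_zero]
          split_ifs with hn'
          · obtain rfl : n = k + 1 := by omega
            rw [Sigma.ι_π_eq_id, Subsingleton.elim (homOfLE _) (𝟙 _), L.map_id]
          · rw [Sigma.ι_π_of_ne L.obj (by omega), Functor.map_zero, comp_zero]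
    obtain ⟨s, hs⟩ := hK Q L.obj w'
    let m := max n (s.sup id + 1)
    have hz : w' ≫ Q.map (Sigma.π L.obj m) = 0 := by
      conv_lhs => rw [hs]
      rw [Preadditive.sum_comp]
      refine Finset.sum_eq_zero fun j hj => ?_
      have hjm : j < m := by
        have := Finset.le_sup (f := id) hj
        simp only [id_eq] at this
        omega
      rw [Category.assoc, ← Functor.map_comp, Sigma.ι_π_of_ne L.obj (by omega), Functor.map_zero, comp_zero]
    refine ⟨m, le_max_left _ _, ?_⟩
    rw [hk, dif_pos (le_max_left _ _)] at hz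
    exact hz

end GrothLib.DR
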