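import Groth.Agent.Lib.DCxRing.InjAmp
import Groth.Agent.Lib.DCxRing.Homology
import Mathlib.Algebra.Homology.Double
import Mathlib.Algebra.Homology.DerivedCategory.DerivabilityStructureInjectives
import Mathlib.Algebra.Category.ModuleCat.EnoughInjectives

/-!
# Complexes in two degrees
-/

set_option autoImplicit false
set_option maxHeartbeats 800000
universe u

open CategoryTheory CategoryTheory.Limits HomologicalComplex CochainComplex Pretriangulated

attribute [local instance] HasDerivedCategory.standard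

namespace GrothLib.DR

variable {A : Type u} [CommRing A]

/-- Elementwise exactness of a mapping cone. -/
theorem exactAt_cone_of_elements {E L : DRing.Cx A} (q : E ⟶ L) (i : ℤ)
    (h : ∀ (a : E.X (i + 1)) (l : L.X i), (E.d (i + 1) (i + 2)).hom a = 0 →
      (q.f (i + 1)).hom a + (L.d i (i + 1)).hom l = 0 →
      ∃ (a' : E.X i) (l' : L.X (i - 1)),
        a = -(E.d i (i + 1)).hom a' ∧ l = (q.f i).hom a' + (L.d (i - 1) i).hom l') :
    (mappingCone q).ExactAt i := by
  rw [element_exact (mappingCone q) (i - 1) i (i + 1) (by omega) rfl]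
  intro x hx
  have h1 := LinearMap.congr_fun (congrArg ModuleCat.Hom.hom
    (mappingCone.d_fst_v q i (i + 1) (i + 2) rfl (by omega))) x
  have h2 := LinearMap.congr_fun (congrArg ModuleCat.Hom.hom (mappingCone.d_snd_v q i (i + 1) rfl)) x
  simp only [ModuleCat.hom_comp, ModuleCat.hom_neg, ModuleCat.hom_add, LinearMap.comp_apply, LinearMap.neg_apply,
    LinearMap.add_apply, hx, map_zero] at h1 h2
  obtain ⟨a', l', ha, hl⟩ := h _ _ (neg_eq_zero.1 h1.symm) h2.symm
  refine ⟨((mappingCone.inl q).v i (i - 1) (by omega)).hom a' + ((mappingCone.inr q).f (i - 1)).hom l', ?_⟩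
  have hid := LinearMap.congr_fun (congrArg ModuleCat.Hom.hom (mappingCone.id_X q i (i + 1) rfl)) x
  simp only [ModuleCat.hom_comp, ModuleCat.hom_add, LinearMap.comp_apply, LinearMap.add_apply] at hid
  have e1 := LinearMap.congr_fun (congrArg ModuleCat.Hom.hom
    (mappingCone.inl_v_d q i (i - 1) (i + 1) (by omega) (by omega))) a'
  have e2 := LinearMap.congr_fun (congrArg ModuleCat.Hom.hom (mappingCone.inr_f_d q (i - 1) i)) l'
  simp only [ModuleCat.hom_comp, ModuleCat.hom_sub, LinearMap.comp_apply, LinearMap.sub_apply] at e1 e2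
  have hida : x = ((mappingCone.inl q).v (i + 1) i (by omega)).hom (-(E.d i (i + 1)).hom a') +
      ((mappingCone.inr q).f i).hom ((q.f i).hom a' + (L.d (i - 1) i).hom l') := by
    rw [← ha, ← hl]
    exact hid.symm
  rw [hida, map_add, e1, e2, map_neg, map_add]
  abel

/-- A map with exact cone is a quasi-isomorphism. -/
theorem quasiIso_of_cone {E L : DRing.Cx A} (q : E ⟶ L) (h : ∀ i, (mappingCone q).ExactAt i) : QuasiIso q :=
  (GrothLib.DerCat.quasiIso_iff_acyclic_mappingCone q).2 h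

/-- An object with cohomology in two consecutive degrees has a complex in these degrees. -/
theorem exists_twoTerm_strict (K : Dual.D A) (hK : ∀ i : ℤ, i ≠ -1 → i ≠ 0 → Subsingleton (Dual.HD A K i)) :
    ∃ L : DRing.Cx A, DRing.VanishesOutside L (-1) 0 ∧ Nonempty (DRing.toD L ≅ K) := by
  haveI : K.IsLE 0 := by
    rw [DerivedCategory.isLE_iff]
    exact fun i hi => (subsingleton_iff_isZero _).1 (hK i (by omega) (by omega))
  haveI : K.IsGE (-1) := by
    rw [DerivedCategory.isGE_iff]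
    exact fun i hi => (subsingleton_iff_isZero _).1 (hK i (by omega) (by omega))
  obtain ⟨L, hge, hle, ⟨e⟩⟩ := K.exists_iso_Q_obj_of_isGE_of_isLE (-1) 0
  refine ⟨L, fun i hi => ?_, ⟨e.symm⟩⟩
  rcases hi with hi | hi
  · exact L.isZero_of_isStrictlyGE (-1) i hi
  · exact L.isZero_of_isStrictlyLE 0 i hi

lemma rel_neg_one_zero : (ComplexShape.up ℤ).Rel (-1 : ℤ) 0 := by simp

/-- Replace the degree `0` term of a two-term complex by any module covering its top cohomology. -/
theorem exists_twoTerm_of_cover {L : DRing.Cx A} (hL : DRing.VanishesOutside L (-1) 0) (F : ModuleCat.{u} A)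
    (π : F ⟶ L.X 0) (hπ : LinearMap.range π.hom ⊔ LinearMap.range (L.d (-1) 0).hom = ⊤) :
    ∃ E : DRing.Cx A, DRing.VanishesOutside E (-1) 0 ∧ Nonempty (E.X 0 ≅ F) ∧
      Nonempty (E.X (-1) ≅ ModuleCat.of A
        (LinearMap.ker (π.hom.coprod (-(L.d (-1) 0).hom)))) ∧
      Nonempty (DRing.toD E ≅ DRing.toD L) := by
  let W := LinearMap.ker (π.hom.coprod (-(L.d (-1) 0).hom))
  let d : ModuleCat.of A W ⟶ F := ModuleCat.ofHom (X := W) ((LinearMap.fst A F (L.X (-1))).comp W.subtype)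
  let E : DRing.Cx A := double d rel_neg_one_zero
  have hE : DRing.VanishesOutside E (-1) 0 := fun i hi =>
    isZero_double_X d rel_neg_one_zero i (by omega) (by omega)
  let q₁ : ModuleCat.of A W ⟶ L.X (-1) := ModuleCat.ofHom (X := W) ((LinearMap.snd A F (L.X (-1))).comp W.subtype)
  have hcomm : q₁ ≫ L.d (-1) 0 = d ≫ π := by
    ext w
    have hw : π.hom w.1.1 + -(L.d (-1) 0).hom w.1.2 = 0 := w.2
    show (L.d (-1) 0).hom w.1.2 = π.hom w.1.1
    exact (add_neg_eq_zero.1 hw).symm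
  let q : E ⟶ L := mkHomFromDouble rel_neg_one_zero (by omega) q₁ π hcomm fun k hk => by
    have : k = 1 := by simp at hk; omega
    subst this
    exact (hL 1 (by omega)).eq_of_tgt _ _
  have hq₀ : q.f 0 = (doubleXIso₁ d rel_neg_one_zero (by omega)).hom ≫ π := mkHomFromDouble_f₁ _ _ _ _ _ _
  have hq₁ : q.f (-1) = (doubleXIso₀ d rel_neg_one_zero).hom ≫ q₁ := mkHomFromDouble_f₀ _ _ _ _ _ _
  have hd : E.d (-1) 0 = (doubleXIso₀ d rel_neg_one_zero).hom ≫ d ≫ (doubleXIso₁ d rel_neg_one_zero (by omega)).inv :=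
    double_d d rel_neg_one_zero (by omega)
  let ε₀ := (doubleXIso₁ d rel_neg_one_zero (show (-1 : ℤ) ≠ 0 by omega))
  let ε₁ := (doubleXIso₀ d rel_neg_one_zero)
  have hqiso : QuasiIso q := quasiIso_of_cone q fun i => by
    by_cases h2 : i < -2 ∨ 0 < i
    · exact ShortComplex.exact_of_isZero_X₂ _ (isZero_cone_X q (hE (i + 1) (by omega)) (hL i (by omega)))
    · refine exactAt_cone_of_elements q i fun a l ha hl => ?_
      obtain rfl | rfl | rfl : i = -2 ∨ i = -1 ∨ i = 0 := by omega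
      · haveI := ModuleCat.subsingleton_of_isZero (hL (-2) (by omega))
        refine ⟨0, 0, ?_, Subsingleton.elim _ _⟩
        rw [map_zero, neg_zero]
        change (q.f (-1)).hom a + (L.d (-2) (-1)).hom l = 0 at hl
        change (E.d (-1) 0).hom a = 0 at ha
        rw [Subsingleton.elim l 0, map_zero, add_zero, hq₁] at hl
        rw [hd] at ha
        have h1 : (ε₁.hom.hom a : W).1.1 = 0 := by
          have := congrArg ε₀.hom.hom ha
          simpa [d, ε₀, ε₁] using this
        have h2 : (ε₁.hom.hom a : W).1.2 = 0 := hl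
        have h3 : ε₁.hom.hom a = 0 := Subtype.ext (Prod.ext h1 h2)
        simpa using congrArg ε₁.inv.hom h3
      · change (q.f 0).hom a + (L.d (-1) 0).hom l = 0 at hl
        rw [hq₀] at hl
        let w : W := ⟨(ε₀.hom.hom a, -l), by
          show π.hom (ε₀.hom.hom a) + -(L.d (-1) 0).hom (-l) = 0
          rw [map_neg, neg_neg]
          exact hl⟩
        refine ⟨-ε₁.inv.hom w, 0, ?_, ?_⟩
        · change a = -(E.d (-1) 0).hom (-ε₁.inv.hom w)
          rw [map_neg, neg_neg, hd]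
          have hw : ε₁.hom.hom (ε₁.inv.hom w) = w :=
            LinearMap.congr_fun (congrArg ModuleCat.Hom.hom ε₁.inv_hom_id) w
          show a = ε₀.inv.hom (d.hom (ε₁.hom.hom (ε₁.inv.hom w)))
          rw [hw]
          exact (LinearMap.congr_fun (congrArg ModuleCat.Hom.hom ε₀.hom_inv_id) a).symm
        · rw [map_zero, add_zero, map_neg, hq₁]
          have hw : ε₁.hom.hom (ε₁.inv.hom w) = w :=
            LinearMap.congr_fun (congrArg ModuleCat.Hom.hom ε₁.inv_hom_id) w
          show l = -(q₁.hom (ε₁.hom.hom (ε₁.inv.hom w)))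
          rw [hw]
          show l = -(-l)
          rw [neg_neg]
      · haveI := ModuleCat.subsingleton_of_isZero (hE 1 (by omega))
        obtain ⟨y, ⟨x, hx⟩, z, ⟨l', hl'⟩, hyz⟩ := Submodule.mem_sup.1 (hπ.ge (Submodule.mem_top (x := l)))
        refine ⟨ε₀.inv.hom x, l', Subsingleton.elim (α := E.X 1) _ _, ?_⟩
        change l = (q.f 0).hom (ε₀.inv.hom x) + (L.d (-1) 0).hom l'
        rw [hq₀]
        have hw : ε₀.hom.hom (ε₀.inv.hom x) = x :=
          LinearMap.congr_fun (congrArg ModuleCat.Hom.hom ε₀.inv_hom_id) x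
        show l = π.hom (ε₀.hom.hom (ε₀.inv.hom x)) + _
        rw [hw, hx, hl', hyz]
  haveI := hqiso
  exact ⟨E, hE, ⟨ε₀⟩, ⟨ε₁⟩, ⟨asIso (DerivedCategory.Q.map q)⟩⟩

/-- Two-term representatives with free top term. -/
theorem exists_twoTerm_free (K : Dual.D A) (hK : ∀ i : ℤ, i ≠ -1 → i ≠ 0 → Subsingleton (Dual.HD A K i)) :
    ∃ E : DRing.Cx A, DRing.VanishesOutside E (-1) 0 ∧ Module.Free A (E.X 0) ∧ Nonempty (DRing.toD E ≅ K) := by
  obtain ⟨L, hL, ⟨e⟩⟩ := exists_twoTerm_strict K hK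
  let π : ModuleCat.of A (L.X 0 →₀ A) ⟶ L.X 0 :=
    ModuleCat.ofHom (Finsupp.linearCombination A (id : L.X 0 → L.X 0))
  have hπ : LinearMap.range π.hom ⊔ LinearMap.range (L.d (-1) 0).hom = ⊤ := by
    rw [LinearMap.range_eq_top.2 fun m => ⟨Finsupp.single m 1, by simp [π]⟩, top_sup_eq]
  obtain ⟨E, hE, ⟨e₀⟩, -, ⟨e'⟩⟩ := exists_twoTerm_of_cover hL _ π hπ
  haveI : Module.Free A (L.X 0 →₀ A) := inferInstance
  exact ⟨E, hE, Module.Free.of_equiv e₀.toLinearEquiv.symm, ⟨e' ≪≫ e⟩⟩

/-- Two-term representatives with finite free top term, over a Noetherian ring. -/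
theorem exists_twoTerm_finite [IsNoetherianRing A] (K : Dual.D A)
    (hK : ∀ i : ℤ, i ≠ -1 → i ≠ 0 → Subsingleton (Dual.HD A K i))
    (h1 : Module.Finite A (Dual.HD A K (-1))) (h0 : Module.Finite A (Dual.HD A K 0)) :
    ∃ E : DRing.Cx A, DRing.VanishesOutside E (-1) 0 ∧ Module.Free A (E.X 0) ∧ Module.Finite A (E.X 0) ∧
      Module.Finite A (E.X (-1)) ∧ Nonempty (DRing.toD E ≅ K) := by
  obtain ⟨L, hL, ⟨e⟩⟩ := exists_twoTerm_strict K hK
  have hfin : ∀ i, Module.Finite A (Dual.HD A K i) → Module.Finite A (L.homology i) := fun i h =>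
    @Module.Finite.equiv _ _ _ _ _ _ _ _ h
      (((DerivedCategory.homologyFunctor (ModuleCat.{u} A) i).mapIso e.symm) ≪≫ homologyIso L i).toLinearEquiv
  obtain ⟨r, G, -, hgen⟩ := exists_cycles L (-1) 0 1 (by omega) (by omega) (hfin 0 h0)
  have hd01 : L.d 0 1 = 0 := (hL 1 (by omega)).eq_of_tgt _ _
  have hπ : LinearMap.range G.hom ⊔ LinearMap.range (L.d (-1) 0).hom = ⊤ := by
    refine eq_top_iff.2 fun x _ => ?_
    obtain ⟨a, w, rfl⟩ := hgen x (by rw [hd01]; rfl)
    exact Submodule.add_mem_sup ⟨a, rfl⟩ ⟨w, rfl⟩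
  obtain ⟨r', G', hG', hgen'⟩ := exists_cycles L (-2) (-1) 0 (by omega) (by omega) (hfin (-1) h1)
  haveI : Module.Finite A (LinearMap.ker (L.d (-1) 0).hom) := by
    haveI := ModuleCat.subsingleton_of_isZero (hL (-2) (by omega))
    refine Module.Finite.of_surjective (G'.hom.codRestrict (LinearMap.ker (L.d (-1) 0).hom) fun a =>
      LinearMap.congr_fun (congrArg ModuleCat.Hom.hom hG') a) fun x => ?_
    obtain ⟨a, w, hx⟩ := hgen' x.1 x.2
    refine ⟨a, Subtype.ext ?_⟩
    rw [hx, Subsingleton.elim w 0, map_zero, add_zero]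
    rfl
  obtain ⟨E, hE, ⟨e₀⟩, ⟨e₁⟩, ⟨e'⟩⟩ := exists_twoTerm_of_cover hL (ModuleCat.of A (Fin r → A)) G hπ
  let W := LinearMap.ker (G.hom.coprod (-(L.d (-1) 0).hom))
  have hWfst : ∀ w : W, G.hom w.1.1 = (L.d (-1) 0).hom w.1.2 := fun w => by
    have hw : G.hom w.1.1 + -(L.d (-1) 0).hom w.1.2 = 0 := w.2
    exact add_neg_eq_zero.1 hw
  let j : LinearMap.ker (L.d (-1) 0).hom →ₗ[A] W :=
    ((LinearMap.inr A (Fin r → A) (L.X (-1))).comp (Submodule.subtype _)).codRestrict W fun x => by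
      show G.hom 0 + -(L.d (-1) 0).hom x.1 = 0
      rw [map_zero, zero_add, show (L.d (-1) 0).hom x.1 = 0 from x.2, neg_zero]
  let p : W →ₗ[A] (Fin r → A) := (LinearMap.fst A (Fin r → A) (L.X (-1))).comp W.subtype
  haveI : Module.Finite A W := by
    haveI : Module.Finite A (LinearMap.range j) := Module.Finite.range j
    have hker : LinearMap.ker p = LinearMap.range j := by
      ext w
      refine ⟨fun hw => ?_, ?_⟩
      · have hw' : w.1.1 = 0 := hw
        refine ⟨⟨w.1.2, ?_⟩, Subtype.ext (Prod.ext hw'.symm rfl)⟩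
        show (L.d (-1) 0).hom w.1.2 = 0
        rw [← hWfst, hw', map_zero]
      · rintro ⟨x, rfl⟩
        rfl
    haveI : Module.Finite A (LinearMap.ker p) := by rw [hker]; infer_instance
    haveI : Module.Finite A (LinearMap.range p) := inferInstance
    refine ⟨Submodule.fg_of_fg_map_of_fg_inf_ker p ?_ ?_⟩
    · rw [Submodule.map_top]
      exact (Module.Finite.iff_fg).1 inferInstance
    · rw [top_inf_eq]
      exact (Module.Finite.iff_fg).1 inferInstance
  exact ⟨E, hE, Module.Free.of_equiv e₀.toLinearEquiv.symm, Module.Finite.equiv e₀.toLinearEquiv.symm,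
    Module.Finite.equiv e₁.toLinearEquiv.symm, ⟨e' ≪≫ e⟩⟩

section Hom

/-- Maps into an acyclic complex living in degrees `≥ -2` out of a complex in degrees `≤ 0` with projective
degree `0` term are null-homotopic. -/
theorem nonempty_homotopy_zero {M C : DRing.Cx A} (hM : ∀ i, 0 < i → IsZero (M.X i))
    (hM0 : Module.Projective A (M.X 0)) (hC : ∀ i, i < -2 → IsZero (C.X i)) (hCa : C.Acyclic) (f : M ⟶ C) :
    Nonempty (Homotopy f 0) := by
  haveI : Projective (M.X 0) := (projective_iff _).1 hM0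
  have hS₀ : (C.sc' (-1) 0 1).Exact := (exactAt_iff' C (-1) 0 1 (by simp) (by simp)).1 (hCa 0)
  have hS₁ : (C.sc' (-2) (-1) 0).Exact := (exactAt_iff' C (-2) (-1) 0 (by simp) (by simp)).1 (hCa (-1))
  haveI : Mono (C.sc' (-2) (-1) 0).f :=
    ((exactAt_iff' C (-3) (-2) (-1) (by simp) (by simp)).1 (hCa (-2))).mono_g
      ((hC (-3) (by omega)).eq_of_src _ _)
  have hf₀ : f.f 0 ≫ C.d 0 1 = 0 := by rw [f.comm]; exact ((hM 1 one_pos).eq_of_tgt (M.d 0 1) 0).symm ▸ zero_comp
  let h₀ : M.X 0 ⟶ C.X (-1) := hS₀.liftFromProjective (f.f 0) hf₀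
  have hh₀ : h₀ ≫ C.d (-1) 0 = f.f 0 := hS₀.liftFromProjective_comp _ _
  let g : M.X (-1) ⟶ C.X (-1) := f.f (-1) - M.d (-1) 0 ≫ h₀
  have hg : g ≫ C.d (-1) 0 = 0 := by simp [g, hh₀]
  let h₁ : M.X (-1) ⟶ C.X (-2) := hS₁.lift g hg
  have hh₁ : h₁ ≫ C.d (-2) (-1) = g := hS₁.lift_f g hg
  let h : ∀ p q : ℤ, M.X p ⟶ C.X q := fun p q =>
    if hpq : p = 0 ∧ q = -1 then eqToHom (by rw [hpq.1]) ≫ h₀ ≫ eqToHom (by rw [hpq.2])
    else if hpq' : p = -1 ∧ q = -2 then eqToHom (by rw [hpq'.1]) ≫ h₁ ≫ eqToHom (by rw [hpq'.2])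
    else 0
  have e₀ : h 0 (-1) = h₀ := by simp [h]
  have e₁ : h (-1) (-2) = h₁ := by simp [h]
  refine ⟨{ hom := h, zero := fun p q hpq => ?_, comm := fun i => ?_ }⟩
  · simp only [ComplexShape.up_Rel] at hpq
    simp only [h]
    rw [dif_neg (fun hh => hpq (by omega)), dif_neg (fun hh => hpq (by omega))]
  · rw [dNext_eq h (show (ComplexShape.up ℤ).Rel i (i + 1) from rfl),
      prevD_eq h (show (ComplexShape.up ℤ).Rel (i - 1) i by simp), HomologicalComplex.zero_f_apply, add_zero]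
    by_cases hi : 0 < i
    · exact (hM i hi).eq_of_src _ _
    by_cases hi' : i < -2
    · exact (hC i hi').eq_of_tgt _ _
    obtain rfl | rfl | rfl : i = -2 ∨ i = -1 ∨ i = 0 := by omega
    · have hz : h (-2) (-3) = 0 := (hC (-3) (by omega)).eq_of_tgt _ _
      rw [show (-2 : ℤ) - 1 = -3 by omega, hz, zero_comp, add_zero, show (-2 : ℤ) + 1 = -1 by omega, e₁]
      refine (cancel_mono (C.sc' (-2) (-1) 0).f).1 ?_
      change f.f (-2) ≫ C.d (-2) (-1) = (M.d (-2) (-1) ≫ h₁) ≫ C.d (-2) (-1)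
      rw [Category.assoc, hh₁, f.comm]
      simp [g]
    · rw [show (-1 : ℤ) - 1 = -2 by omega, show (-1 : ℤ) + 1 = 0 by omega, e₀, e₁, hh₁]
      simp [g]
    · rw [show (0 : ℤ) - 1 = -1 by omega, e₀, hh₀, (hM (0 + 1) (by omega)).eq_of_tgt (M.d 0 (0 + 1)) 0,
        zero_comp, zero_add]

/-- Maps in the homotopy category are maps in the derived category, in this range. -/
theorem Qh_map_bijective (M K : DRing.Cx A) (hM : ∀ i, 0 < i → IsZero (M.X i))
    (hM0 : Module.Projective A (M.X 0)) (hK : ∀ i, i ≤ -2 → IsZero (K.X i)) :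
    Function.Bijective (fun φ : (HomotopyCategory.quotient (ModuleCat.{u} A) (ComplexShape.up ℤ)).obj M ⟶
        (HomotopyCategory.quotient (ModuleCat.{u} A) (ComplexShape.up ℤ)).obj K =>
      DerivedCategory.Qh.map φ) := by
  let q := HomotopyCategory.quotient (ModuleCat.{u} A) (ComplexShape.up ℤ)
  haveI : K.IsStrictlyGE (-1) := (CochainComplex.isStrictlyGE_iff K (-1)).2 fun i hi => hK i (by omega)
  obtain ⟨I, j, hIge, hIinj, hj⟩ :
      ∃ (I : DRing.Cx A) (j : K ⟶ I), CochainComplex.IsStrictlyGE I (-1) ∧ CochainComplex.IsKInjective I ∧ QuasiIso j := by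
    obtain ⟨L, hL, i, hi⟩ := CochainComplex.Plus.exists_quasiIso_injective
      (C := ModuleCat.{u} A) ⟨K, -1, inferInstance⟩ (-1)
    let I := ((InjectiveObject.ι (ModuleCat.{u} A)).mapHomologicalComplex (.up ℤ)).obj L.obj
    haveI : ∀ n, CategoryTheory.Injective (I.X n) := fun n => (L.obj.X n).property
    haveI : CochainComplex.IsStrictlyGE I (-1) :=
      (CochainComplex.isStrictlyGE_mapHomologicalComplex_obj_iff _ (InjectiveObject.ι _) _).2 hL
    exact ⟨I, i.hom, inferInstance, CochainComplex.isKInjective_of_injective I (-1), hi⟩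
  haveI := hj
  have hCv : ∀ i, i < -2 → IsZero ((mappingCone j).X i) := fun i hi =>
    isZero_cone_X j (hK (i + 1) (by omega)) (I.isZero_of_isStrictlyGE (-1) i (by omega))
  have hCa : (mappingCone j).Acyclic := (GrothLib.DerCat.quasiIso_iff_acyclic_mappingCone j).1 inferInstance
  have hnull : ∀ (C : DRing.Cx A), (∀ i, i < -2 → IsZero (C.X i)) → C.Acyclic →
      ∀ φ : q.obj M ⟶ q.obj C, φ = 0 := fun C hC hCac φ => by
    obtain ⟨f, rfl⟩ := q.map_surjective φ
    obtain ⟨h⟩ := nonempty_homotopy_zero hM hM0 hC hCac f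
    rw [HomotopyCategory.eq_of_homotopy _ _ h, Functor.map_zero]
  have hT := HomotopyCategory.mappingCone_triangleh_distinguished j
  have hbij : Function.Bijective (fun φ : q.obj M ⟶ q.obj K => φ ≫ q.map j) := by
    constructor
    · intro φ ψ hφψ
      have h0 : (φ - ψ) ≫ q.map j = 0 := by rw [Preadditive.sub_comp]; exact sub_eq_zero.2 hφψ
      obtain ⟨θ, hθ⟩ := Triangle.coyoneda_exact₂ _ (inv_rot_of_distTriang _ hT) (φ - ψ) h0
      have hz : θ = 0 := by
        let e := (q.commShiftIso (-1 : ℤ)).app (mappingCone j)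
        have h1 := hnull _ (fun i hi => hCv (i + -1) (by omega)) (GrothLib.DerCat.acyclic_shift hCa (-1)) (θ ≫ e.inv)
        simpa using congrArg (· ≫ e.hom) h1
      exact sub_eq_zero.1 (hθ.trans ((congrArg (fun t => t ≫ _) hz).trans zero_comp))
    · intro g
      obtain ⟨φ, hφ⟩ := Triangle.coyoneda_exact₂ _ hT g (hnull _ hCv hCa _)
      exact ⟨φ, hφ.symm⟩
  have hI : Function.Bijective (fun φ : q.obj M ⟶ q.obj I => DerivedCategory.Qh.map φ) :=
    CochainComplex.IsKInjective.Qh_map_bijective (q.obj M) I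
  haveI : IsIso (DerivedCategory.Qh.map (q.map j)) :=
    Localization.inverts DerivedCategory.Qh (HomotopyCategory.quasiIso (ModuleCat.{u} A) (ComplexShape.up ℤ)) _
      ((HomotopyCategory.quotient_map_mem_quasiIso_iff j).2 hj)
  have hpost : Function.Bijective (fun φ : DerivedCategory.Qh.obj (q.obj M) ⟶ DerivedCategory.Qh.obj (q.obj K) =>
      φ ≫ DerivedCategory.Qh.map (q.map j)) :=
    ⟨fun a b h => (cancel_mono _).1 h, fun g => ⟨g ≫ inv (DerivedCategory.Qh.map (q.map j)), by simp⟩⟩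
  have hcomp : (fun φ : DerivedCategory.Qh.obj (q.obj M) ⟶ DerivedCategory.Qh.obj (q.obj K) =>
      φ ≫ DerivedCategory.Qh.map (q.map j)) ∘ (fun φ : q.obj M ⟶ q.obj K => DerivedCategory.Qh.map φ) =
      (fun φ : q.obj M ⟶ q.obj I => DerivedCategory.Qh.map φ) ∘ fun φ : q.obj M ⟶ q.obj K => φ ≫ q.map j :=
    funext fun φ => (Functor.map_comp _ _ _).symm
  exact (Function.Bijective.of_comp_iff' hpost _).1 (hcomp ▸ hI.comp hbij)

end Hom

end GrothLib.DR
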