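import Groth.Agent.Lib.DCxKFlat.LBaseKFlat
import Groth.Agent.Lib.DCxRing.BC

/-!
# Tor amplitude over a base ring and faithfully flat base change
-/

set_option autoImplicit false
set_option maxHeartbeats 800000
universe u

open CategoryTheory CategoryTheory.Limits MonoidalCategory HomologicalComplex

attribute [local instance] HasDerivedCategory.standard

namespace GrothLib.DR

variable {R A B : Type u} [CommRing R] [CommRing A] [CommRing B]

/-- Tensoring with `Q` after restriction. -/
theorem exactAt_restrict_tensor_iff (φ : R →+* A) (Y : DRing.Cx A) (Q : DRing.Cx R) (i : ℤ) :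
    (((DRing.restrictCx φ).obj Y) ⊗ Q).ExactAt i ↔ (Y ⊗ (bc φ).obj Q).ExactAt i :=
  (KF.exactAt_iff_of_iso (KF.baseChangeTensorIso φ Y Q) i).symm.trans (KF.exactAt_restrict_iff φ _ i)

/-- The ring as a restricted tensor factor. -/
noncomputable def restrictBcIso (ψ : A →+* B) (P : DRing.Cx A) :
    (DRing.restrictCx ψ).obj ((bc ψ).obj P) ≅
      DRing.tensorCx P ((ModuleCat.restrictScalars ψ).obj (ModuleCat.of B B)) :=
  (DRing.restrictCx ψ).mapIso (KF.tensorCxUnitIso ((bc ψ).obj P)).symm ≪≫
    KF.tensorRestrictIso ψ P (ModuleCat.of B B)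

/-- Exactness of a tensor product with the restriction of a faithfully flat base change. -/
theorem exactAt_restrict_bc_tensor_iff [Algebra A B] [Module.FaithfullyFlat A B] (P Q : DRing.Cx A) (i : ℤ) :
    (((DRing.restrictCx (algebraMap A B)).obj ((bc (algebraMap A B)).obj P)) ⊗ Q).ExactAt i ↔
      (P ⊗ Q).ExactAt i := by
  let ψ := algebraMap A B
  let M := (ModuleCat.restrictScalars ψ).obj (ModuleCat.of B B)
  let S := (single (ModuleCat.{u} A) (ComplexShape.up ℤ) 0).obj M
  have e : ((DRing.restrictCx ψ).obj ((bc ψ).obj P)) ⊗ Q ≅ DRing.tensorCx (P ⊗ Q) M :=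
    whiskerRightIso (restrictBcIso ψ P ≪≫ KF.singleIso P M) Q ≪≫ α_ P S Q ≪≫
      whiskerLeftIso P (KF.tensorCxSymm Q S) ≪≫ (α_ P Q S).symm ≪≫ (KF.singleIso (P ⊗ Q) M).symm
  haveI := preservesFiniteLimits_extendScalars ψ (flat_algebraMap (A := A) (B := B))
  haveI : PreservesFiniteColimits (ModuleCat.extendScalars.{u, u, u} ψ) :=
    PreservesColimitsOfSize.preservesFiniteColimits.{0, 0} _
  have h1 : (DRing.tensorCx (P ⊗ Q) M).ExactAt i ↔ ((bc ψ).obj (P ⊗ Q)).ExactAt i := by
    refine Iff.trans ?_ (exactAt_bc_iff ψ (P ⊗ Q) i).symm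
    letI := ψ.toAlgebra
    exact (tExact_iff (P ⊗ Q) M i).symm
  rw [KF.exactAt_iff_of_iso e i, h1, exactAt_iff_isZero_homology, exactAt_iff_isZero_homology]
  refine ⟨fun h => covers_faithfullyFlat (A := A) (B := B) _ fun _ => h.of_iso (mapHomologyIso _ _ i).symm,
    fun h => ((ModuleCat.extendScalars.{u, u, u} ψ).map_isZero h).of_iso (mapHomologyIso _ _ i)⟩

/-- Restrictions compose. -/
noncomputable def restrictCompIso [Algebra R A] [Algebra A B] [Algebra R B] [IsScalarTower R A B]
    (Y : DRing.Cx B) :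
    (DRing.restrictCx (algebraMap R B)).obj Y ≅
      (DRing.restrictCx (algebraMap R A)).obj ((DRing.restrictCx (algebraMap A B)).obj Y) :=
  HomologicalComplex.Hom.isoOfComponents
    (fun j => (ModuleCat.restrictScalarsComp'App (algebraMap R A) (algebraMap A B) (algebraMap R B)
      (IsScalarTower.algebraMap_eq R A B) (Y.X j)))
    fun j k _ => by ext x; rfl

/-- Tor amplitude over `R` descends and ascends along a faithfully flat base change. -/
theorem hasTorAmplitudeIn_restrict_iff [Algebra R A] [Algebra A B] [Algebra R B] [IsScalarTower R A B]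
    [Module.FaithfullyFlat A B] [DRing.HasLBaseChange (algebraMap A B)] (K : Dual.D A) (a b : ℤ) :
    DRing.HasTorAmplitudeIn R a b ((DRing.restrictD (algebraMap R A)).obj K) ↔
      DRing.HasTorAmplitudeIn R a b
        ((DRing.restrictD (algebraMap R B)).obj ((DRing.LBaseChange (algebraMap A B)).obj K)) := by
  obtain ⟨P, hP, -, ⟨e⟩⟩ := KF.exists_kflat_rep K
  obtain ⟨e'⟩ := KF.lBase_value (algebraMap A B) hP
  let e₁ : DRing.toD ((DRing.restrictCx (algebraMap R A)).obj P) ≅
      (DRing.restrictD (algebraMap R A)).obj K :=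
    (restrictToDIso _ P).symm ≪≫ (DRing.restrictD (algebraMap R A)).mapIso e
  let e₂ : DRing.toD ((DRing.restrictCx (algebraMap R B)).obj ((bc (algebraMap A B)).obj P)) ≅
      (DRing.restrictD (algebraMap R B)).obj ((DRing.LBaseChange (algebraMap A B)).obj K) :=
    (restrictToDIso _ _).symm ≪≫ (DRing.restrictD (algebraMap R B)).mapIso
      (e'.symm ≪≫ (DRing.LBaseChange (algebraMap A B)).mapIso e)
  have hiff : ∀ (Q : DRing.Cx R) (i : ℤ),
      (((DRing.restrictCx (algebraMap R A)).obj P) ⊗ Q).ExactAt i ↔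
        (((DRing.restrictCx (algebraMap R B)).obj ((bc (algebraMap A B)).obj P)) ⊗ Q).ExactAt i := fun Q i => by
    rw [KF.exactAt_iff_of_iso (whiskerRightIso (restrictCompIso (R := R) (A := A) ((bc (algebraMap A B)).obj P)) Q) i,
      exactAt_restrict_tensor_iff, exactAt_restrict_tensor_iff, exactAt_restrict_bc_tensor_iff]
  constructor
  · intro h
    refine hasTorAmplitudeIn_of_iso e₂ ((KF.hasTorAmplitudeIn_iff_resolution _ a b).2 fun N i hi => ?_)
    exact (hiff _ i).1 ((KF.hasTorAmplitudeIn_iff_resolution _ a b).1 (hasTorAmplitudeIn_of_iso e₁.symm h) N i hi)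
  · intro h
    refine hasTorAmplitudeIn_of_iso e₁ ((KF.hasTorAmplitudeIn_iff_resolution _ a b).2 fun N i hi => ?_)
    exact (hiff _ i).2 ((KF.hasTorAmplitudeIn_iff_resolution _ a b).1 (hasTorAmplitudeIn_of_iso e₂.symm h) N i hi)

end GrothLib.DR
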