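import Groth.Agent.Lib.DCxRing.Fibres
import Groth.Agent.Lib.DCxRing.Splitting
import Mathlib.LinearAlgebra.Charpoly.BaseChange
import Mathlib.RingTheory.Localization.FractionRing

/-!
# Contractions near a prime where the fibre is exact
-/

set_option autoImplicit false
universe u

open CategoryTheory CategoryTheory.Limits HomologicalComplex TensorProduct Polynomial

attribute [local instance] HasDerivedCategory.standard

namespace GrothLib.DR

variable {A : Type u} [CommRing A] (p : Ideal A) [p.IsPrime]

/-- Clearing denominators in a map of fibres. -/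
theorem exists_lift_residueField {M N : Type u} [AddCommGroup M] [Module A M] [AddCommGroup N] [Module A N]
    [Module.Finite A M] [Module.Free A M]
    (φ : p.ResidueField ⊗[A] M →ₗ[p.ResidueField] p.ResidueField ⊗[A] N) :
    ∃ (a : A) (r : M →ₗ[A] N), a ∉ p ∧ ∀ x, r.baseChange p.ResidueField x = algebraMap A p.ResidueField a • φ x := by
  classical
  have hel : ∀ z : p.ResidueField ⊗[A] N, ∃ a : A, a ∉ p ∧ ∃ n : N, algebraMap A p.ResidueField a • z = 1 ⊗ₜ[A] n := fun z => by
    induction z using TensorProduct.induction_on with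
    | zero => exact ⟨1, fun h => Ideal.IsPrime.ne_top ‹_› ((Ideal.eq_top_iff_one p).2 h), 0, by simp⟩
    | tmul y n =>
      obtain ⟨b, c, hc, rfl⟩ := IsFractionRing.div_surjective (A := A ⧸ p) y
      obtain ⟨b, rfl⟩ := Ideal.Quotient.mk_surjective b
      obtain ⟨c, rfl⟩ := Ideal.Quotient.mk_surjective c
      have hc0 : Ideal.Quotient.mk p c ≠ 0 := mem_nonZeroDivisors_iff_ne_zero.1 hc
      refine ⟨c, fun h => hc0 (Ideal.Quotient.eq_zero_iff_mem.2 h), b • n, ?_⟩
      rw [TensorProduct.smul_tmul', smul_eq_mul, ← TensorProduct.smul_tmul, Algebra.smul_def, mul_one]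
      rw [← Ideal.algebraMap_quotient_residueField_mk p b, ← Ideal.algebraMap_quotient_residueField_mk p c,
        mul_div_cancel₀ _ ((map_ne_zero_iff _ (Ideal.injective_algebraMap_quotient_residueField p)).2 hc0)]
    | add y z hy hz =>
      obtain ⟨a, ha, n, hn⟩ := hy
      obtain ⟨b, hb, m, hm⟩ := hz
      refine ⟨a * b, fun h => (Ideal.IsPrime.mem_or_mem ‹_› h).elim ha hb, b • n + a • m, ?_⟩
      rw [TensorProduct.tmul_add, TensorProduct.tmul_smul, TensorProduct.tmul_smul, ← hn, ← hm, smul_add, map_mul,
        ← algebraMap_smul p.ResidueField b, ← algebraMap_smul p.ResidueField a, smul_smul, smul_smul,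
        mul_comm (algebraMap A p.ResidueField b)]
  let bM := Module.Free.chooseBasis A M
  choose a ha n hn using fun k => hel (φ (1 ⊗ₜ[A] bM k))
  refine ⟨∏ k, a k, bM.constr A fun k => (∏ l ∈ Finset.univ.erase k, a l) • n k, fun h => ?_, fun x => ?_⟩
  · obtain ⟨k, -, hk⟩ := (Ideal.IsPrime.prod_mem_iff).1 h
    exact ha k hk
  · refine LinearMap.congr_fun (f := (bM.constr A fun k => (∏ l ∈ Finset.univ.erase k, a l) • n k).baseChange p.ResidueField)
      (g := algebraMap A p.ResidueField (∏ k, a k) • φ) ((Algebra.TensorProduct.basis p.ResidueField bM).ext fun k => ?_) x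
    rw [Algebra.TensorProduct.basis_apply, LinearMap.baseChange_tmul, Module.Basis.constr_basis, LinearMap.smul_apply,
      TensorProduct.tmul_smul, ← hn, ← algebraMap_smul p.ResidueField (∏ l ∈ Finset.univ.erase k, a l), smul_smul,
      ← map_mul, Finset.prod_erase_mul Finset.univ a (Finset.mem_univ k)]

/-- A contraction in degree `i` after inverting an element outside `p`. -/
theorem exists_contraction_near (P : DRing.Cx A) (hP : DRing.TermwiseFiniteFree P) (i : ℤ)
    (h : ((bc (algebraMap A p.ResidueField)).obj P).ExactAt i) :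
    ∃ (f : A) (u : P.X (i + 1) →ₗ[A] P.X i) (v : P.X i →ₗ[A] P.X (i - 1)), f ∉ p ∧
      ∀ x, u ((P.d i (i + 1)).hom x) + (P.d (i - 1) i).hom (v x) = f • x := by
  haveI := (hP i).1
  haveI := (hP i).2
  haveI := (hP (i + 1)).1
  haveI := (hP (i + 1)).2
  let κ := p.ResidueField
  let d₁ := (P.d (i - 1) i).hom
  let d₂ := (P.d i (i + 1)).hom
  have hdd : ∀ x, d₂ (d₁ x) = 0 := fun x => ConcreteCategory.congr_hom (P.d_comp_d _ _ _) x
  have hex : Function.Exact (d₁.baseChange κ) (d₂.baseChange κ) := by
    have h1 := (exactAt_bc_iff (algebraMap A κ) P i).1 h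
    have heq : (algebraMap A κ).toAlgebra = (inferInstance : Algebra A κ) := Algebra.algebra_ext _ _ fun _ => rfl
    rw [heq] at h1
    exact Function.Exact.of_ladder_linearEquiv_of_exact
      (f₁₂ := d₁.rTensor κ) (f₂₃ := d₂.rTensor κ)
      (g₁₂ := (d₁.baseChange κ).restrictScalars A) (g₂₃ := (d₂.baseChange κ).restrictScalars A)
      (e₁ := TensorProduct.comm A (P.X (i - 1)) κ) (e₂ := TensorProduct.comm A (P.X i) κ)
      (e₃ := TensorProduct.comm A (P.X (i + 1)) κ) (TensorProduct.ext' fun _ _ => by simp)
      (TensorProduct.ext' fun _ _ => by simp) h1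
  obtain ⟨r₀, s₀, h0⟩ := exists_contraction (d₁.baseChange κ) (d₂.baseChange κ) hex
  obtain ⟨a, r, ha, hr⟩ := exists_lift_residueField p r₀
  obtain ⟨b, s, hb, hs⟩ := exists_lift_residueField p s₀
  let T : Module.End A (P.X i) := b • (r ∘ₗ d₂) + a • (d₁ ∘ₗ s)
  let c := algebraMap A κ (a * b)
  have hT : LinearMap.baseChange κ T = c • (1 : Module.End κ (κ ⊗[A] P.X i)) := by
    refine LinearMap.ext fun x => ?_
    rw [LinearMap.baseChange_add, LinearMap.baseChange_smul, LinearMap.baseChange_smul,
      LinearMap.add_apply, LinearMap.smul_apply, LinearMap.smul_apply, LinearMap.baseChange_comp,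
      LinearMap.baseChange_comp, LinearMap.comp_apply, LinearMap.comp_apply, hr, hs, map_smul,
      ← algebraMap_smul κ b, ← algebraMap_smul κ a, smul_smul, smul_smul, ← map_mul, ← map_mul, mul_comm b a,
      ← smul_add, h0]
    rfl
  let χ := LinearMap.charpoly T
  let n := Module.finrank κ (κ ⊗[A] P.X i)
  have hf : -χ.coeff 0 ∉ p := fun hmem => by
    have h1 : algebraMap A κ (χ.coeff 0) = 0 := by
      rw [Ideal.algebraMap_residueField_eq_zero]
      exact neg_mem_iff.1 hmem
    have h2 : (LinearMap.baseChange κ T).charpoly.coeff 0 = 0 := by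
      rw [LinearMap.charpoly_baseChange, Polynomial.coeff_map]
      exact h1
    rw [Polynomial.coeff_zero_eq_eval_zero, hT, LinearMap.eval_charpoly, map_zero] at h2
    have hc : c ≠ 0 := fun hc => by
      rw [Ideal.algebraMap_residueField_eq_zero] at hc
      exact (Ideal.IsPrime.mem_or_mem ‹_› hc).elim ha hb
    have e1 : (0 : Module.End κ (κ ⊗[A] P.X i)) - c • 1 = (-c) • LinearMap.id := LinearMap.ext fun x => by simp
    have h3 := (congrArg LinearMap.det e1).symm.trans h2
    rw [LinearMap.det_smul, LinearMap.det_id, mul_one] at h3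
    exact pow_ne_zero _ (neg_ne_zero.2 hc) h3
  let q := χ.divX
  let g : Module.End A (P.X i) := aeval T q
  have hgT : ∀ x, g (T x) = (-χ.coeff 0) • x := fun x => by
    have h1 := LinearMap.congr_fun (LinearMap.aeval_self_charpoly T) x
    rw [← Polynomial.divX_mul_X_add (LinearMap.charpoly T), map_add, map_mul, aeval_X, aeval_C] at h1
    rw [neg_smul, eq_neg_iff_add_eq_zero]
    exact h1
  let T' : Module.End A (P.X (i - 1)) := a • (s ∘ₗ d₁)
  have hcomm : ∀ x, T (d₁ x) = d₁ (T' x) := fun x => by
    simp only [T, T', LinearMap.add_apply, LinearMap.smul_apply, LinearMap.comp_apply, hdd, map_zero, smul_zero,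
      zero_add, map_smul]
  have hpow : ∀ (m : ℕ) x, (T ^ m) (d₁ x) = d₁ ((T' ^ m) x) := fun m => by
    induction m with
    | zero => intro x; simp
    | succ m ih =>
      intro x
      rw [pow_succ', Module.End.mul_apply, ih, hcomm, pow_succ', Module.End.mul_apply]
  have hgd : ∀ x, g (d₁ x) = d₁ (aeval T' q x) := fun x => by
    simp only [g, aeval_eq_sum_range, LinearMap.sum_apply, LinearMap.smul_apply, hpow, map_sum, map_smul]
  refine ⟨-χ.coeff 0, b • (g ∘ₗ r), a • ((aeval T' q) ∘ₗ s), hf, fun x => ?_⟩
  rw [← hgT]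
  simp only [T, LinearMap.add_apply, LinearMap.smul_apply, LinearMap.comp_apply, map_add, map_smul, hgd]
  rfl

/-- The contraction after localisation. -/
theorem exists_contraction_away (P : DRing.Cx A) (hP : DRing.TermwiseFiniteFree P) (i : ℤ)
    (h : ((bc (algebraMap A p.ResidueField)).obj P).ExactAt i) :
    ∃ f : A, f ∉ p ∧
      ∃ (u : ((bc (algebraMap A (Localization.Away f))).obj P).X (i + 1) →ₗ[Localization.Away f]
          ((bc (algebraMap A (Localization.Away f))).obj P).X i)
        (v : ((bc (algebraMap A (Localization.Away f))).obj P).X i →ₗ[Localization.Away f]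
          ((bc (algebraMap A (Localization.Away f))).obj P).X (i - 1)),
        ∀ z, u ((((bc (algebraMap A (Localization.Away f))).obj P).d i (i + 1)).hom z) +
          (((bc (algebraMap A (Localization.Away f))).obj P).d (i - 1) i).hom (v z) = z := by
  obtain ⟨f, u, v, hf, huv⟩ := exists_contraction_near p P hP i h
  obtain ⟨w, hw⟩ := (IsLocalization.Away.algebraMap_isUnit (S := Localization.Away f) f).exists_left_inv
  let F := ModuleCat.extendScalars.{u, u, u} (algebraMap A (Localization.Away f))
  refine ⟨f, hf, (w • F.map (ModuleCat.ofHom u)).hom, (w • F.map (ModuleCat.ofHom v)).hom, fun z => ?_⟩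
  letI := (algebraMap A (Localization.Away f)).toAlgebra
  letI : Module A (Localization.Away f) := (algebraMap A (Localization.Away f)).toAlgebra.toModule
  letI : DistribMulAction A (Localization.Away f) :=
    (algebraMap A (Localization.Away f)).toAlgebra.toModule.toDistribMulAction
  letI : SMul A (Localization.Away f) := (algebraMap A (Localization.Away f)).toAlgebra.toSMul
  haveI : SMulCommClass A A (Localization.Away f) := ⟨fun a b y => by
    show algebraMap A _ a * (algebraMap A _ b * y) = algebraMap A _ b * (algebraMap A _ a * y)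
    rw [mul_left_comm]⟩
  haveI : IsScalarTower A A (Localization.Away f) := ⟨fun a b y => by
    show algebraMap A _ (a * b) * y = algebraMap A _ a * (algebraMap A _ b * y)
    rw [map_mul, mul_assoc]⟩
  show w • (F.map (ModuleCat.ofHom u)).hom ((F.map (P.d i (i + 1))).hom z) +
    (F.map (P.d (i - 1) i)).hom (w • (F.map (ModuleCat.ofHom v)).hom z) = z
  rw [map_smul, ← smul_add]
  have key : ∀ z, (F.map (ModuleCat.ofHom u)).hom ((F.map (P.d i (i + 1))).hom z) +
      (F.map (P.d (i - 1) i)).hom ((F.map (ModuleCat.ofHom v)).hom z) = algebraMap A (Localization.Away f) f • z := by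
    intro z
    have key' : F.map (P.d i (i + 1)) ≫ F.map (ModuleCat.ofHom u) + F.map (ModuleCat.ofHom v) ≫ F.map (P.d (i - 1) i) =
        algebraMap A (Localization.Away f) f • 𝟙 (F.obj (P.X i)) := by
      rw [← Functor.map_comp, ← Functor.map_comp, ← Functor.map_add]
      refine ModuleCat.ExtendScalars.hom_ext fun x => ?_
      show (1 : Localization.Away f) ⊗ₜ[A] (u ((P.d i (i + 1)).hom x) + (P.d (i - 1) i).hom (v x)) =
        (algebraMap A (Localization.Away f) f * 1) ⊗ₜ[A] x
      rw [huv, TensorProduct.tmul_smul, TensorProduct.smul_tmul']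
      rfl
    exact ConcreteCategory.congr_hom key' z
  rw [key, smul_smul]
  exact (congrArg (· • z) hw).trans (one_smul (Localization.Away f) z)

omit p in
/-- A contraction kills morphisms to modules in degree `i`. -/
theorem subsingleton_hom_single_of_contraction (P : DRing.Cx A) [P.IsKProjective] (i : ℤ)
    (u : P.X (i + 1) →ₗ[A] P.X i) (v : P.X i →ₗ[A] P.X (i - 1))
    (huv : ∀ z, u ((P.d i (i + 1)).hom z) + (P.d (i - 1) i).hom (v z) = z) (N : Type u) [AddCommGroup N]
    [Module A N] : Subsingleton (DRing.toD P ⟶ (Dual.inD A N)⟦-i⟧) := by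
  refine (subsingleton_hom_single_iff P i N).2 fun g hg => ⟨g ∘ₗ u, fun x => ?_⟩
  conv_rhs => rw [← huv x, map_add, hg, add_zero]
  rfl

end GrothLib.DR
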