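import Groth.Agent.S12898
import Groth.Prelude.Def_TrivBC
import Groth.Agent.Lib.DCxKFlat.Balance
import Groth.Agent.Lib.DCxRing.BC

/-!
# The base change map of a tor independent square
-/

set_option autoImplicit false
set_option maxHeartbeats 1000000
universe u

open CategoryTheory CategoryTheory.Limits HomologicalComplex TensorProduct

attribute [local instance] HasDerivedCategory.standard

namespace GrothLib.DR

variable {A B : Type u} [CommRing A] [CommRing B]

lemma cancel_aux {C : Type*} [Category C] {W X Y Z : C} (a : W ⟶ X) (f : X ≅ Y) (k : Z ≅ Y) (m : Z ⟶ Z)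
    (hm : m = 𝟙 Z) : a = a ≫ f.hom ≫ k.inv ≫ m ≫ k.hom ≫ f.inv := by
  subst hm
  simp

/-- The unit of extension and restriction of scalars on complexes. -/
noncomputable def cxUnit (φ : A →+* B) (P : DRing.Cx A) : P ⟶ (DRing.restrictCx φ).obj ((bc φ).obj P) where
  f i := (ModuleCat.extendRestrictScalarsAdj.{u, u, u} φ).unit.app (P.X i)
  comm' i j _ := ((ModuleCat.extendRestrictScalarsAdj.{u, u, u} φ).unit.naturality (P.d i j)).symm

/-- On a K-flat complex the transpose of the unit computes derived base change, for any adjunction. -/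
theorem isIso_transpose_cxUnit (φ : A →+* B) [DRing.HasLBaseChange φ]
    (adj : DRing.LBaseChange φ ⊣ DRing.restrictD φ) {P : DRing.Cx A} (hP : KF.IsKFlat P) :
    IsIso ((adj.homEquiv (DRing.toD P) (DRing.toD ((bc φ).obj P))).symm
      (DerivedCategory.Q.map (cxUnit φ P) ≫
        (ModuleCat.restrictScalars.{u} φ).mapDerivedCategoryFactors.inv.app ((bc φ).obj P))) := by
  let W₁ := HomotopyCategory.quasiIso (ModuleCat.{u} A) (ComplexShape.up ℤ)
  let W₂ := HomotopyCategory.quasiIso (ModuleCat.{u} B) (ComplexShape.up ℤ)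
  let G' := DRing.LBaseChange φ
  let F' := DRing.restrictD φ
  let α := (DRing.baseChangeKh φ).totalLeftDerivedCounit DerivedCategory.Qh W₁
  let e := (ModuleCat.restrictScalars.{u} φ).mapDerivedCategoryFactorsh
  have h := GrothLib.KF.leftResolvable_baseChange φ
  haveI : F'.IsRightDerivedFunctor e.inv W₂ := Functor.isRightDerivedFunctor_of_inverts W₂ F' e
  haveI : (G' ⋙ F').IsLeftDerivedFunctor ((Functor.associator _ _ _).inv ≫ Functor.whiskerRight α F') W₁ := by
    refine (h.postcomp F').isLeftDerivedFunctor _ _ fun Q hQ => ?_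
    haveI := h.isIso_app_of_isLeftDerivedFunctor G' α hQ
    simp only [NatTrans.comp_app, Functor.associator_inv_app, Functor.whiskerRight_app]
    exact IsIso.comp_isIso' (IsIso.id _) inferInstance
  haveI : (F' ⋙ G').IsRightDerivedFunctor
      (Functor.whiskerRight e.inv G' ≫ (Functor.associator _ _ _).hom) W₂ :=
    Functor.isRightDerivedFunctor_of_inverts W₂ (F' ⋙ G')
      ((Functor.associator _ _ _).symm ≪≫ Functor.isoWhiskerRight e G')
  let base := Groth.Agent.S12898.hoAdj (ModuleCat.extendRestrictScalarsAdj.{u, u, u} φ)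
  let a₀ : G' ⊣ F' := base.derived W₁ W₂
    (G := (ModuleCat.extendScalars.{u, u, u} φ).mapHomotopyCategory (ComplexShape.up ℤ)) α e.inv
  let qP := (HomotopyCategory.quotient (ModuleCat.{u} A) (ComplexShape.up ℤ)).obj P
  let κA := (DerivedCategory.quotientCompQhIso (ModuleCat.{u} A))
  let κB := (DerivedCategory.quotientCompQhIso (ModuleCat.{u} B))
  haveI : IsIso (α.app qP) := h.isIso_app_of_isLeftDerivedFunctor G' α hP
  let T : G'.obj (DRing.toD P) ⟶ DRing.toD ((bc φ).obj P) :=
    G'.map (κA.inv.app P) ≫ α.app qP ≫ κB.hom.app ((bc φ).obj P)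
  haveI : IsIso T := IsIso.comp_isIso' (inferInstanceAs (IsIso (G'.map (κA.inv.app P)))) (IsIso.comp_isIso' inferInstance (Iso.isIso_hom (κB.app _)))
  have hT : a₀.unit.app (DRing.toD P) ≫ F'.map T = DerivedCategory.Q.map (cxUnit φ P) ≫
      (ModuleCat.restrictScalars.{u} φ).mapDerivedCategoryFactors.inv.app ((bc φ).obj P) := by
    have hn : κA.inv.app P ≫ a₀.unit.app (DerivedCategory.Qh.obj qP) =
        a₀.unit.app (DRing.toD P) ≫ F'.map (G'.map (κA.inv.app P)) := a₀.unit.naturality (κA.inv.app P)
    have hfac : a₀.unit.app (DerivedCategory.Qh.obj qP) ≫ F'.map (α.app qP) =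
        DerivedCategory.Qh.map (base.unit.app qP) ≫
          e.inv.app (((ModuleCat.extendScalars.{u, u, u} φ).mapHomotopyCategory (ComplexShape.up ℤ)).obj qP) :=
      base.derivedη_fac_app W₁ α e.inv qP
    have he : e.inv.app ((HomotopyCategory.quotient _ _).obj ((bc φ).obj P)) ≫ F'.map (κB.hom.app ((bc φ).obj P)) =
        κA.hom.app ((DRing.restrictCx φ).obj ((bc φ).obj P)) ≫
          (ModuleCat.restrictScalars.{u} φ).mapDerivedCategoryFactors.inv.app ((bc φ).obj P) := by
      have hh := (ModuleCat.restrictScalars.{u} φ).mapDerivedCategoryFactorsh_hom_app ((bc φ).obj P)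
      rw [← cancel_epi (e.hom.app ((HomotopyCategory.quotient _ _).obj ((bc φ).obj P))), Iso.hom_inv_id_app_assoc]
      rw [show e.hom.app ((HomotopyCategory.quotient _ _).obj ((bc φ).obj P)) = _ from hh]
      simp only [Category.assoc]
      have hid : ((ModuleCat.restrictScalars.{u} φ).mapHomotopyCategoryFactors (ComplexShape.up ℤ)).inv.app
          ((bc φ).obj P) = 𝟙 _ := rfl
      rw [hid]
      exact cancel_aux _ ((ModuleCat.restrictScalars.{u} φ).mapDerivedCategoryFactors.app ((bc φ).obj P))
        (κA.app ((DRing.restrictCx φ).obj ((bc φ).obj P))) _ (DerivedCategory.Qh.map_id _)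
    calc a₀.unit.app (DRing.toD P) ≫ F'.map T
        = (a₀.unit.app (DRing.toD P) ≫ F'.map (G'.map (κA.inv.app P))) ≫ F'.map (α.app qP) ≫
            F'.map (κB.hom.app ((bc φ).obj P)) := by
          simp only [T, Functor.map_comp, Category.assoc]
      _ = κA.inv.app P ≫ DerivedCategory.Qh.map (base.unit.app qP) ≫
            (e.inv.app ((HomotopyCategory.quotient _ _).obj ((bc φ).obj P)) ≫ F'.map (κB.hom.app ((bc φ).obj P))) := by
          rw [← hn, Category.assoc, reassoc_of% hfac]
          rfl
      _ = _ := by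
          refine (congrArg (fun t => κA.inv.app P ≫ DerivedCategory.Qh.map (base.unit.app qP) ≫ t) he).trans ?_
          have hb : base.unit.app qP = (HomotopyCategory.quotient _ _).map (cxUnit φ P) := rfl
          rw [hb]
          erw [(DerivedCategory.quotientCompQhIso_hom_naturality_assoc (C := ModuleCat.{u} A) (cxUnit φ P))]
          erw [Iso.inv_hom_id_app_assoc]
  have key : (adj.homEquiv _ _).symm (DerivedCategory.Q.map (cxUnit φ P) ≫
      (ModuleCat.restrictScalars.{u} φ).mapDerivedCategoryFactors.inv.app ((bc φ).obj P)) =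
      (adj.leftAdjointUniq a₀).hom.app (DRing.toD P) ≫ T := by
    rw [Equiv.symm_apply_eq, Adjunction.homEquiv_unit, Functor.map_comp, Adjunction.unit_leftAdjointUniq_hom_app_assoc]
    exact hT.symm
  rw [key]
  infer_instance

end GrothLib.DR
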