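import Groth.Agent.Lib.DCxRing.LBase
import Groth.Agent.Lib.DCxKFlat.LBaseKFlat
import Mathlib.RingTheory.LocalRing.Module
import Mathlib.RingTheory.Nakayama
import Mathlib.RingTheory.OrzechProperty
import Mathlib.LinearAlgebra.Dimension.Constructions
import Mathlib.Algebra.Homology.HomologySequence

/-!
# Minimal complexes over a local ring
-/

set_option autoImplicit false
universe u

open CategoryTheory CategoryTheory.Limits HomologicalComplex TensorProduct IsLocalRing

attribute [local instance] HasDerivedCategory.standard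

namespace GrothLib.DR

variable {R : Type u} [CommRing R] [IsLocalRing R]

section Mod

variable {M N : Type u} [AddCommGroup M] [Module R M] [AddCommGroup N] [Module R N]

lemma one_tmul_eq_zero_iff (x : M) :
    (1 : ResidueField R) ⊗ₜ[R] x = 0 ↔ x ∈ maximalIdeal R • (⊤ : Submodule R M) := by
  rw [← LinearMap.ker_tensorProductMk]
  rfl

lemma mem_smul_top_pi {ι : Type} [Fintype ι] (x : ι → R) (h : ∀ k, x k ∈ maximalIdeal R) :
    x ∈ maximalIdeal R • (⊤ : Submodule R (ι → R)) := by
  classical
  rw [show x = ∑ k, x k • (Pi.single k (1 : R) : ι → R) from funext fun i => by simp [Pi.single_apply]]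
  exact sum_mem fun k _ => Submodule.smul_mem_smul (h k) trivial

/-- Injectivity mod the maximal ideal gives a retraction. -/
theorem exists_retraction [Module.Finite R M] [Module.Finite R N] [Module.Free R N] (f : M →ₗ[R] N)
    (h : ∀ x, f x ∈ maximalIdeal R • (⊤ : Submodule R N) → x ∈ maximalIdeal R • (⊤ : Submodule R M)) :
    ∃ r : N →ₗ[R] M, r.comp f = LinearMap.id := by
  refine (split_injective_iff_lTensor_residueField_injective f).2 ((injective_iff_map_eq_zero _).2 fun z hz => ?_)
  obtain ⟨x, rfl⟩ := TensorProduct.mk_surjective R M (ResidueField R) residue_surjective z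
  rw [TensorProduct.mk_apply, LinearMap.lTensor_tmul, one_tmul_eq_zero_iff] at hz
  rw [TensorProduct.mk_apply, one_tmul_eq_zero_iff]
  exact h x hz

/-- An endomorphism congruent to the identity is bijective. -/
theorem bijective_of_sub_mem [Module.Finite R M] (f : M →ₗ[R] M)
    (h : ∀ x, f x - x ∈ maximalIdeal R • (⊤ : Submodule R M)) : Function.Bijective f := by
  refine OrzechProperty.bijective_of_surjective_endomorphism f (LinearMap.range_eq_top.1 (top_le_iff.1 ?_))
  refine Submodule.le_of_le_smul_of_le_jacobson_bot Module.Finite.fg_top (maximalIdeal_le_jacobson _) fun x _ => ?_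
  exact Submodule.mem_sup.2 ⟨f x, ⟨x, rfl⟩, -(f x - x), neg_mem (h x), by abel⟩

/-- Elements whose images give a basis of the range mod the maximal ideal. -/
theorem exists_range_basis [Module.Finite R M] [Module.Finite R N] (f : M →ₗ[R] N) :
    ∃ (r : ℕ) (s : (Fin r → R) →ₗ[R] M),
      (∀ x, f (s x) ∈ maximalIdeal R • (⊤ : Submodule R N) → x ∈ maximalIdeal R • (⊤ : Submodule R (Fin r → R))) ∧
      ∀ p, f p ∈ LinearMap.range (f.comp s) ⊔ maximalIdeal R • (⊤ : Submodule R N) := by
  let W := LinearMap.range (f.baseChange (ResidueField R))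
  haveI : Module.Free (ResidueField R) W := Module.Free.of_divisionRing (ResidueField R) W
  let b := Module.finBasis (ResidueField R) W
  have hv : ∀ k, ∃ v : M, (1 : ResidueField R) ⊗ₜ[R] f v = (b k).1 := fun k => by
    obtain ⟨z, hz⟩ := (b k).2
    obtain ⟨v, rfl⟩ := TensorProduct.mk_surjective R M (ResidueField R) residue_surjective z
    exact ⟨v, hz⟩
  choose v hv using hv
  refine ⟨_, Fintype.linearCombination R v, fun x hx => mem_smul_top_pi x fun k => ?_, fun p => ?_⟩
  · rw [← one_tmul_eq_zero_iff, Fintype.linearCombination_apply, map_sum, TensorProduct.tmul_sum] at hx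
    simp only [map_smul, TensorProduct.tmul_smul] at hx
    have h1 : ∑ k, residue R (x k) • b k = 0 := Subtype.ext <| by
      rw [AddSubmonoidClass.coe_finsetSum, ZeroMemClass.coe_zero, ← hx]
      refine Finset.sum_congr rfl fun k _ => ?_
      rw [SetLike.val_smul, ← hv]
      exact algebraMap_smul (ResidueField R) (x k) ((1 : ResidueField R) ⊗ₜ[R] f (v k))
    exact (residue_eq_zero_iff _).1 ((Fintype.linearIndependent_iff (R := ResidueField R) (M := W) (v := b)).1 b.linearIndependent (fun k => residue R (x k)) h1 k)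
  · let q : W := ⟨(1 : ResidueField R) ⊗ₜ[R] f p, ⟨1 ⊗ₜ[R] p, rfl⟩⟩
    choose a ha using fun k => residue_surjective (b.repr q k)
    refine Submodule.mem_sup.2 ⟨f (Fintype.linearCombination R v a), ⟨a, rfl⟩,
      f p - f (Fintype.linearCombination R v a), ?_, by abel⟩
    rw [← one_tmul_eq_zero_iff, TensorProduct.tmul_sub, sub_eq_zero]
    have h2 := congrArg Subtype.val (b.sum_repr q)
    rw [AddSubmonoidClass.coe_finsetSum] at h2
    rw [Fintype.linearCombination_apply, map_sum, TensorProduct.tmul_sum]
    refine h2.symm.trans (Finset.sum_congr rfl fun k _ => ?_)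
    rw [SetLike.val_smul, ← hv, ← ha, map_smul, TensorProduct.tmul_smul]
    exact algebraMap_smul (ResidueField R) (a k) ((1 : ResidueField R) ⊗ₜ[R] f (v k))

end Mod

/-- The differentials vanish mod the maximal ideal. -/
def IsMinimal (P : DRing.Cx R) : Prop :=
  ∀ i j, ∀ x, (P.d i j).hom x ∈ maximalIdeal R • (⊤ : Submodule R (P.X j))

lemma isMinimal_of_succ {P : DRing.Cx R}
    (h : ∀ i, ∀ x, (P.d i (i + 1)).hom x ∈ maximalIdeal R • (⊤ : Submodule R (P.X (i + 1)))) : IsMinimal P := by
  intro i j x
  by_cases hij : i + 1 = j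
  · subst hij
    exact h i x
  · rw [P.shape i j hij]
    exact zero_mem _

/-- Morphisms with homotopic-to-identity composites between minimal complexes are isomorphisms. -/
theorem bijective_of_homotopy_id {P : DRing.Cx R} (hP : IsMinimal P) (φ : P ⟶ P) (H : Homotopy φ (𝟙 P)) (i : ℤ)
    [Module.Finite R (P.X i)] : Function.Bijective (φ.f i).hom := by
  refine bijective_of_sub_mem _ fun x => ?_
  have hc := ConcreteCategory.congr_hom (H.comm i) x
  rw [dNext_eq _ (show (ComplexShape.up ℤ).Rel i (i + 1) from rfl),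
    prevD_eq _ (show (ComplexShape.up ℤ).Rel (i - 1) i from by simp)] at hc
  change (φ.f i).hom x = (H.hom (i + 1) i).hom ((P.d i (i + 1)).hom x) +
    (P.d (i - 1) i).hom ((H.hom i (i - 1)).hom x) + x at hc
  rw [hc, add_sub_cancel_right]
  refine add_mem ?_ (hP _ _ _)
  have h2 : (maximalIdeal R • (⊤ : Submodule R (P.X (i + 1)))).map (H.hom (i + 1) i).hom ≤
      maximalIdeal R • (⊤ : Submodule R (P.X i)) := by
    rw [Submodule.map_smul'']
    exact Submodule.smul_mono le_rfl le_top
  exact h2 ⟨_, hP _ _ _, rfl⟩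

/-- Minimal bounded above complexes of finite free modules are isomorphic when quasi-isomorphic. -/
theorem nonempty_iso_of_minimal {P Q : DRing.Cx R} {b c : ℤ} (hPb : DRing.VanishesAbove P b)
    (hQb : DRing.VanishesAbove Q c) (hPf : DRing.TermwiseFiniteFree P) (hQf : DRing.TermwiseFiniteFree Q)
    (hP : IsMinimal P) (hQ : IsMinimal Q) (e : DRing.toD P ≅ DRing.toD Q) : Nonempty (P ≅ Q) := by
  haveI := isKProjective P b hPb (projective_of_finiteFree hPf)
  haveI := isKProjective Q c hQb (projective_of_finiteFree hQf)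
  obtain ⟨f, hf⟩ := exists_lift P e.hom
  obtain ⟨g, hg⟩ := exists_lift Q e.inv
  obtain ⟨H₁⟩ := (map_eq_iff P (f ≫ g) (𝟙 P)).1 (by rw [Functor.map_comp, hf, hg, e.hom_inv_id, CategoryTheory.Functor.map_id])
  obtain ⟨H₂⟩ := (map_eq_iff Q (g ≫ f) (𝟙 Q)).1 (by rw [Functor.map_comp, hf, hg, e.inv_hom_id, CategoryTheory.Functor.map_id])
  haveI : ∀ i, IsIso (f.f i) := fun i => by
    haveI := (hPf i).1
    haveI := (hQf i).1
    have h1 : Function.Bijective ((g.f i).hom ∘ (f.f i).hom) := bijective_of_homotopy_id hP _ H₁ i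
    have h2 : Function.Bijective ((f.f i).hom ∘ (g.f i).hom) := bijective_of_homotopy_id hQ _ H₂ i
    exact (ConcreteCategory.isIso_iff_bijective _).2 ⟨Function.Injective.of_comp h1.1, Function.Surjective.of_comp h2.2⟩
  exact ⟨Hom.isoOfComponents (fun i => asIso (f.f i)) fun i j _ => f.comm i j⟩

section Reduce

variable (P : DRing.Cx R) (hPf : DRing.TermwiseFiniteFree P)

include hPf in
/-- Every complex of finite free modules has a minimal quotient by an acyclic subcomplex. -/
theorem exists_minimal_quotient : ∃ (Q : DRing.Cx R) (π : P ⟶ Q), QuasiIso π ∧ DRing.TermwiseFiniteFree Q ∧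
    IsMinimal Q ∧ ∀ i, IsZero (P.X i) → IsZero (Q.X i) := by
  have hs : ∀ i, ∃ (r : ℕ) (s : (Fin r → R) →ₗ[R] P.X i), _ := fun i =>
    haveI := (hPf i).1
    haveI := (hPf (i + 1)).1
    exists_range_basis (P.d i (i + 1)).hom
  choose r s hs₁ hs₂ using hs
  let U : ∀ k, Submodule R (P.X k) := fun k =>
    LinearMap.range (s k) ⊔ LinearMap.range ((P.d (k - 1) k).hom.comp (s (k - 1)))
  have hU : ∀ j k, j + 1 = k → ∀ x, (P.d j k).hom (s j x) ∈ U k := fun j k hjk x => by
    obtain rfl : j = k - 1 := by omega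
    exact Submodule.mem_sup_right ⟨x, rfl⟩
  have hdd : ∀ i j k (x : P.X i), (P.d j k).hom ((P.d i j).hom x) = 0 := fun i j k x =>
    ConcreteCategory.congr_hom (P.d_comp_d i j k) x
  have hUd : ∀ i, U i ≤ (U (i + 1)).comap (P.d i (i + 1)).hom := fun i => sup_le
    (by rintro _ ⟨x, rfl⟩; exact hU i (i + 1) rfl x)
    (by rintro _ ⟨x, rfl⟩
        rw [Submodule.mem_comap, LinearMap.comp_apply, hdd]
        exact zero_mem _)
  have hsplit : ∀ j k, j + 1 = k → ∃ t : P.X k →ₗ[R] (Fin (r k) → R) × (Fin (r j) → R),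
      t.comp ((s k).coprod ((P.d j k).hom.comp (s j))) = LinearMap.id := fun j k hjk => by
    subst hjk
    haveI := (hPf (j + 1)).1
    haveI := (hPf (j + 1)).2
    refine exists_retraction _ fun x hx => ?_
    have h1 : x.1 ∈ maximalIdeal R • (⊤ : Submodule R (Fin (r (j + 1)) → R)) := by
      refine hs₁ (j + 1) x.1 ?_
      have h := Submodule.mem_map_of_mem (f := (P.d (j + 1) (j + 1 + 1)).hom) hx
      rw [Submodule.map_smul''] at h
      rw [LinearMap.coprod_apply, map_add, LinearMap.comp_apply, hdd, add_zero] at h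
      exact Submodule.smul_mono le_rfl le_top h
    have h2 : s (j + 1) x.1 ∈ maximalIdeal R • (⊤ : Submodule R (P.X (j + 1))) := by
      have h := Submodule.mem_map_of_mem (f := s (j + 1)) h1
      rw [Submodule.map_smul''] at h
      exact Submodule.smul_mono le_rfl le_top h
    have h3 : x.2 ∈ maximalIdeal R • (⊤ : Submodule R (Fin (r j) → R)) := by
      refine hs₁ j x.2 ?_
      have h := sub_mem hx h2
      rwa [LinearMap.coprod_apply, LinearMap.comp_apply, add_sub_cancel_left] at h
    have h5 : ∀ {F : Type u} [AddCommGroup F] [Module R F] (φ : F →ₗ[R] (Fin (r (j + 1)) → R) × (Fin (r j) → R)),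
        (maximalIdeal R • (⊤ : Submodule R F)).map φ ≤ maximalIdeal R • ⊤ := fun φ => by
      rw [Submodule.map_smul'']
      exact Submodule.smul_mono le_rfl le_top
    rw [show x = LinearMap.inl R _ _ x.1 + LinearMap.inr R _ _ x.2 by simp]
    exact add_mem (h5 _ ⟨_, h1, rfl⟩) (h5 _ ⟨_, h3, rfl⟩)
  have hrange : ∀ k, U k = LinearMap.range ((s k).coprod ((P.d (k - 1) k).hom.comp (s (k - 1)))) := fun k =>
    (LinearMap.range_coprod _ _).symm
  let Q : DRing.Cx R := CochainComplex.of (fun i => ModuleCat.of R (P.X i ⧸ U i))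
    (fun i => ModuleCat.ofHom ((U i).mapQ (U (i + 1)) (P.d i (i + 1)).hom (hUd i)))
    (fun i => ModuleCat.hom_ext (Submodule.linearMap_qext _ (LinearMap.ext fun x => by
      show Submodule.Quotient.mk ((P.d (i + 1) (i + 1 + 1)).hom ((P.d i (i + 1)).hom x)) = 0
      rw [hdd, Submodule.Quotient.mk_zero])))
  let π : P ⟶ Q :=
    { f := fun i => ModuleCat.ofHom (U i).mkQ
      comm' := fun i j hij => by
        obtain rfl : i + 1 = j := hij
        dsimp [Q]
        rw [CochainComplex.of_d]
        ext x
        rfl }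
  let V : DRing.Cx R := CochainComplex.of (fun i => ModuleCat.of R (U i))
    (fun i => ModuleCat.ofHom ((P.d i (i + 1)).hom.restrict (hUd i)))
    (fun i => by ext x; exact hdd _ _ _ x.1)
  let ι : V ⟶ P :=
    { f := fun i => ModuleCat.ofHom (U i).subtype
      comm' := fun i j hij => by
        obtain rfl : i + 1 = j := hij
        dsimp [V]
        rw [CochainComplex.of_d]
        ext x
        rfl }
  let S : ShortComplex (DRing.Cx R) := ShortComplex.mk ι π (by
    ext i x
    exact (Submodule.Quotient.mk_eq_zero _).2 x.2)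
  have hS : S.ShortExact := HomologicalComplex.shortExact_of_degreewise_shortExact _ fun i =>
    ShortComplex.ShortExact.mk' ((ShortComplex.moduleCat_exact_iff _).2 fun x hx =>
      ⟨⟨x, (Submodule.Quotient.mk_eq_zero _).1 hx⟩, rfl⟩)
      ((ModuleCat.mono_iff_injective _).2 Subtype.val_injective)
      ((ModuleCat.epi_iff_surjective _).2 (U i).mkQ_surjective)
  have hV : ∀ i, V.ExactAt i := fun i => by
    rw [element_exact V (i - 1) i (i + 1) (by omega) rfl]
    intro u hu
    have hu' : (P.d i (i + 1)).hom u.1 = 0 := by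
      have := congrArg Subtype.val hu
      dsimp [V] at this
      rw [CochainComplex.of_d] at this
      exact this
    obtain ⟨x, hx⟩ := (hrange i).le u.2
    rw [← hx, LinearMap.coprod_apply, map_add, LinearMap.comp_apply, hdd, add_zero] at hu'
    obtain ⟨t, ht⟩ := hsplit i (i + 1) rfl
    have ht' := LinearMap.congr_fun ht ((0 : Fin (r (i + 1)) → R), x.1)
    rw [LinearMap.comp_apply, LinearMap.coprod_apply, LinearMap.comp_apply, hu', map_zero, zero_add, map_zero] at ht'
    have hx1 : x.1 = 0 := (congrArg Prod.snd ht').symm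
    let w : (V.X (i - 1) : Type u) := (⟨s (i - 1) x.2, Submodule.mem_sup_left ⟨_, rfl⟩⟩ : U (i - 1))
    refine ⟨w, Subtype.ext ?_⟩
    have hd : ∀ (j : ℤ), j = i → ((V.d (i - 1) j).hom w).1 = (P.d (i - 1) j).hom (s (i - 1) x.2) := by
      rintro j rfl
      exact ConcreteCategory.congr_hom (ι.comm (j - 1) j).symm w
    rw [hd i rfl, ← hx, LinearMap.coprod_apply, hx1, map_zero, zero_add]
    rfl
  have hq : QuasiIso π := ⟨fun i => by
    rw [quasiIsoAt_iff_isIso_homologyMap]
    haveI : Mono (homologyMap π i) := (hS.homology_exact₂ i).mono_g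
      (((exactAt_iff_isZero_homology _ i).1 (hV i)).eq_of_src _ _)
    haveI : Epi (homologyMap π i) := (hS.homology_exact₃ i (i + 1) rfl).epi_f
      (((exactAt_iff_isZero_homology _ (i + 1)).1 (hV (i + 1))).eq_of_tgt _ _)
    exact isIso_of_mono_of_epi _⟩
  refine ⟨Q, π, hq, fun i => ?_, isMinimal_of_succ fun i q => ?_, fun i hi => ?_⟩
  · haveI := (hPf i).1
    haveI := (hPf i).2
    haveI : Module.Finite R (P.X i ⧸ U i) := inferInstance
    obtain ⟨t, ht⟩ := hsplit (i - 1) i (by omega)
    let f := (s i).coprod ((P.d (i - 1) i).hom.comp (s (i - 1)))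
    haveI : Module.Projective R (P.X i ⧸ U i) := by
      refine Module.Projective.of_split ((U i).liftQ (LinearMap.id - f.comp t) ?_) (U i).mkQ
        (Submodule.linearMap_qext _ (LinearMap.ext fun x => ?_))
      · rw [hrange]
        rintro _ ⟨y, rfl⟩
        rw [LinearMap.mem_ker, LinearMap.sub_apply, LinearMap.id_apply, LinearMap.comp_apply,
          show t (f y) = y from LinearMap.congr_fun ht y, sub_self]
      · refine (Submodule.Quotient.eq _).2 ?_
        show x - f (t x) - x ∈ U i
        rw [sub_sub_cancel_left, neg_mem_iff, hrange]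
        exact ⟨_, rfl⟩
    exact ⟨inferInstanceAs (Module.Finite R (P.X i ⧸ U i)),
      (Module.free_of_flat_of_isLocalRing : Module.Free R (P.X i ⧸ U i))⟩
  · obtain ⟨p, rfl⟩ := Submodule.Quotient.mk_surjective (U i) q
    obtain ⟨y, ⟨a, rfl⟩, z, hz, hyz⟩ := Submodule.mem_sup.1 (hs₂ i p)
    dsimp [Q]
    rw [CochainComplex.of_d]
    show Submodule.Quotient.mk ((P.d i (i + 1)).hom p) ∈ _
    rw [← hyz, Submodule.Quotient.mk_add, (Submodule.Quotient.mk_eq_zero _).2 (show (P.d i (i + 1)).hom.comp (s i) a ∈ U (i + 1) from hU i (i + 1) rfl a), zero_add]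
    have h := Submodule.mem_map_of_mem (f := (U (i + 1)).mkQ) hz
    rw [Submodule.map_smul''] at h
    exact Submodule.smul_mono le_rfl le_top h
  · haveI := ModuleCat.subsingleton_of_isZero hi
    exact @ModuleCat.isZero_of_subsingleton _ _ (Q.X i) (inferInstanceAs (Subsingleton (P.X i ⧸ U i)))

end Reduce

section Fibre

variable (P : DRing.Cx R)

/-- Minimality means that the fibre has zero differentials. -/
theorem isMinimal_iff_bc : IsMinimal P ↔ ∀ i j, ((bc (residue R)).obj P).d i j = 0 := by
  refine forall_congr' fun i => forall_congr' fun j => ?_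
  constructor
  · intro h
    refine ModuleCat.ExtendScalars.hom_ext fun x => ?_
    exact (one_tmul_eq_zero_iff ((P.d i j).hom x)).2 (h x)
  · intro h x
    exact (one_tmul_eq_zero_iff ((P.d i j).hom x)).1 (ConcreteCategory.congr_hom h (show ((bc (residue R)).obj P).X i from (1 : ResidueField R) ⊗ₜ[R] x))

theorem finrank_bc (hPf : DRing.TermwiseFiniteFree P) (i : ℤ) :
    Module.Finite (ResidueField R) (((bc (residue R)).obj P).X i) ∧
      Module.finrank (ResidueField R) (((bc (residue R)).obj P).X i) = Module.finrank R (P.X i) := by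
  haveI := (hPf i).1
  haveI := (hPf i).2
  exact ⟨inferInstanceAs (Module.Finite (ResidueField R) (ResidueField R ⊗[R] P.X i)), Module.finrank_baseChange⟩

theorem finrank_homology_bc (hPf : DRing.TermwiseFiniteFree P) (i : ℤ) :
    Module.Finite (ResidueField R) (Dual.HD (ResidueField R) (DRing.toD ((bc (residue R)).obj P)) i) ∧
      (IsMinimal P → Module.finrank (ResidueField R) (Dual.HD (ResidueField R) (DRing.toD ((bc (residue R)).obj P)) i) =
        Module.finrank R (P.X i)) ∧
      (Module.finrank (ResidueField R) (Dual.HD (ResidueField R) (DRing.toD ((bc (residue R)).obj P)) i) =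
        Module.finrank R (P.X i) → ((bc (residue R)).obj P).d i (i + 1) = 0) := by
  let C := (bc (residue R)).obj P
  obtain ⟨hfin, hrank⟩ := finrank_bc P hPf i
  let S := C.sc' (i - 1) i (i + 1)
  let e : Dual.HD (ResidueField R) (DRing.toD C) i ≃ₗ[ResidueField R]
      LinearMap.ker S.g.hom ⧸ LinearMap.range S.moduleCatToCycles :=
    (homologyIso C i ≪≫ ShortComplex.homologyMapIso (C.isoSc' (i - 1) i (i + 1) (by simp) (by simp)) ≪≫
      S.moduleCatHomologyIso).toLinearEquiv
  haveI : Module.Finite (ResidueField R) S.X₂ := hfin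
  refine ⟨Module.Finite.equiv e.symm, fun hP => ?_, fun h => ?_⟩
  · have hg : S.g.hom = 0 := by rw [show S.g = 0 from (isMinimal_iff_bc P).1 hP _ _]; rfl
    have hto : LinearMap.range S.moduleCatToCycles = ⊥ := LinearMap.range_eq_bot.2 (LinearMap.ext fun x => Subtype.ext (by
      show S.f x = 0
      rw [show S.f = 0 from (isMinimal_iff_bc P).1 hP _ _]
      rfl))
    rw [e.finrank_eq, (Submodule.quotEquivOfEqBot _ hto).finrank_eq, hg, LinearMap.ker_zero, finrank_top]
    exact hrank
  · rw [e.finrank_eq, ← hrank] at h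
    have h1 := Submodule.finrank_quotient_le (LinearMap.range S.moduleCatToCycles)
    have h2 : LinearMap.ker S.g.hom = ⊤ := Submodule.eq_top_of_finrank_eq (by
      refine le_antisymm (Submodule.finrank_le _) ?_
      exact h.symm.le.trans h1)
    exact ModuleCat.hom_ext (LinearMap.ker_eq_top.1 h2)

end Fibre

end GrothLib.DR
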