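import Groth.Agent.Lib.DCxRing.ClassLiftApps
import Groth.Agent.Lib.DCxRing.Fibres
import Mathlib.RingTheory.Idempotents

/-!
# Lifting along a nilpotent ideal
-/

set_option autoImplicit false
universe u

open CategoryTheory CategoryTheory.Limits HomologicalComplex TensorProduct

attribute [local instance] HasDerivedCategory.standard

namespace GrothLib.DR

variable {R : Type u} [CommRing R] {I : Ideal R}

/-- Surjectivity modulo a nilpotent ideal. -/
theorem surjective_of_nilpotent (hI : IsNilpotent I) {X Y : Type u} [AddCommGroup X] [Module R X] [AddCommGroup Y]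
    [Module R Y] (f : X →ₗ[R] Y) (h : LinearMap.range f ⊔ I • (⊤ : Submodule R Y) = ⊤) : Function.Surjective f := by
  obtain ⟨k, hk⟩ := hI
  have key : ∀ n : ℕ, (⊤ : Submodule R Y) ≤ LinearMap.range f ⊔ I ^ n • ⊤ := fun n => by
    induction n with
    | zero => rw [pow_zero, Ideal.one_eq_top, Submodule.top_smul]; exact le_sup_right
    | succ n ih =>
      refine ih.trans (sup_le le_sup_left ?_)
      conv_lhs => rw [← h, Submodule.smul_sup, ← Submodule.mul_smul, ← pow_succ]
      exact sup_le_sup_right Submodule.smul_le_right _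
  have h' := key k
  rw [hk, Submodule.zero_eq_bot, Submodule.bot_smul, sup_bot_eq] at h'
  exact LinearMap.range_eq_top.1 (top_le_iff.1 h')

/-- Projective modules lift along a nilpotent ideal. -/
theorem exists_projective_lift_of_nilpotent (hI : IsNilpotent I) (E : Type u) [AddCommGroup E] [Module (R ⧸ I) E]
    [Module.Projective (R ⧸ I) E] :
    ∃ X : ModuleCat.{u} R, Module.Projective R X ∧ Nonempty (TensorProduct R (R ⧸ I) X ≃ₗ[R ⧸ I] E) := by
  classical
  let π := Finsupp.linearCombination (R ⧸ I) (id : E → E)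
  obtain ⟨s, hs⟩ := Module.projective_lifting_property π LinearMap.id fun v => ⟨Finsupp.single v 1, by simp [π]⟩
  have hs' : ∀ v, π (s v) = v := LinearMap.congr_fun hs
  let ebar : (E →₀ R ⧸ I) →ₗ[R ⧸ I] (E →₀ R ⧸ I) := s.comp π
  let mk : (E →₀ R) →ₗ[R] (E →₀ R ⧸ I) := Finsupp.mapRange.linearMap (Algebra.linearMap R (R ⧸ I))
  have hmk : Function.Surjective mk := Finsupp.mapRange_surjective _ (map_zero _) Ideal.Quotient.mk_surjective
  have hker : ∀ x, mk x = 0 → x ∈ I • (⊤ : Submodule R (E →₀ R)) := fun x hx => by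
    rw [← Finsupp.sum_single x]
    refine Submodule.sum_mem _ fun a _ => ?_
    show Finsupp.single a (x a) ∈ _
    rw [show Finsupp.single a (x a) = x a • Finsupp.single a (1 : R) by simp]
    exact Submodule.smul_mem_smul (Ideal.Quotient.eq_zero_iff_mem.1 (DFunLike.congr_fun hx a)) trivial
  obtain ⟨u, hu⟩ := Module.projective_lifting_property mk ((ebar.restrictScalars R).comp mk) hmk
  have hu' : ∀ x, mk (u x) = ebar (mk x) := LinearMap.congr_fun hu
  have hee : ∀ z, ebar (ebar z) = ebar z := fun z => by simp [ebar, hs']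
  let v : Module.End R (E →₀ R) := u - u ^ 2
  have hv : LinearMap.range v ≤ I • ⊤ := by
    rintro _ ⟨x, rfl⟩
    refine hker _ ?_
    show mk (u x - (u ^ 2) x) = 0
    rw [pow_two, Module.End.mul_apply, map_sub, hu', hu', hu', hee, sub_self]
  obtain ⟨k, hk⟩ := hI
  have hvn : ∀ n : ℕ, LinearMap.range (v ^ n) ≤ I ^ n • ⊤ := fun n => by
    induction n with
    | zero => rw [pow_zero, pow_zero, Ideal.one_eq_top, Submodule.top_smul]; exact le_top
    | succ n ih =>
      rw [pow_succ, pow_succ, Submodule.mul_smul]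
      show LinearMap.range ((v ^ n) ∘ₗ v) ≤ _
      rw [LinearMap.range_comp]
      refine (Submodule.map_mono hv).trans ?_
      rw [Submodule.map_smul'', Submodule.map_top]
      refine (Submodule.smul_mono le_rfl ih).trans ?_
      rw [← Submodule.mul_smul, ← Submodule.mul_smul, mul_comm]
  have hk' : I ^ (k + 1) = 0 := by rw [pow_succ, hk, zero_mul]
  have hv0 : v ^ (k + 1) = 0 := LinearMap.range_eq_bot.1 (le_bot_iff.1 ((hvn (k + 1)).trans (by rw [hk', Submodule.zero_eq_bot, Submodule.bot_smul])))
  let e : Module.End R (E →₀ R) := 1 - (1 - u ^ (k + 1)) ^ (k + 1)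
  have he : IsIdempotentElem e := isIdempotentElem_one_sub_one_sub_pow_pow u (k + 1) hv0
  have hupow : ∀ (n : ℕ) x, mk ((u ^ (n + 1)) x) = ebar (mk x) := fun n => by
    induction n with
    | zero => simpa using hu'
    | succ n ih =>
      intro x
      rw [pow_succ', Module.End.mul_apply, hu', ih, hee]
  have hwpow : ∀ (n : ℕ) x, mk (((1 - u ^ (k + 1)) ^ (n + 1)) x) = mk x - ebar (mk x) := fun n => by
    induction n with
    | zero =>
      intro x
      rw [zero_add, pow_one, LinearMap.sub_apply, Module.End.one_apply, map_sub, hupow]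
    | succ n ih =>
      intro x
      rw [pow_succ', Module.End.mul_apply, LinearMap.sub_apply, Module.End.one_apply, map_sub, hupow, ih,
        map_sub, hee, sub_self, sub_zero]
  have hmke : ∀ x, mk (e x) = ebar (mk x) := fun x => by
    rw [LinearMap.sub_apply, Module.End.one_apply, map_sub, hwpow, sub_sub_cancel]
  let p : (E →₀ R) →ₗ[R] LinearMap.range e := e.rangeRestrict
  have hp : ∀ x : LinearMap.range e, p x = x := fun x => by
    obtain ⟨w, hw⟩ := x.2
    refine Subtype.ext ?_
    show e x.1 = x.1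
    rw [← hw, ← Module.End.mul_apply, he.eq]
  haveI : Module.Projective R (LinearMap.range e) :=
    Module.Projective.of_split (LinearMap.range e).subtype p (LinearMap.ext hp)
  refine ⟨ModuleCat.of R (LinearMap.range e), inferInstanceAs (Module.Projective R (LinearMap.range e)), ?_⟩
  let q : LinearMap.range e →+ E :=
    π.toAddMonoidHom.comp (mk.comp (LinearMap.range e).subtype).toAddMonoidHom
  have hq : ∀ x, q x = π (mk x.1) := fun x => rfl
  refine nonempty_tensor_equiv q (fun r x => ?_) (fun w => ?_) fun x hx => ?_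
  · rw [hq, hq, Submodule.coe_smul, map_smul, ← algebraMap_smul (R ⧸ I) r (mk x.1), map_smul]
    rfl
  · obtain ⟨z, hz⟩ := hmk (s w)
    refine ⟨p z, (hq _).trans ?_⟩
    show π (mk (e z)) = w
    rw [hmke, hz]
    show π (s (π (s w))) = w
    rw [hs', hs']
  · have h0 : mk x.1 = 0 := by
      have h1 : mk x.1 = ebar (mk x.1) := by
        conv_lhs => rw [← hp x]
        exact hmke x.1
      rw [h1]
      show s (π (mk x.1)) = 0
      rw [show π (mk x.1) = 0 from hx, map_zero]
    have h := Submodule.mem_map_of_mem (f := p) (hker _ h0)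
    rw [Submodule.map_smul'', hp] at h
    exact Submodule.smul_mono le_rfl le_top h

/-- An object whose reduction modulo a nilpotent ideal is bounded above is bounded above. -/
theorem subsingleton_HD_of_reduction (hI : IsNilpotent I) [DRing.HasLBaseChange (Ideal.Quotient.mk I)]
    (K : Dual.D R) {E : DRing.Cx (R ⧸ I)} {b : ℤ} (hEb : DRing.VanishesAbove E b)
    (hEp : ∀ i, Module.Projective (R ⧸ I) (E.X i))
    (eE : DRing.toD E ≅ (DRing.LBaseChange (Ideal.Quotient.mk I)).obj K) (i : ℤ) (hi : b < i) :
    Subsingleton (Dual.HD R K i) := by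
  obtain ⟨P, hP, hPf, ⟨eP⟩⟩ := KF.exists_kflat_rep K
  obtain ⟨e₁⟩ := KF.lBase_value (Ideal.Quotient.mk I) hP
  let e : DRing.toD E ≅ DRing.toD ((bc (Ideal.Quotient.mk I)).obj P) :=
    eE ≪≫ (DRing.LBaseChange (Ideal.Quotient.mk I)).mapIso eP.symm ≪≫ e₁
  have hM : ∀ M : ModuleCat.{u} (R ⧸ I), (DRing.tensorCx ((bc (Ideal.Quotient.mk I)).obj P) M).ExactAt i := fun M => by
    haveI := KF.hasLTensor M
    obtain ⟨v₁⟩ := KF.lTensor_value M (KF.isKFlat_of_vanishesAbove hEb (termwiseFlat_of_projective hEp))
    obtain ⟨v₂⟩ := KF.lTensor_value M (KF.isKFlat_bc (Ideal.Quotient.mk I) hP)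
    refine (exactAt_iff _ i).2 (subsingleton_HD_of_iso (v₁.symm ≪≫ (DRing.LTensor (R ⧸ I) M).mapIso e ≪≫ v₂) i
      ((exactAt_iff _ i).1 (ShortComplex.exact_of_isZero_X₂ _ ?_)))
    exact ((MonoidalCategory.tensorRight M).map_isZero (hEb i hi))
  obtain ⟨k, hk⟩ := hI
  have h := exactAt_tensor_of_pow hPf I i (fun N hN => exactAt_tensor_of_killed (Ideal.Quotient.mk I)
    Ideal.Quotient.mk_surjective i hM N (by rwa [Ideal.mk_ker])) k (ModuleCat.of R R)
    (by rw [hk, Submodule.zero_eq_bot, Submodule.bot_smul])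
  exact subsingleton_HD_of_iso eP i ((exactAt_iff P i).1 (h.of_iso (KF.tensorCxUnitIso P)))

variable (R) in
/-- Projective modules. -/
def proj : ObjectProperty (ModuleCat.{u} R) := fun X => Module.Projective R X

variable (R) in
theorem proj_closed : (proj R).IsClosedUnderIsomorphisms where
  of_iso e h := by
    haveI : Module.Projective R _ := h
    exact Module.Projective.of_equiv e.toLinearEquiv

lemma proj_iff (X Y : ModuleCat.{u} R) (hX : proj R X) : proj R (ModuleCat.of R (X × Y)) ↔ proj R Y := by
  haveI : Module.Projective R X := hX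
  refine ⟨fun h => ?_, fun h => ?_⟩
  · haveI : Module.Projective R (X × Y) := h
    exact Module.Projective.of_split (LinearMap.inr R X Y) (LinearMap.snd R X Y) (LinearMap.ext fun _ => rfl)
  · haveI : Module.Projective R Y := h
    exact inferInstanceAs (Module.Projective R (X × Y))

end GrothLib.DR
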