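import Groth.Agent.Lib.DCxKFlat.LBaseKFlat
import Groth.Agent.Lib.DCxKFlat.Balance
import Mathlib.Algebra.Category.Ring.FilteredColimits
import Mathlib.CategoryTheory.Limits.ConcreteCategory.Basic
import Mathlib.LinearAlgebra.Matrix.ToLin
import Mathlib.Data.Int.Interval

/-!
# Perfect complexes over a filtered colimit of rings come from a stage
-/

set_option autoImplicit false
set_option maxHeartbeats 1000000
universe u

open CategoryTheory CategoryTheory.Limits HomologicalComplex TensorProduct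

attribute [local instance] HasDerivedCategory.standard

namespace GrothLib.DR

section Colim

variable {J : Type u} [SmallCategory J] [IsFiltered J] (F : J ⥤ CommRingCat.{u}) {c : Cocone F} (hc : IsColimit c)

include hc in
/-- Finitely many elements of the colimit come from one stage. -/
theorem exists_lift_stage {ι : Type*} [Finite ι] (x : ι → c.pt) :
    ∃ (j : J) (y : ι → F.obj j), ∀ k, (c.ι.app j).hom (y k) = x k := by
  classical
  haveI := Fintype.ofFinite ι
  choose jx yx hx using fun k => Concrete.isColimit_exists_rep F hc (x k)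
  obtain ⟨j, hj⟩ := IsFiltered.sup_objs_exists (Finset.univ.image jx)
  let f : ∀ k, jx k ⟶ j := fun k => (hj (Finset.mem_image_of_mem _ (Finset.mem_univ k))).some
  exact ⟨j, fun k => (F.map (f k)).hom (yx k), fun k => (ConcreteCategory.congr_hom (c.w (f k)) (yx k)).trans (hx k)⟩

include hc in
/-- Finitely many equations which hold in the colimit hold at a stage. -/
theorem exists_eq_stage {ι : Type*} [Finite ι] {j : J} (x y : ι → F.obj j)
    (h : ∀ k, (c.ι.app j).hom (x k) = (c.ι.app j).hom (y k)) :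
    ∃ (j' : J) (f : j ⟶ j'), ∀ k, (F.map f).hom (x k) = (F.map f).hom (y k) := by
  classical
  haveI := Fintype.ofFinite ι
  suffices h' : ∀ s : Finset ι, ∃ (j' : J) (f : j ⟶ j'), ∀ k ∈ s, (F.map f).hom (x k) = (F.map f).hom (y k) by
    obtain ⟨j', f, hf⟩ := h' Finset.univ
    exact ⟨j', f, fun k => hf k (Finset.mem_univ k)⟩
  intro s
  induction s using Finset.induction_on with
  | empty => exact ⟨j, 𝟙 j, fun k hk => absurd hk (Finset.notMem_empty k)⟩
  | insert a t _ ih =>
    obtain ⟨j₁, f₁, h₁⟩ := ih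
    obtain ⟨k₂, p, q, hpq⟩ := (Concrete.isColimit_rep_eq_iff_exists (F := F) hc (x a) (y a)).1 (h a)
    let r := IsFiltered.coeq p q
    let g : j ⟶ r := p ≫ IsFiltered.coeqHom p q
    have hg : (F.map g).hom (x a) = (F.map g).hom (y a) := by
      have e : g = q ≫ IsFiltered.coeqHom p q := IsFiltered.coeq_condition p q
      conv_rhs => rw [e]
      simp only [g, Functor.map_comp, CommRingCat.hom_comp, RingHom.comp_apply]
      exact congrArg _ hpq
    obtain ⟨l, u₁, u₂, hu⟩ := IsFiltered.span f₁ g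
    refine ⟨l, f₁ ≫ u₁, fun k hk => ?_⟩
    rcases Finset.mem_insert.1 hk with rfl | hk
    · rw [hu]
      simp only [Functor.map_comp, CommRingCat.hom_comp, RingHom.comp_apply, hg]
    · simp only [Functor.map_comp, CommRingCat.hom_comp, RingHom.comp_apply, h₁ k hk]

end Colim

section Idem

variable {S R : Type u} [CommRing S] [CommRing R] (φ : S →+* R) {n : ℕ}
  (e D : ℤ → Matrix (Fin n) (Fin n) S) (he : ∀ i, e i * e i = e i) (h₁ : ∀ i, e (i + 1) * D i = D i)
  (h₂ : ∀ i, D (i + 1) * D i = 0)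

/-- The complex of images of idempotent matrices. -/
noncomputable def idemCx : DRing.Cx S :=
  CochainComplex.of (fun i => ModuleCat.of S (LinearMap.range (Matrix.toLin' (e i))))
    (fun i => ModuleCat.ofHom (((Matrix.toLin' (D i)).comp (LinearMap.range (Matrix.toLin' (e i))).subtype).codRestrict _
      fun x => ⟨Matrix.toLin' (D i) x.1, by
        rw [← LinearMap.comp_apply, ← Matrix.toLin'_mul, h₁]
        rfl⟩))
    (fun i => ModuleCat.hom_ext (LinearMap.ext fun x => Subtype.ext (by
      show Matrix.toLin' (D (i + 1)) (Matrix.toLin' (D i) x.1) = 0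
      rw [← LinearMap.comp_apply, ← Matrix.toLin'_mul, h₂, map_zero, LinearMap.zero_apply])))

include he in
lemma finiteProjective_idemCx : DRing.TermwiseFiniteProjective (idemCx e D h₁ h₂) := fun i => by
  let p : (Fin n → S) →ₗ[S] LinearMap.range (Matrix.toLin' (e i)) := (Matrix.toLin' (e i)).rangeRestrict
  have hp : p.comp (LinearMap.range (Matrix.toLin' (e i))).subtype = LinearMap.id := by
    refine LinearMap.ext fun ⟨x, y, hy⟩ => Subtype.ext ?_
    subst hy
    show Matrix.toLin' (e i) (Matrix.toLin' (e i) y) = Matrix.toLin' (e i) y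
    rw [← LinearMap.comp_apply, ← Matrix.toLin'_mul, he]
  exact ⟨Module.Finite.of_surjective p (LinearMap.surjective_rangeRestrict _), Module.Projective.of_split _ p hp⟩

lemma vanishesOutside_idemCx {a b : ℤ} (h0 : ∀ i, (i < a ∨ b < i) → e i = 0) :
    DRing.VanishesOutside (idemCx e D h₁ h₂) a b := fun i hi => by
  haveI : Subsingleton (LinearMap.range (Matrix.toLin' (e i))) := ⟨by
    rintro ⟨_, x, rfl⟩ ⟨_, y, rfl⟩
    refine Subtype.ext ?_
    simp [h0 i hi]⟩
  exact ModuleCat.isZero_of_subsingleton (ModuleCat.of S (LinearMap.range (Matrix.toLin' (e i))))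

include he in
/-- The base change of the complex of idempotents is the given complex. -/
theorem nonempty_bc_idemCx (E : DRing.Cx R) (s : ∀ i, E.X i →ₗ[R] (Fin n → R)) (r : ∀ i, (Fin n → R) →ₗ[R] E.X i)
    (hrs : ∀ i y, r i (s i y) = y) (hse : ∀ i x, Matrix.toLin' ((e i).map φ) x = s i (r i x))
    (hD : ∀ i x, r (i + 1) (Matrix.toLin' ((D i).map φ) x) = (E.d i (i + 1)).hom (r i x)) :
    Nonempty ((bc φ).obj (idemCx e D h₁ h₂) ≅ E) := by
  classical
  letI := φ.toAlgebra
  let W := idemCx e D h₁ h₂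
  have hmv : ∀ (A : Matrix (Fin n) (Fin n) S) (x : Fin n → S),
      (fun k => φ (Matrix.toLin' A x k)) = Matrix.toLin' (A.map φ) (fun k => φ (x k)) := fun A x => funext fun k => by
    simp only [Matrix.toLin'_apply]
    exact RingHom.map_mulVec φ A x k
  letI : ∀ i, Module S (E.X i) := fun i => Module.compHom (E.X i) φ
  haveI : ∀ i, IsScalarTower S R (E.X i) := fun i => IsScalarTower.of_algebraMap_smul fun _ _ => rfl
  let g : ∀ i, LinearMap.range (Matrix.toLin' (e i)) →ₗ[S] E.X i := fun i =>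
    { toFun := fun x => r i (fun k => φ (x.1 k))
      map_add' := fun x y => by rw [← map_add]; congr 1; ext k; simp
      map_smul' := fun a x => by
        show r i _ = φ a • r i _
        rw [← map_smul]; congr 1; ext k; simp }
  let Φ : ∀ i, R ⊗[S] LinearMap.range (Matrix.toLin' (e i)) →ₗ[R] E.X i := fun i =>
    (g i).liftBaseChange R
  let col : ∀ i, Fin n → R ⊗[S] LinearMap.range (Matrix.toLin' (e i)) := fun i k =>
    1 ⊗ₜ ⟨Matrix.toLin' (e i) (Pi.single k 1), LinearMap.mem_range_self _ _⟩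
  let Ψ : ∀ i, E.X i →ₗ[R] R ⊗[S] LinearMap.range (Matrix.toLin' (e i)) := fun i =>
    (Fintype.linearCombination R (col i)).comp (s i)
  have hΦ : ∀ i (a : R) x, Φ i (a ⊗ₜ x) = a • g i x := fun i a x => LinearMap.liftBaseChange_tmul ..
  have hcol : ∀ i k, Φ i (col i k) = r i (Pi.single k 1) := fun i k => by
    rw [hΦ, one_smul]
    show r i (fun l => φ (Matrix.toLin' (e i) (Pi.single k 1) l)) = _
    rw [hmv, hse, hrs]
    congr 1
    ext l
    simp [Pi.single_apply, apply_ite φ]
  have hΦΨ : ∀ i y, Φ i (Ψ i y) = y := fun i y => by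
    show Φ i (Fintype.linearCombination R (col i) (s i y)) = y
    rw [Fintype.linearCombination_apply, map_sum]
    simp only [map_smul, hcol]
    rw [← Finset.sum_congr rfl fun k _ => map_smul (r i) (s i y k) (Pi.single k 1), ← map_sum]
    conv_rhs => rw [← hrs i y]
    congr 1
    exact (pi_eq_sum_univ' (s i y)).symm
  have hΨΦ : ∀ i z, Ψ i (Φ i z) = z := fun i z => by
    induction z using TensorProduct.induction_on with
    | zero => simp
    | add a b ha hb => rw [map_add, map_add, ha, hb]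
    | tmul a x =>
      rw [hΦ, map_smul]
      obtain ⟨x, y, rfl⟩ := x
      have hx : Matrix.toLin' (e i) (Matrix.toLin' (e i) y) = Matrix.toLin' (e i) y := by
        rw [← LinearMap.comp_apply, ← Matrix.toLin'_mul, he]
      show a • Fintype.linearCombination R (col i) (s i (r i fun k => φ (Matrix.toLin' (e i) y k))) = _
      rw [← hse, ← hmv, hx, Fintype.linearCombination_apply]
      have e0 : (⟨Matrix.toLin' (e i) y, y, rfl⟩ : LinearMap.range (Matrix.toLin' (e i))) =
          ∑ k, Matrix.toLin' (e i) y k • (⟨Matrix.toLin' (e i) (Pi.single k 1), LinearMap.mem_range_self _ _⟩ :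
            LinearMap.range (Matrix.toLin' (e i))) := by
        refine Subtype.ext ?_
        rw [AddSubmonoidClass.coe_finsetSum]
        simp only [SetLike.val_smul]
        rw [← Finset.sum_congr rfl fun k _ => map_smul (Matrix.toLin' (e i)) (Matrix.toLin' (e i) y k) (Pi.single k 1),
          ← map_sum, ← pi_eq_sum_univ' (Matrix.toLin' (e i) y), hx]
      conv_rhs => rw [e0, TensorProduct.tmul_sum]
      rw [Finset.smul_sum]
      refine Finset.sum_congr rfl fun k _ => ?_
      simp only [col, TensorProduct.smul_tmul', TensorProduct.tmul_smul, smul_eq_mul, mul_one]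
      congr 1
      rw [Algebra.smul_def]
      exact mul_comm _ _
  let η : ∀ i, ((bc φ).obj W).X i ≅ E.X i := fun i => LinearEquiv.toModuleIso
    (LinearEquiv.ofLinear (Φ i) (Ψ i) (LinearMap.ext (hΦΨ i)) (LinearMap.ext (hΨΦ i)) :
      (R ⊗[S] LinearMap.range (Matrix.toLin' (e i))) ≃ₗ[R] E.X i)
  refine ⟨HomologicalComplex.Hom.isoOfComponents η ?_⟩
  rintro i _ rfl
  refine ModuleCat.hom_ext (LinearMap.ext fun z => ?_)
  show (E.d i (i + 1)).hom (Φ i z) = Φ (i + 1) (((bc φ).obj W).d i (i + 1) z)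
  induction z using TensorProduct.induction_on with
  | zero => exact (congrArg (E.d i (i + 1)).hom (map_zero _)).trans ((map_zero _).trans ((congrArg (Φ (i + 1)) (map_zero _)).trans (map_zero _)).symm)
  | add a b ha hb =>
    exact ((congrArg (E.d i (i + 1)).hom (map_add (Φ i) a b)).trans (map_add _ _ _)).trans
      ((congrArg₂ (· + ·) ha hb).trans
        ((congrArg (Φ (i + 1)) (map_add (((bc φ).obj W).d i (i + 1)).hom a b)).trans (map_add _ _ _)).symm)
  | tmul a x =>
    have hd : (W.d i (i + 1)).hom x = ⟨Matrix.toLin' (D i) x.1, by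
        exact ⟨Matrix.toLin' (D i) x.1, by rw [← LinearMap.comp_apply, ← Matrix.toLin'_mul, h₁]⟩⟩ := by
      simp only [W, idemCx, CochainComplex.of_d]
      rfl
    show (E.d i (i + 1)).hom (Φ i (a ⊗ₜ x)) = Φ (i + 1) (a ⊗ₜ (W.d i (i + 1)).hom x)
    rw [hd, hΦ, hΦ, map_smul]
    congr 1
    show (E.d i (i + 1)).hom (r i _) = r (i + 1) _
    rw [hmv, hD]

end Idem

/-- A perfect object over a filtered colimit of rings comes from a stage. -/
theorem exists_perfect_stage {J : Type u} [SmallCategory J] [IsFiltered J] (F : J ⥤ CommRingCat.{u}) (c : Cocone F)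
    (hc : IsColimit c) [∀ j : J, DRing.HasLBaseChange (c.ι.app j).hom] (K : Dual.D c.pt)
    (hK : DRing.IsPerfect c.pt K) :
    ∃ (j : J) (Kj : Dual.D (F.obj j)), DRing.IsPerfect (F.obj j) Kj ∧
      Nonempty ((DRing.LBaseChange (c.ι.app j).hom).obj Kj ≅ K) := by
  classical
  obtain ⟨E, a, b, hv, hE, ⟨eK⟩⟩ := hK
  have hsr : ∀ i, ∃ (m : ℕ) (r : (Fin m → c.pt) →ₗ[c.pt] E.X i), Function.Surjective r := fun i =>
    haveI := (hE i).1
    Module.Finite.exists_fin' c.pt (E.X i)
  choose m r0 hr0 using hsr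
  let n := (Finset.Icc a b).sup m
  let emb : ∀ i, (Fin n → c.pt) →ₗ[c.pt] (Fin (m i) → c.pt) := fun i =>
    if h : m i ≤ n then LinearMap.funLeft c.pt c.pt (Fin.castLE h) else 0
  let r : ∀ i, (Fin n → c.pt) →ₗ[c.pt] E.X i := fun i => (r0 i).comp (emb i)
  have hr : ∀ i, Function.Surjective (r i) := fun i y => by
    by_cases hi : i < a ∨ b < i
    · haveI := ModuleCat.subsingleton_of_isZero (hv i hi)
      exact ⟨0, Subsingleton.elim _ _⟩
    · have h : m i ≤ n := Finset.le_sup (f := m) (Finset.mem_Icc.2 (by omega))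
      obtain ⟨x, rfl⟩ := hr0 i y
      obtain ⟨z, rfl⟩ := LinearMap.funLeft_surjective_of_injective c.pt c.pt (Fin.castLE h) (Fin.castLE_injective h) x
      exact ⟨z, by simp [r, emb, h]⟩
  have hs : ∀ i, ∃ s : E.X i →ₗ[c.pt] (Fin n → c.pt), (r i).comp s = LinearMap.id := fun i =>
    haveI := (hE i).2
    Module.projective_lifting_property (r i) LinearMap.id (hr i)
  choose s hs using hs
  have hrs : ∀ i y, r i (s i y) = y := fun i y => LinearMap.congr_fun (hs i) y
  let eR : ℤ → Matrix (Fin n) (Fin n) c.pt := fun i => LinearMap.toMatrix' ((s i).comp (r i))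
  let DR : ℤ → Matrix (Fin n) (Fin n) c.pt := fun i =>
    LinearMap.toMatrix' (((s (i + 1)).comp (E.d i (i + 1)).hom).comp (r i))
  have sub0 : ∀ {i}, (i < a ∨ b < i) → Subsingleton (E.X i) := fun hi => ModuleCat.subsingleton_of_isZero (hv _ hi)
  have heR0 : ∀ i, (i < a ∨ b < i) → eR i = 0 := fun i hi => by
    haveI := sub0 hi
    simp [eR, show (s i).comp (r i) = 0 from LinearMap.ext fun x => by simp [Subsingleton.elim (r i x) 0]]
  have hDR0 : ∀ i, (i < a ∨ b < i) → DR i = 0 := fun i hi => by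
    haveI := sub0 hi
    simp [DR, show ((s (i + 1)).comp (E.d i (i + 1)).hom).comp (r i) = 0 from
      LinearMap.ext fun x => by simp [Subsingleton.elim (r i x) 0]]
  have q₁ : ∀ i, eR i * eR i = eR i := fun i => by
    rw [← LinearMap.toMatrix'_comp]
    exact congrArg _ (LinearMap.ext fun x => by simp [hrs])
  have q₂ : ∀ i, eR (i + 1) * DR i = DR i := fun i => by
    rw [← LinearMap.toMatrix'_comp]
    exact congrArg _ (LinearMap.ext fun x => by simp [hrs])
  have q₃ : ∀ i, DR (i + 1) * DR i = 0 := fun i => by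
    rw [← LinearMap.toMatrix'_comp, show (0 : Matrix (Fin n) (Fin n) c.pt) = LinearMap.toMatrix' 0 from (map_zero _).symm]
    refine congrArg _ (LinearMap.ext fun x => ?_)
    simp only [LinearMap.comp_apply, hrs, LinearMap.zero_apply]
    rw [← LinearMap.comp_apply (E.d (i + 1) (i + 1 + 1)).hom (E.d i (i + 1)).hom, ← ModuleCat.hom_comp, E.d_comp_d]
    simp
  let I := Finset.Icc a b
  obtain ⟨j, y, hy⟩ := exists_lift_stage F hc
    (fun k : (I × Fin n × Fin n) ⊕ (I × Fin n × Fin n) =>
      k.elim (fun k => eR k.1 k.2.1 k.2.2) (fun k => DR k.1 k.2.1 k.2.2))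
  let e0 : ℤ → Matrix (Fin n) (Fin n) (F.obj j) := fun i =>
    if h : i ∈ I then Matrix.of fun k l => y (Sum.inl (⟨i, h⟩, k, l)) else 0
  let D0 : ℤ → Matrix (Fin n) (Fin n) (F.obj j) := fun i =>
    if h : i ∈ I then Matrix.of fun k l => y (Sum.inr (⟨i, h⟩, k, l)) else 0
  let cj := (c.ι.app j).hom
  have hout : ∀ i, i ∉ I → i < a ∨ b < i := fun i hi => by
    simp only [I, Finset.mem_Icc] at hi
    omega
  have me : ∀ i, (e0 i).map cj = eR i := fun i => by
    by_cases h : i ∈ I
    · ext k l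
      simp only [e0, dif_pos h, Matrix.map_apply, Matrix.of_apply]
      exact hy _
    · rw [heR0 i (hout i h)]
      simp [e0, dif_neg h]
  have mD : ∀ i, (D0 i).map cj = DR i := fun i => by
    by_cases h : i ∈ I
    · ext k l
      simp only [D0, dif_pos h, Matrix.map_apply, Matrix.of_apply]
      exact hy _
    · rw [hDR0 i (hout i h)]
      simp [D0, dif_neg h]
  let I' := Finset.Icc (a - 1) b
  obtain ⟨l, f, hl⟩ := exists_eq_stage F hc (j := j)
    (fun k : I' × Fin n × Fin n × Fin 3 =>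
      (![e0 k.1 * e0 k.1, e0 ((k.1 : ℤ) + 1) * D0 k.1, D0 ((k.1 : ℤ) + 1) * D0 k.1] k.2.2.2) k.2.1 k.2.2.1)
    (fun k => (![e0 k.1, D0 k.1, 0] k.2.2.2) k.2.1 k.2.2.1)
    (by
      rintro ⟨i, k, l, t⟩
      fin_cases t <;> simp only [Fin.isValue, Matrix.cons_val_zero, Matrix.cons_val_one, Matrix.cons_val_two,
        Matrix.cons_val, Fin.zero_eta, Fin.mk_one, Fin.reduceFinMk]
      · exact (congrFun₂ ((Matrix.map_mul (f := cj) (L := e0 i) (M := e0 i)).trans (by rw [me, q₁, ← me])) k l :)
      · exact (congrFun₂ ((Matrix.map_mul (f := cj) (L := e0 ((i : ℤ) + 1)) (M := D0 i)).trans (by rw [me, mD, q₂, ← mD])) k l :)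
      · exact (congrFun₂ ((Matrix.map_mul (f := cj) (L := D0 ((i : ℤ) + 1)) (M := D0 i)).trans
          (show _ = (0 : Matrix (Fin n) (Fin n) (F.obj j)).map cj by rw [mD, mD, q₃, Matrix.map_zero _ (map_zero cj)])) k l :))
  let fl := (F.map f).hom
  let e1 : ℤ → Matrix (Fin n) (Fin n) (F.obj l) := fun i => (e0 i).map fl
  let D1 : ℤ → Matrix (Fin n) (Fin n) (F.obj l) := fun i => (D0 i).map fl
  have z0 : ∀ i, i ∉ I' → e0 i = 0 ∧ D0 i = 0 := fun i hi => by
    have h : i ∉ I := fun h => hi (by simp only [I, I', Finset.mem_Icc] at h ⊢; omega)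
    exact ⟨dif_neg h, dif_neg h⟩
  have p₁ : ∀ i, e1 i * e1 i = e1 i := fun i => by
    rw [← Matrix.map_mul]
    by_cases h : i ∈ I'
    · ext k m'
      exact hl (⟨i, h⟩, k, m', 0)
    · simp [e1, (z0 i h).1]
  have p₂ : ∀ i, e1 (i + 1) * D1 i = D1 i := fun i => by
    rw [← Matrix.map_mul]
    by_cases h : i ∈ I'
    · ext k m'
      exact hl (⟨i, h⟩, k, m', 1)
    · simp [D1, (z0 i h).2]
  have p₃ : ∀ i, D1 (i + 1) * D1 i = 0 := fun i => by
    rw [← Matrix.map_mul]
    by_cases h : i ∈ I'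
    · ext k m'
      refine (hl (⟨i, h⟩, k, m', 2)).trans ?_
      exact map_zero fl
    · simp [D1, (z0 i h).2]
  let φ := (c.ι.app l).hom
  have hφ : ∀ A : Matrix (Fin n) (Fin n) (F.obj j), (A.map fl).map φ = A.map cj := fun A => by
    ext k m'
    exact ConcreteCategory.congr_hom (c.w f) (A k m')
  obtain ⟨θ⟩ := nonempty_bc_idemCx φ e1 D1 p₁ p₂ p₃ E s r hrs
    (fun i x => by rw [hφ, me, Matrix.toLin'_toMatrix']; rfl)
    (fun i x => by rw [hφ, mD, Matrix.toLin'_toMatrix']; simp [hrs])
  have hWv : DRing.VanishesOutside (idemCx e1 D1 p₂ p₃) a b := vanishesOutside_idemCx e1 D1 p₂ p₃ fun i hi => by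
    have h : i ∉ I := fun h => by simp only [I, Finset.mem_Icc] at h; omega
    simp [e1, e0, dif_neg h]
  have hWp := finiteProjective_idemCx e1 D1 p₁ p₂ p₃
  obtain ⟨ε⟩ := KF.lBase_value φ (KF.isKFlat_of_vanishesAbove (P := idemCx e1 D1 p₂ p₃) (fun i hi => hWv i (Or.inr hi))
    fun i => haveI := (hWp i).2; inferInstance)
  exact ⟨l, DRing.toD (idemCx e1 D1 p₂ p₃), ⟨_, a, b, hWv, hWp, ⟨Iso.refl _⟩⟩,
    ⟨ε ≪≫ DerivedCategory.Q.mapIso θ ≪≫ eK⟩⟩

end GrothLib.DR
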