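import Groth.Agent.Lib.DCxKFlat.LBaseKFlat
import Groth.Agent.Lib.DCxRing.BC
import Groth.Agent.Lib.DCxRing.ClassRep
import Mathlib.RingTheory.Localization.Free
import Mathlib.RingTheory.LocalRing.Module
import Mathlib.Data.Int.Interval
import Mathlib.Algebra.Homology.HomologicalComplexBiprod
import Mathlib.RingTheory.Localization.BaseChange

/-!
# Quasi-isomorphic perfect complexes are stably isomorphic near a prime
-/

set_option autoImplicit false
set_option maxHeartbeats 1000000
universe u

open CategoryTheory CategoryTheory.Limits HomologicalComplex TensorProduct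

attribute [local instance] HasDerivedCategory.standard
attribute [local instance] Abelian.hasFiniteBiproducts

namespace GrothLib.DR

variable {R : Type u} [CommRing R]

/-- Finite projective modules in split short complexes. -/
theorem finiteProjective_middle {S : ShortComplex (ModuleCat.{u} R)} (σ : S.Splitting)
    (h₁ : Module.Finite R S.X₁ ∧ Module.Projective R S.X₁) (h₃ : Module.Finite R S.X₃ ∧ Module.Projective R S.X₃) :
    Module.Finite R S.X₂ ∧ Module.Projective R S.X₂ := by
  obtain ⟨_, _⟩ := h₁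
  obtain ⟨_, _⟩ := h₃
  let p : S.X₁ × S.X₃ →ₗ[R] S.X₂ := S.f.hom.coprod σ.s.hom
  let i : S.X₂ →ₗ[R] S.X₁ × S.X₃ := σ.r.hom.prod S.g.hom
  have h : p.comp i = LinearMap.id := LinearMap.ext fun x => ConcreteCategory.congr_hom σ.id x
  exact ⟨Module.Finite.of_surjective p fun x => ⟨i x, LinearMap.congr_fun h x⟩, Module.Projective.of_split i p h⟩

theorem finiteProjective_right {S : ShortComplex (ModuleCat.{u} R)} (σ : S.Splitting)
    (h₂ : Module.Finite R S.X₂ ∧ Module.Projective R S.X₂) : Module.Finite R S.X₃ ∧ Module.Projective R S.X₃ := by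
  obtain ⟨_, _⟩ := h₂
  have h : S.g.hom.comp σ.s.hom = LinearMap.id := LinearMap.ext fun x => ConcreteCategory.congr_hom σ.s_g x
  exact ⟨Module.Finite.of_surjective S.g.hom fun x => ⟨σ.s.hom x, LinearMap.congr_fun h x⟩,
    Module.Projective.of_split σ.s.hom S.g.hom h⟩

/-- A bounded complex of finite projectives with null-homotopic identity. -/
def IsContractiblePerfect (C : DRing.Cx R) (a b : ℤ) : Prop :=
  DRing.VanishesOutside C a b ∧ DRing.TermwiseFiniteProjective C ∧ Nonempty (Homotopy (𝟙 C) 0)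

/-- Quasi-isomorphic perfect complexes become isomorphic after adding contractible ones. -/
theorem exists_biprod_iso {M N : DRing.Cx R} {a b : ℤ} (hM : DRing.VanishesOutside M a b)
    (hN : DRing.VanishesOutside N a b) (hMp : DRing.TermwiseFiniteProjective M)
    (hNp : DRing.TermwiseFiniteProjective N) (e : DRing.toD M ≅ DRing.toD N) :
    ∃ C D : DRing.Cx R, IsContractiblePerfect C (a - 1) b ∧ IsContractiblePerfect D (a - 1) b ∧
      Nonempty (M ⊞ C ≅ N ⊞ D) := by
  haveI := isKProjective M b (fun i hi => hM i (Or.inr hi)) fun i => (hMp i).2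
  haveI := isKProjective N b (fun i hi => hN i (Or.inr hi)) fun i => (hNp i).2
  obtain ⟨f, hf⟩ := exists_lift M e.hom
  haveI : QuasiIso f := by
    haveI : IsIso (DerivedCategory.Q.map f) := hf ▸ inferInstance
    exact (DerivedCategory.isIso_Q_map_iff_quasiIso (φ := f)).1 inferInstance
  let D := CochainComplex.mappingCone (𝟙 M)
  have hDp : DRing.TermwiseFiniteProjective D := fun n =>
    finiteProjective_middle (KF.coneSplitting (𝟙 M) n) (hMp n) ⟨(hMp (n + 1)).1, (hMp (n + 1)).2⟩
  have hDv : DRing.VanishesOutside D (a - 1) b := fun n hn => by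
    rw [IsZero.iff_id_eq_zero]
    refine CochainComplex.mappingCone.ext_from (𝟙 M) (n + 1) n rfl ?_ ?_
    · exact (hM _ (by omega)).eq_of_src _ _
    · exact (hM _ (by omega)).eq_of_src _ _
  let hD : Homotopy (𝟙 D) 0 :=
    CochainComplex.mappingCone.homotopyToZeroOfId M
  have hDa : D.Acyclic := (DerCat.quasiIso_iff_acyclic_mappingCone (𝟙 M)).1 inferInstance
  let j : M ⟶ N ⊞ D := biprod.lift f (CochainComplex.mappingCone.inr (𝟙 M))
  let σ : (ShortComplex.mk (biprod.inr : D ⟶ N ⊞ D) biprod.fst biprod.inr_fst).Splitting :=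
    { r := biprod.snd, s := biprod.inl, f_r := biprod.inr_snd, s_g := biprod.inl_fst
      id := (add_comm _ _).trans biprod.total }
  haveI : QuasiIso (biprod.fst : N ⊞ D ⟶ N) := KF.quasiIso_g_of_acyclic σ.shortExact hDa
  have hj : QuasiIso j :=
    have : QuasiIso (j ≫ biprod.fst) := by rw [biprod.lift_fst]; infer_instance
    quasiIso_of_comp_right j biprod.fst
  let ev := fun n => HomologicalComplex.eval (ModuleCat.{u} R) (ComplexShape.up ℤ) n
  let ρ : ∀ n, (N ⊞ D).X n ⟶ M.X n := fun n =>
    (biprod.snd : N ⊞ D ⟶ D).f n ≫ (CochainComplex.mappingCone.snd (𝟙 M)).v n n (add_zero n)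
  have hr : ∀ n, j.f n ≫ ρ n = 𝟙 (M.X n) := fun n => by
    rw [← Category.assoc, ← HomologicalComplex.comp_f, biprod.lift_snd, CochainComplex.mappingCone.inr_f_snd_v]
  have hNDp : DRing.TermwiseFiniteProjective (N ⊞ D) := fun n =>
    finiteProjective_middle (σ.map (ev n)) (hDp n) (hNp n)
  have hNDv : DRing.VanishesOutside (N ⊞ D) (a - 1) b := fun n hn => by
    rw [IsZero.iff_id_eq_zero]
    have := congrArg (fun t : (N ⊞ D) ⟶ N ⊞ D => t.f n) σ.id
    refine Eq.trans this.symm ?_
    show (biprod.snd ≫ biprod.inr + biprod.fst ≫ biprod.inl : (N ⊞ D) ⟶ N ⊞ D).f n = 0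
    rw [HomologicalComplex.add_f_apply, HomologicalComplex.comp_f, HomologicalComplex.comp_f,
      (hDv n hn).eq_of_tgt ((biprod.snd : N ⊞ D ⟶ D).f n) 0,
      (hN n (by omega)).eq_of_tgt ((biprod.fst : N ⊞ D ⟶ N).f n) 0, zero_comp, zero_comp, add_zero]
  haveI := isKProjective (N ⊞ D) b (fun i hi => hNDv i (Or.inr hi)) fun i => (hNDp i).2
  obtain ⟨g, hg⟩ := exists_lift (N ⊞ D) (L := M) (inv (DerivedCategory.Q.map j))
  obtain ⟨H⟩ := (map_eq_iff M (j ≫ g) (𝟙 M)).1 (by
    rw [Functor.map_comp, hg, IsIso.hom_inv_id, CategoryTheory.Functor.map_id])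
  have hnull : j ≫ g = Homotopy.nullHomotopicMap H.hom + 𝟙 M := HomologicalComplex.hom_ext _ _ fun i => H.comm i
  let r : N ⊞ D ⟶ M := g - Homotopy.nullHomotopicMap fun i k => ρ i ≫ H.hom i k
  have hjr : j ≫ r = 𝟙 M := by
    have h' : (fun i k => j.f i ≫ ρ i ≫ H.hom i k) = H.hom := by
      funext i k
      rw [← Category.assoc, hr, Category.id_comp]
    rw [Preadditive.comp_sub, Homotopy.comp_nullHomotopicMap, h']
    exact sub_eq_iff_eq_add'.2 hnull
  haveI : Mono j := (SplitMono.mk r hjr).mono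
  let S : ShortComplex (DRing.Cx R) := ShortComplex.mk j (cokernel.π j) (cokernel.condition j)
  have hS : S.ShortExact := KF.shortExact_cokernel j
  let σS : S.Splitting :=
    haveI := hS.epi_g
    ShortComplex.Splitting.ofExactOfRetraction S hS.exact r hjr this
  have hCp : DRing.TermwiseFiniteProjective S.X₃ := fun n => finiteProjective_right (σS.map (ev n)) (hNDp n)
  have hCv : DRing.VanishesOutside S.X₃ (a - 1) b := fun n hn => by
    rw [IsZero.iff_id_eq_zero]
    have := congrArg (fun t : S.X₃ ⟶ S.X₃ => t.f n) σS.s_g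
    refine Eq.trans this.symm ?_
    show σS.s.f n ≫ S.g.f n = 0
    rw [(hNDv n hn).eq_of_tgt (σS.s.f n) 0, zero_comp]
  haveI := isKProjective S.X₃ b (fun i hi => hCv i (Or.inr hi)) fun i => (hCp i).2
  have hCz : IsZero (DerivedCategory.Q.obj S.X₃) := by
    haveI : QuasiIso S.f := hj
    have hA : S.X₃.Acyclic := KF.acyclic_X₃_of_quasiIso hS
    exact isZero_toD_of_acyclic hA
  exact ⟨S.X₃, D, ⟨hCv, hCp, (map_eq_iff S.X₃ (𝟙 _) 0).1 (hCz.eq_of_src _ _)⟩, ⟨hDv, hDp, ⟨hD⟩⟩,
    ⟨σS.isoBinaryBiproduct.symm⟩⟩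

/-- A finite projective module is free over a basic open neighbourhood of any prime. -/
theorem exists_away_free (C : Type u) [AddCommGroup C] [Module R C] [Module.Finite R C] [Module.Projective R C]
    (p : Ideal R) [p.IsPrime] :
    ∃ r : R, r ∉ p ∧ ∀ (S : Type u) [CommRing S] [Algebra R S], IsUnit (algebraMap R S r) →
      Module.Free S (S ⊗[R] C) := by
  haveI : Module.FinitePresentation R C := Module.finitePresentation_of_projective R C
  haveI : Module.Free (Localization.AtPrime p) (Localization.AtPrime p ⊗[R] C) :=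
    Module.free_of_flat_of_isLocalRing
  obtain ⟨r, hr, hfree, -⟩ := Module.FinitePresentation.exists_free_localizedModule_powers p.primeCompl
    (TensorProduct.mk R (Localization.AtPrime p) C 1) (Localization.AtPrime p)
  haveI := hfree
  haveI : Module.Free (Localization.Away r) (Localization.Away r ⊗[R] C) := Module.Free.of_equiv
    (IsLocalizedModule.isBaseChange (Submonoid.powers r) (Localization.Away r)
      (LocalizedModule.mkLinearMap (Submonoid.powers r) C)).equiv.symm
  refine ⟨r, hr, fun S _ _ hu => ?_⟩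
  letI : Algebra (Localization.Away r) S := (IsLocalization.Away.lift (S := Localization.Away r) r hu).toAlgebra
  haveI : IsScalarTower R (Localization.Away r) S := IsScalarTower.of_algebraMap_eq fun x =>
    (IsLocalization.Away.lift_eq r hu x).symm
  exact Module.Free.of_equiv (TensorProduct.AlgebraTensorModule.cancelBaseChange R (Localization.Away r) S S C)

/-- Finitely many finite projective modules become free near a prime. -/
theorem exists_away_free_finset (p : Ideal R) [p.IsPrime] {ι : Type} (s : Finset ι) (M : ι → Type u)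
    [∀ k, AddCommGroup (M k)] [∀ k, Module R (M k)] (h : ∀ k ∈ s, Module.Finite R (M k) ∧ Module.Projective R (M k)) :
    ∃ f : R, f ∉ p ∧ ∀ k ∈ s, Module.Free (Localization.Away f)
      ((ModuleCat.extendScalars.{u, u, u} (algebraMap R (Localization.Away f))).obj (ModuleCat.of R (M k))) := by
  classical
  have hk : ∀ k, ∃ r : R, r ∉ p ∧ (k ∈ s → ∀ (S : Type u) [CommRing S] [Algebra R S], IsUnit (algebraMap R S r) →
      Module.Free S (S ⊗[R] M k)) := fun k => by
    by_cases hks : k ∈ s
    · obtain ⟨_, _⟩ := h k hks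
      obtain ⟨r, hr, hfree⟩ := exists_away_free (M k) p
      exact ⟨r, hr, fun _ => hfree⟩
    · exact ⟨1, fun h1 => Ideal.IsPrime.ne_top ‹_› ((Ideal.eq_top_iff_one p).2 h1), fun h' => absurd h' hks⟩
  choose r hr hfree using hk
  refine ⟨∏ k ∈ s, r k, fun hf => ?_, fun k hks => ?_⟩
  · obtain ⟨k, -, hk⟩ := (Ideal.IsPrime.prod_mem_iff).1 hf
    exact hr k hk
  · haveI := hfree k hks (Localization.Away (∏ k ∈ s, r k))
      (isUnit_of_dvd_unit (map_dvd (algebraMap R _) (Finset.dvd_prod_of_mem r hks))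
        (IsLocalization.Away.algebraMap_isUnit _))
    obtain ⟨e⟩ := nonempty_extendScalars_iso (A := R) (B := Localization.Away (∏ k ∈ s, r k)) (M k)
    first
      | exact Module.Free.of_equiv e.toLinearEquiv
      | exact Module.Free.of_equiv e.toLinearEquiv.symm

/-- The boundaries of a contractible complex are direct summands. -/
theorem exists_retraction_range {C : DRing.Cx R} (H : Homotopy (𝟙 C) 0) (i : ℤ) :
    ∃ ρ : C.X (i + 1) →ₗ[R] LinearMap.range (C.d i (i + 1)).hom,
      ρ.comp (LinearMap.range (C.d i (i + 1)).hom).subtype = LinearMap.id := by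
  refine ⟨((C.d i (i + 1)).hom.comp (H.hom (i + 1) i).hom).codRestrict _ fun x => ⟨_, rfl⟩, LinearMap.ext ?_⟩
  rintro ⟨_, y, rfl⟩
  refine Subtype.ext ?_
  show (C.d i (i + 1)).hom ((H.hom (i + 1) i).hom ((C.d i (i + 1)).hom y)) = (C.d i (i + 1)).hom y
  have hc := ConcreteCategory.congr_hom (H.comm i) y
  rw [dNext_eq _ (show (ComplexShape.up ℤ).Rel i (i + 1) from rfl),
    prevD_eq _ (show (ComplexShape.up ℤ).Rel (i - 1) i from by simp)] at hc
  change y = (H.hom (i + 1) i).hom ((C.d i (i + 1)).hom y) + (C.d (i - 1) i).hom ((H.hom i (i - 1)).hom y) + 0 at hc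
  conv_rhs => rw [hc, add_zero, map_add]
  rw [← LinearMap.comp_apply (C.d i (i + 1)).hom (C.d (i - 1) i).hom, ← ModuleCat.hom_comp, C.d_comp_d]
  simp

/-- The boundaries of the base change of a contractible complex. -/
theorem nonempty_range_bc_equiv {S : Type u} [CommRing S] (φ : R →+* S) {C : DRing.Cx R} (H : Homotopy (𝟙 C) 0)
    (i : ℤ) :
    Nonempty ((ModuleCat.extendScalars.{u, u, u} φ).obj (ModuleCat.of R (LinearMap.range (C.d i (i + 1)).hom)) ≃ₗ[S]
      LinearMap.range (((bc φ).obj C).d i (i + 1)).hom) := by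
  obtain ⟨ρ, hρ⟩ := exists_retraction_range H i
  let F := ModuleCat.extendScalars.{u, u, u} φ
  let W := ModuleCat.of R (LinearMap.range (C.d i (i + 1)).hom)
  let π : C.X i ⟶ W := ModuleCat.ofHom (C.d i (i + 1)).hom.rangeRestrict
  let ι : W ⟶ C.X (i + 1) := ModuleCat.ofHom (LinearMap.range (C.d i (i + 1)).hom).subtype
  haveI : Epi π := (ModuleCat.epi_iff_surjective _).2 (LinearMap.surjective_rangeRestrict _)
  haveI : F.IsLeftAdjoint := ⟨_, ⟨ModuleCat.extendRestrictScalarsAdj φ⟩⟩
  haveI : Epi (F.map π) := inferInstance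
  haveI : Mono (F.map ι) := (SplitMono.mk (F.map (ModuleCat.ofHom ρ)) (by
    rw [← F.map_comp, ← F.map_id]
    exact congrArg _ (ModuleCat.hom_ext hρ))).mono
  have e : LinearMap.range (((bc φ).obj C).d i (i + 1)).hom = LinearMap.range (F.map ι).hom := by
    have hd : ((bc φ).obj C).d i (i + 1) = F.map π ≫ F.map ι := (congrArg F.map (show C.d i (i + 1) = π ≫ ι from rfl)).trans (F.map_comp π ι)
    refine (congrArg (fun t => LinearMap.range (ModuleCat.Hom.hom t)) hd).trans ?_
    exact LinearMap.range_comp_of_range_eq_top (F.map ι).hom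
      (LinearMap.range_eq_top.2 ((ModuleCat.epi_iff_surjective (F.map π)).1 inferInstance))
  exact ⟨(LinearEquiv.ofInjective (F.map ι).hom ((ModuleCat.mono_iff_injective _).1 inferInstance)).trans
    (LinearEquiv.ofEq _ _ e.symm)⟩

/-- The statement of stable isomorphism near a prime. -/
theorem exists_away_iso (p : Ideal R) [p.IsPrime] {M N : DRing.Cx R} {a b : ℤ} (hM : DRing.VanishesOutside M a b)
    (hN : DRing.VanishesOutside N a b) (hMp : DRing.TermwiseFiniteProjective M)
    (hNp : DRing.TermwiseFiniteProjective N) (h : Nonempty (DRing.toD M ≅ DRing.toD N)) :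
    ∃ f : R, f ∉ p ∧ ∃ P Q : DRing.Cx (Localization.Away f),
      ((∃ a' b' : ℤ, DRing.VanishesOutside P a' b') ∧ DRing.TermwiseFiniteFree P ∧
          (∀ i : ℤ, Module.Free (Localization.Away f) (LinearMap.range (P.d i (i + 1)).hom)) ∧ Nonempty (Homotopy (𝟙 P) 0)) ∧
      ((∃ a' b' : ℤ, DRing.VanishesOutside Q a' b') ∧ DRing.TermwiseFiniteFree Q ∧
          (∀ i : ℤ, Module.Free (Localization.Away f) (LinearMap.range (Q.d i (i + 1)).hom)) ∧ Nonempty (Homotopy (𝟙 Q) 0)) ∧
      Nonempty ((bc (algebraMap R (Localization.Away f))).obj M ⊞ P ≅ (bc (algebraMap R (Localization.Away f))).obj N ⊞ Q) := by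
  classical
  obtain ⟨C, D, hC, hD, ⟨E⟩⟩ := exists_biprod_iso hM hN hMp hNp h.some
  let E' : Bool → DRing.Cx R := fun k => cond k C D
  have hE : ∀ k, IsContractiblePerfect (E' k) (a - 1) b := fun k => by cases k <;> assumption
  let T : Bool × Bool × ℤ → Type u := fun k =>
    cond k.2.1 ((E' k.1).X k.2.2 : Type u) (LinearMap.range ((E' k.1).d k.2.2 (k.2.2 + 1)).hom : Type u)
  letI : ∀ k, AddCommGroup (T k) := fun ⟨x, y, z⟩ => by
    cases y <;> dsimp only [T, cond] <;> infer_instance
  letI : ∀ k, Module R (T k) := fun ⟨x, y, z⟩ => by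
    cases y <;> dsimp only [T, cond] <;> infer_instance
  obtain ⟨f, hf, hfree⟩ := exists_away_free_finset p
    ((Finset.univ : Finset Bool) ×ˢ (Finset.univ : Finset Bool) ×ˢ Finset.Icc (a - 1) b) T (by
      rintro ⟨x, y, z⟩ -
      obtain ⟨hv, hp, ⟨H⟩⟩ := hE x
      haveI := (hp z).1
      haveI := (hp (z + 1)).1
      haveI := (hp (z + 1)).2
      cases y
      · obtain ⟨ρ, hρ⟩ := exists_retraction_range H z
        exact ⟨Module.Finite.of_surjective ρ fun w => ⟨w.1, LinearMap.congr_fun hρ w⟩, Module.Projective.of_split _ ρ hρ⟩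
      · exact hp z)
  let φ := algebraMap R (Localization.Away f)
  have main : ∀ k, (∃ a' b' : ℤ, DRing.VanishesOutside ((bc φ).obj (E' k)) a' b') ∧
      DRing.TermwiseFiniteFree ((bc φ).obj (E' k)) ∧
      (∀ i : ℤ, Module.Free (Localization.Away f) (LinearMap.range (((bc φ).obj (E' k)).d i (i + 1)).hom)) ∧
      Nonempty (Homotopy (𝟙 ((bc φ).obj (E' k))) 0) := by
    intro k
    obtain ⟨hv, hp, ⟨H⟩⟩ := hE k
    have hv' : DRing.VanishesOutside ((bc φ).obj (E' k)) (a - 1) b := fun i hi =>
      (ModuleCat.extendScalars.{u, u, u} φ).map_isZero (hv i hi)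
    refine ⟨⟨_, _, hv'⟩, fun i => ⟨(termwiseFiniteProjective_bc φ hp i).1, ?_⟩, fun i => ?_,
      ⟨(Homotopy.ofEq ((bc φ).map_id (E' k)).symm).trans
        (((ModuleCat.extendScalars.{u, u, u} φ).mapHomotopy H).trans (Homotopy.ofEq ((bc φ).map_zero _ _)))⟩⟩
    · by_cases hi : i < a - 1 ∨ b < i
      · haveI := ModuleCat.subsingleton_of_isZero (hv' i hi)
        infer_instance
      · exact hfree (k, true, i) (by simp only [Finset.mem_product, Finset.mem_univ, Finset.mem_Icc, true_and]; omega)
    · obtain ⟨e⟩ := nonempty_range_bc_equiv φ H i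
      by_cases hi : i < a - 1 ∨ b < i
      · haveI := ModuleCat.subsingleton_of_isZero (hv' i hi)
        haveI : Subsingleton (LinearMap.range (((bc φ).obj (E' k)).d i (i + 1)).hom) := ⟨by
          rintro ⟨_, x, rfl⟩ ⟨_, y, rfl⟩
          rw [Subsingleton.elim x y]⟩
        infer_instance
      · haveI : Module.Free (Localization.Away f) ((ModuleCat.extendScalars.{u, u, u} φ).obj
            (ModuleCat.of R (LinearMap.range ((E' k).d i (i + 1)).hom))) := hfree (k, false, i) (by simp only [Finset.mem_product, Finset.mem_univ, Finset.mem_Icc, true_and]; omega)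
        exact Module.Free.of_equiv e
  haveI : (bc φ).Additive := inferInstanceAs ((ModuleCat.extendScalars.{u, u, u} φ).mapHomologicalComplex (ComplexShape.up ℤ)).Additive
  haveI : PreservesBinaryBiproducts (bc φ) := preservesBinaryBiproducts_of_preservesBiproducts (bc φ)
  exact ⟨f, hf, (bc φ).obj C, (bc φ).obj D, main true, main false,
    ⟨((bc φ).mapBiprod M C).symm ≪≫ (bc φ).mapIso E ≪≫ (bc φ).mapBiprod N D⟩⟩

end GrothLib.DR
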