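import Groth.Agent.Lib.DCxRing.Stupid
import Groth.Agent.Lib.DCxRing.Restrict
import Mathlib.Algebra.Homology.DerivedCategory.SingleTriangle
import Mathlib.LinearAlgebra.Pi

/-!
# Perfect objects are built from the ring
-/

set_option autoImplicit false
universe u

open CategoryTheory CategoryTheory.Limits HomologicalComplex Pretriangulated

attribute [local instance] HasDerivedCategory.standard

namespace GrothLib.DR

variable {A : Type u} [CommRing A]

/-- A property closed under shifts, extensions and summands containing `A` holds for perfect objects. -/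
theorem prop_of_isPerfect (P : ObjectProperty (Dual.D A)) [P.IsClosedUnderIsomorphisms] (hA : P (Dual.inD A A))
    (hshift : ∀ (K : Dual.D A) (n : ℤ), P K → P ((CategoryTheory.shiftFunctor (Dual.D A) n).obj K))
    (hext : ∀ T : Triangle (Dual.D A), T ∈ distinguishedTriangles → P T.obj₁ → P T.obj₃ → P T.obj₂)
    (hsum : ∀ (X Y : Dual.D A) [HasBinaryBiproduct X Y], P (X ⊞ Y) → P X)
    (K : Dual.D A) (hK : DRing.IsPerfect A K) : P K := by
  let F := DerivedCategory.singleFunctor (ModuleCat.{u} A) 0
  have hzero : ∀ X : Dual.D A, IsZero X → P X := fun X hX => by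
    refine hsum X (Dual.inD A A) (P.prop_of_iso ?_ hA)
    exact
      { hom := biprod.inr
        inv := biprod.snd
        inv_hom_id := biprod.hom_ext _ _ (hX.eq_of_tgt _ _) (by simp) }
  have hequiv : ∀ (M N : Type u) [AddCommGroup M] [Module A M] [AddCommGroup N] [Module A N], (M ≃ₗ[A] N) →
      P (Dual.inD A M) → P (Dual.inD A N) := fun M N _ _ _ _ e h => P.prop_of_iso (F.mapIso e.toModuleIso) h
  have hprod : ∀ (M N : Type u) [AddCommGroup M] [Module A M] [AddCommGroup N] [Module A N],
      P (Dual.inD A M) → P (Dual.inD A N) → P (Dual.inD A (M × N)) := by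
    intro M N _ _ _ _ hM hN
    let S := ShortComplex.mk (ModuleCat.ofHom (LinearMap.inl A M N)) (ModuleCat.ofHom (LinearMap.snd A M N))
      (by ext; rfl)
    have hS : S.ShortExact :=
      { exact := (ShortComplex.ShortExact.moduleCat_exact_iff_function_exact _).2 Function.Exact.inl_snd
        mono_f := (ModuleCat.mono_iff_injective _).2 LinearMap.inl_injective
        epi_g := (ModuleCat.epi_iff_surjective _).2 LinearMap.snd_surjective }
    exact hext _ hS.singleTriangle_distinguished hM hN
  have hfree : ∀ n : ℕ, P (Dual.inD A (Fin n → A)) := by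
    intro n
    induction n with
    | zero => exact hzero _ (F.map_isZero (ModuleCat.isZero_of_subsingleton _))
    | succ n ih => exact hequiv _ _ (Fin.consLinearEquiv A fun _ : Fin (n + 1) => A) (hprod _ _ hA ih)
  obtain ⟨E, a, b, hv, hf, ⟨e⟩⟩ := hK
  refine P.prop_of_iso e (prop_bounded P (fun e h => P.prop_of_iso e h) hzero hext E a b hv fun i _ _ => ?_)
  refine hshift _ _ ?_
  haveI := (hf i).1
  haveI := (hf i).2
  obtain ⟨n, f, g, -, -, hfg⟩ := Module.Finite.exists_comp_eq_id_of_projective A (E.X i)
  let M₀ := ModuleCat.of A (Fin n → A)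
  have hmem : P (Dual.inD A (E.X i × LinearMap.ker f)) := by
    have hs : Function.Surjective f := fun x => ⟨g x, LinearMap.congr_fun hfg x⟩
    refine hequiv _ _ ?_ (hfree n)
    exact LinearEquiv.ofBijective (f.prod (LinearMap.id - g.comp f |>.codRestrict _ fun x => by
        show f (x - g (f x)) = 0
        rw [map_sub, ← LinearMap.comp_apply f g, hfg, LinearMap.id_apply, sub_self]))
      ⟨fun x y hxy => by
        have h1 := congrArg Prod.fst hxy
        have h2 := congrArg (fun t => (t.2 : Fin n → A)) hxy
        simp only [LinearMap.prod_apply, Function.prod_apply, LinearMap.codRestrict_apply, LinearMap.sub_apply,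
          LinearMap.id_apply, LinearMap.comp_apply] at h1 h2
        rwa [h1, sub_left_inj] at h2,
      fun ⟨m, k⟩ => ⟨g m + k, by
        have hk : f (k : Fin n → A) = 0 := k.2
        have hm : f (g m) = m := LinearMap.congr_fun hfg m
        refine Prod.ext ?_ (Subtype.ext ?_) <;> simp [hk, hm]⟩⟩
  haveI : F.Additive := inferInstance
  haveI : PreservesBinaryBiproducts F := preservesBinaryBiproducts_of_preservesBiproducts F
  have hbi : P (Dual.inD A (E.X i) ⊞ Dual.inD A (LinearMap.ker f)) := by
    refine P.prop_of_iso ?_ hmem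
    exact F.mapIso (ModuleCat.biprodIsoProd (ModuleCat.of A (E.X i)) (ModuleCat.of A (LinearMap.ker f))).symm ≪≫
      F.mapBiprod _ _
  exact hsum _ _ hbi

end GrothLib.DR
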