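import Groth.Agent.Lib.DCxKFlat.Derived
import Groth.Agent.Lib.DCxKFlat.Amplitude
import Groth.Agent.Lib.DCxKFlat.LBaseKFlat
import Groth.Agent.Lib.Flatness.InjMod

/-!
# Tor amplitude in `[a, ∞)`
-/

set_option autoImplicit false
universe u

open CategoryTheory CategoryTheory.Limits HomologicalComplex MonoidalCategory
open scoped TensorProduct

attribute [local instance] HasDerivedCategory.standard

namespace GrothLib.KF

variable {R : Type u} [CommRing R]

/-- `M ⊗^L K` is computed by a K-flat representative of `K`. -/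
theorem exactAt_tensorCx_iff_lTensorCx (K : DRing.Cx R) [DRing.HasLTensorCx R K] {P : DRing.Cx R} (hP : IsKFlat P)
    (e : DRing.toD P ≅ DRing.toD K) (M : ModuleCat.{u} R) (i : ℤ) :
    (DRing.tensorCx P M).ExactAt i ↔ Subsingleton (Dual.HD R ((DRing.LTensorCx R K).obj
      (DRing.toD ((CochainComplex.singleFunctor (ModuleCat.{u} R) 0).obj M))) i) := by
  haveI := hasLTensor M
  obtain ⟨P₀, p, hP₀, -, hp, -⟩ := exists_kflat_resolution K
  haveI := hp
  -- replace `P` by a resolution of `K`
  obtain ⟨v₁⟩ := lTensor_value M hP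
  obtain ⟨v₂⟩ := lTensor_value M hP₀
  let ePP : DRing.toD (DRing.tensorCx P M) ≅ DRing.toD (DRing.tensorCx P₀ M) :=
    v₁.symm ≪≫ (DRing.LTensor R M).mapIso (e ≪≫ (asIso (DerivedCategory.Q.map p)).symm) ≪≫ v₂
  let Qr := (projectiveResolution M).cochainComplex
  let q : Qr ⟶ (single (ModuleCat.{u} R) (ComplexShape.up ℤ) 0).obj M := (projectiveResolution M).π'
  haveI : QuasiIso q := inferInstanceAs (QuasiIso (projectiveResolution M).π')
  have hQr : IsKFlat Qr := isKFlat_cochainComplex (projectiveResolution M)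
  obtain ⟨v₃⟩ := lTensorCx_value K hQr
  haveI h₁ : QuasiIso (((tensorCx (R := R)).obj Qr).map p) := quasiIso_tensor_map_of_isKFlat p Qr hQr
  have h₂ : QuasiIso (q ▷ P₀) := quasiIso_map_of_isKFlat q P₀ hP₀
  have i₁ : IsIso (DerivedCategory.Q.map (((tensorCx (R := R)).obj Qr).map p)) :=
    (DerivedCategory.isIso_Q_map_iff_quasiIso (ModuleCat.{u} R) _).2 h₁
  have i₂ : IsIso (DerivedCategory.Q.map (q ▷ P₀)) :=
    (DerivedCategory.isIso_Q_map_iff_quasiIso (ModuleCat.{u} R) _).2 h₂
  let eT : (DRing.LTensorCx R K).obj (DRing.toD ((CochainComplex.singleFunctor (ModuleCat.{u} R) 0).obj M)) ≅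
      DRing.toD (DRing.tensorCx P M) :=
    (DRing.LTensorCx R K).mapIso (asIso (DerivedCategory.Q.map q)).symm ≪≫ v₃ ≪≫
      (@asIso _ _ _ _ _ i₁).symm ≪≫ @asIso _ _ _ _ _ i₂ ≪≫
      DerivedCategory.Q.mapIso (tensorCxSymm P₀ _ ≪≫ (singleIso P₀ M).symm) ≪≫ ePP.symm
  rw [DR.exactAt_iff]
  exact ⟨DR.subsingleton_HD_of_iso eT.symm i, DR.subsingleton_HD_of_iso eT i⟩

variable (P : DRing.Cx R) (a : ℤ)

/-- The part of a complex killed by truncation at `a`. -/
noncomputable def ltSub (i : ℤ) : Submodule R (P.X i) :=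
  if i < a then ⊤ else if i = a then LinearMap.range (P.d (i - 1) i).hom else ⊥

lemma d_mem_ltSub (i : ℤ) : ltSub P a i ≤ (ltSub P a (i + 1)).comap (P.d i (i + 1)).hom := by
  intro x hx
  rw [Submodule.mem_comap]
  by_cases h1 : i + 1 < a
  · rw [ltSub, if_pos h1]; trivial
  · rw [ltSub, if_neg h1]
    split_ifs with h2
    · have key : ∀ j, j = i → (P.d i (i + 1)).hom x ∈ LinearMap.range (P.d j (i + 1)).hom := by
        rintro j rfl; exact ⟨x, rfl⟩
      exact key (i + 1 - 1) (by omega)
    · rw [ltSub, if_neg (show ¬ i < a by omega)] at hx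
      split_ifs at hx with h3
      · obtain ⟨w, rfl⟩ := hx
        rw [show (P.d i (i + 1)).hom ((P.d (i - 1) i).hom w) = 0 from
          ConcreteCategory.congr_hom (P.d_comp_d _ _ _) w]
        exact zero_mem _
      · rw [(Submodule.mem_bot R).1 hx, map_zero]
        exact zero_mem _

/-- Truncating a K-flat complex with flat terms and vanishing tensor cohomology below `a`. -/
theorem exists_trunc (hP : IsKFlat P) (hPf : DRing.TermwiseFlat P)
    (h : ∀ (M : ModuleCat.{u} R) (i : ℤ), i < a → (DRing.tensorCx P M).ExactAt i) :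
    ∃ (E : DRing.Cx R) (π : P ⟶ E), QuasiIso π ∧ IsKFlat E ∧ DRing.TermwiseFlat E ∧
      ∀ i, i < a → IsZero (E.X i) := by
  have hT : ∀ (M : Type u) [AddCommGroup M] [Module R M] (i : ℤ), i < a → DR.TExact P M i := fun M _ _ i hi =>
    (DR.tExact_iff P M i).2 (h (ModuleCat.of R M) i hi)
  have hdd : ∀ i j k (x : P.X i), (P.d j k).hom ((P.d i j).hom x) = 0 := fun i j k x =>
    ConcreteCategory.congr_hom (P.d_comp_d i j k) x
  -- purity of the image in degree `a`
  have hpure : Module.Flat R (P.X a ⧸ LinearMap.range (P.d (a - 1) a).hom) ∧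
      ∀ (Q : Type u) [AddCommGroup Q] [Module R Q],
        Function.Injective ((LinearMap.range (P.d (a - 1) a).hom).subtype.lTensor Q) := by
    haveI := hPf a
    obtain ⟨-, hflat, hinj⟩ := Flatness.flat_coker_of_forall_mem (LinearMap.range (P.d (a - 1) a).hom).subtype
      fun J z hz => by
        obtain ⟨w, hw⟩ := z.2
        let u := (P.d (a - 1 - 1) (a - 1)).hom
        let v := (P.d (a - 1) (a - 1 + 1)).hom
        have hex : Function.Exact (u.rTensor (R ⧸ J)) (v.rTensor (R ⧸ J)) := hT (R ⧸ J) (a - 1) (by omega)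
        have hv0 : v.rTensor (R ⧸ J) (w ⊗ₜ[R] (1 : R ⧸ J)) = 0 := by
          have key : ∀ j, j = a → (P.d (a - 1) j).hom.rTensor (R ⧸ J) (w ⊗ₜ[R] (1 : R ⧸ J)) = 0 := by
            rintro j rfl
            rw [LinearMap.rTensor_tmul]
            apply (TensorProduct.tensorQuotEquivQuotSMul (P.X j) J).injective
            rw [map_zero, show ((1 : R ⧸ J)) = Ideal.Quotient.mk J 1 from rfl,
              TensorProduct.tensorQuotEquivQuotSMul_tmul_mk, one_smul]
            exact (Submodule.Quotient.mk_eq_zero _).2 (hw ▸ hz)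
          exact key _ (by omega)
        obtain ⟨t, ht⟩ := (hex _).1 hv0
        obtain ⟨s, rfl⟩ : ∃ s, s ⊗ₜ[R] (1 : R ⧸ J) = t := by
          refine TensorProduct.induction_on t ⟨0, TensorProduct.zero_tmul _ _⟩ (fun x r => ?_)
            (fun x y hx hy => ?_)
          · obtain ⟨r, rfl⟩ := Ideal.Quotient.mk_surjective r
            exact ⟨r • x, by rw [TensorProduct.smul_tmul, Algebra.smul_def, mul_one]; rfl⟩
          · obtain ⟨x', rfl⟩ := hx
            obtain ⟨y', rfl⟩ := hy
            exact ⟨x' + y', TensorProduct.add_tmul _ _ _⟩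
        rw [LinearMap.rTensor_tmul] at ht
        have hmem : w - u s ∈ J • (⊤ : Submodule R (P.X (a - 1))) := by
          have h0 : (w - u s) ⊗ₜ[R] (Ideal.Quotient.mk J (1 : R)) = 0 := by
            rw [map_one, TensorProduct.sub_tmul, ht, sub_self]
          have := congrArg (TensorProduct.tensorQuotEquivQuotSMul (P.X (a - 1)) J) h0
          rw [TensorProduct.tensorQuotEquivQuotSMul_tmul_mk, one_smul, map_zero] at this
          exact (Submodule.Quotient.mk_eq_zero _).1 this
        have h' := Submodule.mem_map_of_mem (f := (P.d (a - 1) a).hom.rangeRestrict) hmem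
        rw [Submodule.map_smul''] at h'
        rw [show z = (P.d (a - 1) a).hom.rangeRestrict (w - u s) from Subtype.ext (by
          show z.1 = (P.d (a - 1) a).hom (w - u s)
          rw [map_sub, hdd, sub_zero, hw])]
        exact Submodule.smul_mono le_rfl le_top h'
    rw [Submodule.range_subtype] at hflat
    exact ⟨hflat, hinj⟩
  let U := ltSub P a
  let E : DRing.Cx R := CochainComplex.of (fun i => ModuleCat.of R (P.X i ⧸ U i))
    (fun i => ModuleCat.ofHom ((U i).mapQ (U (i + 1)) (P.d i (i + 1)).hom (d_mem_ltSub P a i)))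
    (fun i => ModuleCat.hom_ext (Submodule.linearMap_qext _ (LinearMap.ext fun x => by
      show Submodule.Quotient.mk ((P.d (i + 1) (i + 1 + 1)).hom ((P.d i (i + 1)).hom x)) = 0
      rw [hdd, Submodule.Quotient.mk_zero])))
  let π : P ⟶ E :=
    { f := fun i => ModuleCat.ofHom (U i).mkQ
      comm' := fun i j hij => by
        obtain rfl : i + 1 = j := hij
        dsimp [E]
        rw [CochainComplex.of_d]
        ext x
        rfl }
  let V : DRing.Cx R := CochainComplex.of (fun i => ModuleCat.of R (U i))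
    (fun i => ModuleCat.ofHom ((P.d i (i + 1)).hom.restrict (d_mem_ltSub P a i)))
    (fun i => by ext x; exact hdd _ _ _ x.1)
  let ι : V ⟶ P :=
    { f := fun i => ModuleCat.ofHom (U i).subtype
      comm' := fun i j hij => by
        obtain rfl : i + 1 = j := hij
        dsimp [V]
        rw [CochainComplex.of_d]
        ext x
        rfl }
  let S : ShortComplex (DRing.Cx R) := ShortComplex.mk ι π (by
    ext i x
    exact (Submodule.Quotient.mk_eq_zero _).2 x.2)
  have hS : S.ShortExact := HomologicalComplex.shortExact_of_degreewise_shortExact _ fun i =>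
    ShortComplex.ShortExact.mk' ((ShortComplex.moduleCat_exact_iff _).2 fun x hx =>
      ⟨⟨x, (Submodule.Quotient.mk_eq_zero _).1 hx⟩, rfl⟩)
      ((ModuleCat.mono_iff_injective _).2 Subtype.val_injective)
      ((ModuleCat.epi_iff_surjective _).2 (U i).mkQ_surjective)
  have hE0 : ∀ i, i < a → Subsingleton (P.X i ⧸ U i) := fun i hi => by
    rw [show U i = ⊤ from if_pos hi]
    infer_instance
  have hEf : DRing.TermwiseFlat E := fun i => by
    show Module.Flat R (P.X i ⧸ U i)
    rcases lt_trichotomy i a with hi | rfl | hi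
    · haveI := hE0 i hi
      infer_instance
    · rw [show U i = LinearMap.range (P.d (i - 1) i).hom from (if_neg (lt_irrefl i)).trans (if_pos rfl)]
      exact hpure.1
    · rw [show U i = ⊥ from (if_neg (by omega)).trans (if_neg (by omega))]
      haveI := hPf i
      exact Module.Flat.of_linearEquiv (Submodule.quotEquivOfEqBot _ rfl)
  have hVM : ∀ (M : ModuleCat.{u} R) (i : ℤ), (DRing.tensorCx V M).ExactAt i := fun M i => by
    rw [← DR.tExact_iff V M i]
    intro z
    have hVd : ∀ j (x : V.X j), ((V.d j (j + 1)).hom x).1 = (P.d j (j + 1)).hom x.1 := fun j x =>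
      (ConcreteCategory.congr_hom (ι.comm j (j + 1)) x).symm
    refine ⟨fun hz => ?_, fun ⟨w, hw⟩ => ?_⟩
    · rcases lt_trichotomy i a with hi | rfl | hi
      · have hUi : U i = ⊤ := if_pos hi
        have hUj : U (i - 1) = ⊤ := if_pos (by omega)
        let ei : V.X i ≃ₗ[R] P.X i :=
          (LinearEquiv.ofEq _ _ hUi).trans Submodule.topEquiv
        let ej : V.X (i - 1) ≃ₗ[R] P.X (i - 1) :=
          (LinearEquiv.ofEq _ _ hUj).trans Submodule.topEquiv
        have hei : ei.toLinearMap = (ι.f i).hom := rfl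
        have hej : ej.toLinearMap = (ι.f (i - 1)).hom := rfl
        have hz' : (P.d i (i + 1)).hom.rTensor M ((ι.f i).hom.rTensor M z) = 0 := by
          rw [← LinearMap.rTensor_comp_apply, show (P.d i (i + 1)).hom.comp (ι.f i).hom =
            (ι.f (i + 1)).hom.comp (V.d i (i + 1)).hom from congrArg ModuleCat.Hom.hom (ι.comm i (i + 1)),
            LinearMap.rTensor_comp_apply, hz, map_zero]
        obtain ⟨w, hw⟩ := (hT M i hi _).1 hz'
        refine ⟨(ej.rTensor M).symm w, (ei.rTensor M).injective ?_⟩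
        have hcomm : (ι.f i).hom.comp (V.d (i - 1) i).hom = (P.d (i - 1) i).hom.comp (ι.f (i - 1)).hom :=
          congrArg ModuleCat.Hom.hom (ι.comm (i - 1) i).symm
        show ei.toLinearMap.rTensor M ((V.d (i - 1) i).hom.rTensor M _) = ei.toLinearMap.rTensor M z
        rw [hei, ← LinearMap.rTensor_comp_apply, hcomm, LinearMap.rTensor_comp_apply, ← hw]
        refine congrArg _ ?_
        show (ej.rTensor M) ((ej.rTensor M).symm w) = w
        exact LinearEquiv.apply_symm_apply _ _
      · refine LinearMap.rTensor_surjective M (fun x => ?_) z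
        have hx : x.1 ∈ LinearMap.range (P.d (i - 1) i).hom := by
          exact (SetLike.ext_iff.1 (show U i = LinearMap.range (P.d (i - 1) i).hom from (if_neg (lt_irrefl i)).trans (if_pos rfl)) x.1).1 x.2
        obtain ⟨w, hw⟩ := hx
        let w' : V.X (i - 1) := ⟨w, by show w ∈ U (i - 1); rw [show U (i - 1) = ⊤ from if_pos (by omega)]; trivial⟩
        exact ⟨w', Subtype.ext ((ConcreteCategory.congr_hom (ι.comm (i - 1) i) w').symm.trans hw)⟩
      · haveI : Subsingleton (V.X i) := by
          show Subsingleton (U i)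
          rw [show U i = ⊥ from (if_neg (by omega)).trans (if_neg (by omega))]
          infer_instance
        exact ⟨0, Subsingleton.elim _ _⟩
    · rw [← hw, ← LinearMap.rTensor_comp_apply,
        show (V.d i (i + 1)).hom.comp (V.d (i - 1) i).hom = 0 from congrArg ModuleCat.Hom.hom (V.d_comp_d _ _ _)]
      simp
  have hV : IsKFlat V := isKFlat_of_fp V fun M _ _ _ i => (hVM (ModuleCat.of R M) i).isZero_homology
  have hVa : ∀ i, V.ExactAt i := fun i => (hVM (ModuleCat.of R R) i).of_iso (tensorCxUnitIso V)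
  haveI hq : QuasiIso π := ⟨fun i => by
    rw [quasiIsoAt_iff_isIso_homologyMap]
    haveI : Mono (homologyMap π i) := (hS.homology_exact₂ i).mono_g
      (((exactAt_iff_isZero_homology _ i).1 (hVa i)).eq_of_src _ _)
    haveI : Epi (homologyMap π i) := (hS.homology_exact₃ i (i + 1) rfl).epi_f
      (((exactAt_iff_isZero_homology _ (i + 1)).1 (hVa (i + 1))).eq_of_tgt _ _)
    exact isIso_of_mono_of_epi _⟩
  exact ⟨E, π, hq, isKFlat_X₃ (S := S) (tensorCx_shortExact_of_flat hS hEf) hV hP, hEf,
    fun i hi => @ModuleCat.isZero_of_subsingleton _ _ (E.X i) (hE0 i hi)⟩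

end GrothLib.KF
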