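import Groth.Agent.Lib.DCxRing.TwoTerm
import Mathlib.Algebra.Homology.DerivedCategory.Linear

/-!
# Morphisms of objects with cohomology in degrees `-1` and `0`
-/

set_option autoImplicit false
set_option maxHeartbeats 800000
universe u

open CategoryTheory CategoryTheory.Limits HomologicalComplex CochainComplex Pretriangulated

attribute [local instance] HasDerivedCategory.standard

namespace GrothLib.DR

variable {A : Type u} [CommRing A]

/-- Morphisms out of a two-term complex with projective top term come from maps of complexes. -/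
theorem exists_lift_twoTerm {E C : DRing.Cx A} (hE : DRing.VanishesOutside E (-1) 0)
    (hE0 : Module.Projective A (E.X 0)) (hC : ∀ i, i ≤ -2 → IsZero (C.X i))
    (g : DRing.toD E ⟶ DRing.toD C) : ∃ f : E ⟶ C, DerivedCategory.Q.map f = g := by
  let eA := DerivedCategory.quotientCompQhIso (ModuleCat.{u} A)
  obtain ⟨φ, hφ⟩ := (Qh_map_bijective E C (fun i hi => hE i (Or.inr hi)) hE0 hC).2
    ((eA.app E).hom ≫ g ≫ (eA.app C).inv)
  obtain ⟨f, rfl⟩ := (HomotopyCategory.quotient _ _).map_surjective φ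
  refine ⟨f, ?_⟩
  have h := eA.hom.naturality f
  simp only [Functor.comp_map] at h hφ
  rw [← cancel_epi (eA.hom.app E), ← h, hφ]
  simp

/-- Such maps agree in the derived category exactly when they are homotopic. -/
theorem map_eq_iff_twoTerm {E C : DRing.Cx A} (hE : DRing.VanishesOutside E (-1) 0)
    (hE0 : Module.Projective A (E.X 0)) (hC : ∀ i, i ≤ -2 → IsZero (C.X i)) (f g : E ⟶ C) :
    DerivedCategory.Q.map f = DerivedCategory.Q.map g ↔ Nonempty (Homotopy f g) := by
  refine ⟨fun h => ?_, fun ⟨h⟩ => DerivedCategory.Q_map_eq_of_homotopy _ h⟩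
  let eA := DerivedCategory.quotientCompQhIso (ModuleCat.{u} A)
  have key : ∀ u : E ⟶ C, DerivedCategory.Qh.map ((HomotopyCategory.quotient _ _).map u) =
      eA.hom.app E ≫ DerivedCategory.Q.map u ≫ eA.inv.app C := fun u => by
    have h := eA.hom.naturality u
    simp only [Functor.comp_map] at h
    rw [← Category.assoc, ← h, Category.assoc, Iso.hom_inv_id_app]
    exact (Category.comp_id _).symm
  refine ⟨HomotopyCategory.homotopyOfEq _ _ ((Qh_map_bijective E C (fun i hi => hE i (Or.inr hi)) hE0 hC).1 ?_)⟩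
  simp only [key, h]

/-- A module in degree `-1`. -/
noncomputable def shiftOneIso (N : ModuleCat.{u} A) :
    DRing.toD ((HomologicalComplex.single (ModuleCat.{u} A) (ComplexShape.up ℤ) (-1)).obj N) ≅
      ((DerivedCategory.singleFunctor (ModuleCat.{u} A) 0).obj N)⟦(1 : ℤ)⟧ :=
  toDSingleIso (-1) N

/-- A map on the degree `-1` term gives a map to a module in degree `-1`. -/
noncomputable def toSingleNegOne {E : DRing.Cx A} (hE : DRing.VanishesOutside E (-1) 0) {N : ModuleCat.{u} A}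
    (g : E.X (-1) ⟶ N) : E ⟶ (HomologicalComplex.single (ModuleCat.{u} A) (ComplexShape.up ℤ) (-1)).obj N :=
  mkHomToSingle g fun i hi => (hE i (Or.inl (by simp only [ComplexShape.up_Rel] at hi; omega))).eq_of_src _ _

/-- The criterion for annihilating `Ext¹` out of a two-term complex. -/
theorem annihilates_ext_one_iff {E : DRing.Cx A} (hE : DRing.VanishesOutside E (-1) 0)
    (hE0 : Module.Projective A (E.X 0)) (a : A) :
    (∀ (N : Type u) [AddCommGroup N] [Module A N] (ξ : DRing.toD E ⟶ (Dual.inD A N)⟦(1 : ℤ)⟧), a • ξ = 0) ↔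
      ∃ h : E.X 0 ⟶ E.X (-1), E.d (-1) 0 ≫ h = a • 𝟙 (E.X (-1)) := by
  have hC : ∀ (N : ModuleCat.{u} A), ∀ i, i ≤ -2 →
      IsZero (((HomologicalComplex.single (ModuleCat.{u} A) (ComplexShape.up ℤ) (-1)).obj N).X i) := fun N i hi =>
    isZero_single_obj_X _ _ _ _ (by omega)
  constructor
  · intro h
    let N := E.X (-1)
    let g := toSingleNegOne hE (𝟙 N)
    have h0 : a • (DerivedCategory.Q.map g ≫ (shiftOneIso (ModuleCat.of A N)).hom) = 0 := h N _
    rw [← Linear.smul_comp] at h0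
    have h1 : DerivedCategory.Q.map (a • g) = DerivedCategory.Q.map 0 := by
      rw [Functor.map_zero, Functor.map_smul, ← cancel_mono (shiftOneIso (ModuleCat.of A N)).hom]
      exact h0.trans zero_comp.symm
    obtain ⟨H⟩ := (map_eq_iff_twoTerm hE hE0 (hC N) (a • g) 0).1 h1
    refine ⟨H.hom 0 (-1) ≫ (singleObjXSelf (ComplexShape.up ℤ) (-1) N).hom, ?_⟩
    have hc := H.comm (-1)
    rw [dNext_eq H.hom (show (ComplexShape.up ℤ).Rel (-1 : ℤ) 0 by simp),
      prevD_eq H.hom (show (ComplexShape.up ℤ).Rel (-2 : ℤ) (-1) by simp), HomologicalComplex.zero_f_apply,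
      add_zero, (hC N (-2) le_rfl).eq_of_tgt (H.hom (-1) (-2)) 0, zero_comp, add_zero] at hc
    rw [← Category.assoc, ← hc]
    simp [g, toSingleNegOne, N, mkHomToSingle_f]
  · rintro ⟨h, hh⟩ N _ _ ξ
    obtain ⟨f, hf⟩ := exists_lift_twoTerm hE hE0 (hC (ModuleCat.of A N))
      (ξ ≫ (shiftOneIso (ModuleCat.of A N)).inv)
    have hfa : DerivedCategory.Q.map (a • f) = 0 := by
      rw [← Functor.map_zero DerivedCategory.Q, map_eq_iff_twoTerm hE hE0 (hC (ModuleCat.of A N))]
      let S := (HomologicalComplex.single (ModuleCat.{u} A) (ComplexShape.up ℤ) (-1)).obj (ModuleCat.of A N)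
      let hom : ∀ p q : ℤ, E.X p ⟶ S.X q := fun p q =>
        if hpq : p = 0 ∧ q = -1 then eqToHom (by rw [hpq.1]) ≫ h ≫ f.f (-1) ≫ eqToHom (by rw [hpq.2]) else 0
      refine ⟨{ hom := hom, zero := fun p q hpq => ?_, comm := fun i => ?_ }⟩
      · simp only [ComplexShape.up_Rel] at hpq
        simp only [hom]
        rw [dif_neg (fun hh => hpq (by omega))]
      · rw [dNext_eq hom (show (ComplexShape.up ℤ).Rel i (i + 1) from rfl),
          prevD_eq hom (show (ComplexShape.up ℤ).Rel (i - 1) i by simp), HomologicalComplex.zero_f_apply, add_zero]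
        by_cases hi : i = -1
        · subst hi
          rw [(hC (ModuleCat.of A N) _ (by omega : (-1 : ℤ) - 1 ≤ -2)).eq_of_tgt (hom (-1) (-1 - 1)) 0, zero_comp,
            add_zero, show (-1 : ℤ) + 1 = 0 by omega]
          have e : hom 0 (-1) = h ≫ f.f (-1) := by simp [hom]
          rw [e, ← Category.assoc, hh]
          simp
        · exact (isZero_single_obj_X (ComplexShape.up ℤ) (-1) (ModuleCat.of A N) i hi).eq_of_tgt _ _
    rw [Functor.map_smul, hf, ← Linear.smul_comp] at hfa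
    exact (cancel_mono (shiftOneIso (ModuleCat.of A N)).inv).1 (hfa.trans zero_comp.symm)

/-- Transport of annihilation of `Ext¹` along isomorphisms. -/
theorem annihilates_of_iso {K L : Dual.D A} (e : K ≅ L) (a : A)
    (h : ∀ (N : Type u) [AddCommGroup N] [Module A N] (ξ : K ⟶ (Dual.inD A N)⟦(1 : ℤ)⟧), a • ξ = 0)
    (N : Type u) [AddCommGroup N] [Module A N] (ξ : L ⟶ (Dual.inD A N)⟦(1 : ℤ)⟧) : a • ξ = 0 := by
  have := h N (e.hom ≫ ξ)
  rw [← Linear.comp_smul] at this
  exact (cancel_epi e.hom).1 (this.trans comp_zero.symm)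

theorem annihilates_ext_one_iff_forall (I : Ideal A) (K : Dual.D A)
    (hK : ∀ i : ℤ, i ≠ -1 → i ≠ 0 → Subsingleton (Dual.HD A K i)) :
    (∀ (N : Type u) [AddCommGroup N] [Module A N] (a : A), a ∈ I →
        ∀ ξ : K ⟶ (Dual.inD A N)⟦(1 : ℤ)⟧, a • ξ = 0) ↔
      ∀ (E : DRing.Cx A), DRing.VanishesOutside E (-1) 0 → Module.Projective A (E.X 0) →
        Nonempty (DRing.toD E ≅ K) → ∀ a : A, a ∈ I →
          ∃ h : E.X 0 ⟶ E.X (-1), E.d (-1) 0 ≫ h = a • 𝟙 (E.X (-1)) := by
  constructor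
  · rintro h E hE hE0 ⟨e⟩ a ha
    exact (annihilates_ext_one_iff hE hE0 a).1 (annihilates_of_iso e.symm a fun N _ _ => h N a ha)
  · intro h N _ _ a ha ξ
    obtain ⟨E, hE, hE0, ⟨e⟩⟩ := exists_twoTerm_free K hK
    haveI := hE0
    exact annihilates_of_iso e a
      ((annihilates_ext_one_iff hE inferInstance a).2 (h E hE inferInstance ⟨e⟩ a ha)) N ξ

/-- Cohomology in degree `0` when the outgoing differential vanishes. -/
noncomputable def topIso₀ (C : DRing.Cx A) (hd : C.d 0 (0 + 1) = 0) :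
    C.homology 0 ≅ ModuleCat.of A (C.X 0 ⧸ LinearMap.range (C.d (-1) 0).hom) :=
  haveI := C.isIso_homologyι 0 (0 + 1) (by simp) hd
  asIso (C.homologyι 0) ≪≫
    ShortComplex.opcyclesMapIso (C.isoSc' (-1) 0 1 (by simp) (by simp)) ≪≫
      (C.sc' (-1) 0 1).moduleCatOpcyclesIso

/-- `Ext¹` vanishes exactly for projective modules in degree `0`. -/
theorem ext_one_vanishing_iff (K : Dual.D A) (hK : ∀ i : ℤ, i ≠ -1 → i ≠ 0 → Subsingleton (Dual.HD A K i)) :
    (Subsingleton (Dual.HD A K (-1)) ∧ Module.Projective A (Dual.HD A K 0)) ↔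
      ∀ (M : Type u) [AddCommGroup M] [Module A M], Subsingleton (K ⟶ (Dual.inD A M)⟦(1 : ℤ)⟧) := by
  constructor
  · rintro ⟨h1, h0⟩ M _ _
    haveI : K.IsLE 0 := by
      rw [DerivedCategory.isLE_iff]
      exact fun i hi => (subsingleton_iff_isZero _).1 (hK i (by omega) (by omega))
    haveI : K.IsGE 0 := by
      rw [DerivedCategory.isGE_iff]
      intro i hi
      by_cases h : i = -1
      · subst h; exact (subsingleton_iff_isZero _).1 h1
      · exact (subsingleton_iff_isZero _).1 (hK i h (by omega))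
    obtain ⟨H, ⟨e⟩⟩ := DerivedCategory.exists_iso_singleFunctor_obj_of_isGE_of_isLE K 0
    have hH : Module.Projective A H := Module.Projective.of_equiv
      (((DerivedCategory.homologyFunctor (ModuleCat.{u} A) 0).mapIso e) ≪≫ inDHomologyIso H).toLinearEquiv
    let E := (HomologicalComplex.single (ModuleCat.{u} A) (ComplexShape.up ℤ) 0).obj H
    have hE : DRing.VanishesOutside E (-1) 0 := fun i hi => isZero_single_obj_X _ _ _ _ (by omega)
    have hE0 : Module.Projective A (E.X 0) :=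
      Module.Projective.of_equiv (singleObjXSelf (ComplexShape.up ℤ) 0 H).toLinearEquiv.symm
    let eK : DRing.toD E ≅ K := (((SingleFunctors.evaluation _ _ 0).mapIso
      (DerivedCategory.singleFunctorsPostcompQIso (ModuleCat.{u} A))).app H).symm ≪≫ e.symm
    refine ⟨fun ξ η => ?_⟩
    have hz : ∀ θ : K ⟶ (Dual.inD A M)⟦(1 : ℤ)⟧, θ = 0 := fun θ => by
      obtain ⟨f, hf⟩ := exists_lift_twoTerm hE hE0
        (fun i hi => isZero_single_obj_X (ComplexShape.up ℤ) (-1) (ModuleCat.of A M) i (by omega))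
        (eK.hom ≫ θ ≫ (shiftOneIso (ModuleCat.of A M)).inv)
      have hf0 : f = 0 := HomologicalComplex.to_single_hom_ext
        ((isZero_single_obj_X (ComplexShape.up ℤ) 0 H (-1) (by omega)).eq_of_src _ _)
      rw [hf0, Functor.map_zero] at hf
      have h1 : θ ≫ (shiftOneIso (ModuleCat.of A M)).inv = 0 :=
        (cancel_epi eK.hom).1 (hf.symm.trans comp_zero.symm)
      exact (cancel_mono (shiftOneIso (ModuleCat.of A M)).inv).1 (h1.trans zero_comp.symm)
    rw [hz ξ, hz η]
  · intro h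
    obtain ⟨E, hE, hE0, ⟨e⟩⟩ := exists_twoTerm_free K hK
    haveI := hE0
    obtain ⟨r, hr⟩ := (annihilates_ext_one_iff hE inferInstance (1 : A)).1
      (annihilates_of_iso e.symm 1 fun N _ _ ξ => (h N).elim _ _)
    rw [one_smul] at hr
    have hrx : ∀ x, r.hom ((E.d (-1) 0).hom x) = x := fun x =>
      LinearMap.congr_fun (congrArg ModuleCat.Hom.hom hr) x
    constructor
    · refine subsingleton_HD_of_iso e (-1) ((exactAt_iff E (-1)).1 ?_)
      refine (element_exact E (-2) (-1) 0 (by omega) (by omega)).2 fun x hx => ⟨0, ?_⟩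
      rw [map_zero, ← hrx x, hx, map_zero]
    · have hd : E.d 0 (0 + 1) = 0 := (hE _ (Or.inr (by omega))).eq_of_tgt _ _
      let H := topIso₀ E hd
      haveI : Module.Projective A (E.X 0 ⧸ LinearMap.range (E.d (-1) 0).hom) := by
        let p : E.X 0 →ₗ[A] E.X 0 := LinearMap.id - (E.d (-1) 0).hom.comp r.hom
        let s := (LinearMap.range (E.d (-1) 0).hom).liftQ p (by
          rintro _ ⟨y, rfl⟩
          show (E.d (-1) 0).hom y - (E.d (-1) 0).hom (r.hom ((E.d (-1) 0).hom y)) = 0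
          rw [hrx, sub_self])
        refine Module.Projective.of_split s (LinearMap.range (E.d (-1) 0).hom).mkQ ?_
        refine Submodule.linearMap_qext _ (LinearMap.ext fun x => ?_)
        show Submodule.Quotient.mk (x - (E.d (-1) 0).hom (r.hom x)) = Submodule.Quotient.mk x
        exact (Submodule.Quotient.eq _).2 (by simp)
      exact Module.Projective.of_equiv (H.symm ≪≫ (homologyIso E 0).symm ≪≫
        (DerivedCategory.homologyFunctor (ModuleCat.{u} A) 0).mapIso e).toLinearEquiv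

/-- Precomposition with a map which is bijective on `H⁰` and surjective on `H⁻¹` is injective into objects in
degrees `≥ -1`. -/
theorem eq_zero_of_comp_eq_zero {K K' X : Dual.D A} (α : K ⟶ K')
    (hK : ∀ i : ℤ, i ≠ -1 → i ≠ 0 → Subsingleton (Dual.HD A K i))
    (hK' : ∀ i : ℤ, i ≠ -1 → i ≠ 0 → Subsingleton (Dual.HD A K' i))
    (h0 : IsIso ((DerivedCategory.homologyFunctor (ModuleCat.{u} A) 0).map α))
    (h1 : Epi ((DerivedCategory.homologyFunctor (ModuleCat.{u} A) (-1)).map α))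
    (hX : ∀ i : ℤ, i < -1 → Subsingleton (Dual.HD A X i))
    (g : K' ⟶ X) (hg : α ≫ g = 0) : g = 0 := by
  obtain ⟨C, β, γ, hT⟩ := distinguished_cocone_triangle α
  obtain ⟨g', hg'⟩ : ∃ g' : C ⟶ X, g = β ≫ g' := Triangle.yoneda_exact₂ _ hT g hg
  subst hg'
  have hC : ∀ i, -1 ≤ i → IsZero ((DerivedCategory.homologyFunctor (ModuleCat.{u} A) i).obj C) :=
    (GrothLib.DerBC.cone_vanish_iff _ hT (-1)).2 ⟨fun i hi => by
      rcases eq_or_ne i 0 with rfl | hi0
      · exact h0
      · haveI := hK i (by omega) hi0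
        haveI := hK' i (by omega) hi0
        refine ⟨0, ?_, ?_⟩ <;>
        · first
          | exact ((subsingleton_iff_isZero _).1 (hK i (by omega) hi0)).eq_of_src _ _
          | exact ((subsingleton_iff_isZero _).1 (hK' i (by omega) hi0)).eq_of_src _ _, h1⟩
  haveI : C.IsLE (-2) := by
    rw [DerivedCategory.isLE_iff]
    exact fun i hi => hC i (by omega)
  haveI : X.IsGE (-1) := by
    rw [DerivedCategory.isGE_iff]
    exact fun i hi => (subsingleton_iff_isZero _).1 (hX i hi)
  rw [DerivedCategory.TStructure.t.zero g' (-2) (-1) (by omega), comp_zero]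

lemma subsingleton_HD_shift_inD (N : Type u) [AddCommGroup N] [Module A N] (i : ℤ) (hi : i < -1) :
    Subsingleton (Dual.HD A ((Dual.inD A N)⟦(1 : ℤ)⟧) i) :=
  ((((DerivedCategory.homologyFunctor (ModuleCat.{u} A) 0).shiftIso 1 i (1 + i) rfl).app
    (Dual.inD A N)).toLinearEquiv).toEquiv.subsingleton_congr.2 (subsingleton_HD_inD N (1 + i) (by omega))

/-- The composite of a map zero on `H⁰` with a map zero on `H⁻¹` is zero. -/
theorem comp_eq_zero {K₁ K₂ K₃ : Dual.D A} (φ : K₁ ⟶ K₂) (ψ : K₂ ⟶ K₃)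
    (h₁ : ∀ i : ℤ, i ≠ -1 → i ≠ 0 → Subsingleton (Dual.HD A K₁ i))
    (h₂ : ∀ i : ℤ, i ≠ -1 → i ≠ 0 → Subsingleton (Dual.HD A K₂ i))
    (h₃ : ∀ i : ℤ, i ≠ -1 → i ≠ 0 → Subsingleton (Dual.HD A K₃ i))
    (hφ : (DerivedCategory.homologyFunctor (ModuleCat.{u} A) 0).map φ = 0)
    (hψ : (DerivedCategory.homologyFunctor (ModuleCat.{u} A) (-1)).map ψ = 0) : φ ≫ ψ = 0 := by
  obtain ⟨E₁, hE₁, hF₁, ⟨e₁⟩⟩ := exists_twoTerm_free K₁ h₁
  obtain ⟨E₂, hE₂, hF₂, ⟨e₂⟩⟩ := exists_twoTerm_free K₂ h₂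
  obtain ⟨E₃, hE₃, ⟨e₃⟩⟩ := exists_twoTerm_strict K₃ h₃
  haveI := hF₁
  haveI := hF₂
  obtain ⟨f, hf⟩ := exists_lift_twoTerm hE₁ inferInstance (C := E₂) (fun i hi => hE₂ i (Or.inl (by omega)))
    (e₁.hom ≫ φ ≫ e₂.inv)
  obtain ⟨g, hg⟩ := exists_lift_twoTerm hE₂ inferInstance (C := E₃) (fun i hi => hE₃ i (Or.inl (by omega)))
    (e₂.hom ≫ ψ ≫ e₃.inv)
  have hfH : homologyMap f 0 = 0 := by
    have h := DerivedCategory.homologyFunctorFactors_hom_naturality f 0
    rw [hf, Functor.map_comp, Functor.map_comp, hφ, zero_comp, comp_zero, zero_comp] at h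
    exact (cancel_epi ((DerivedCategory.homologyFunctorFactors (ModuleCat.{u} A) 0).app E₁).hom).1
      (h.symm.trans comp_zero.symm)
  have hgH : homologyMap g (-1) = 0 := by
    have h := DerivedCategory.homologyFunctorFactors_hom_naturality g (-1)
    rw [hg, Functor.map_comp, Functor.map_comp, hψ, zero_comp, comp_zero, zero_comp] at h
    exact (cancel_epi ((DerivedCategory.homologyFunctorFactors (ModuleCat.{u} A) (-1)).app E₂).hom).1
      (h.symm.trans comp_zero.symm)
  -- `f⁰` lands in the image of the differential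
  haveI : IsIso (E₂.homologyι 0) :=
    E₂.isIso_homologyι 0 1 (by simp) ((hE₂ 1 (Or.inr one_pos)).eq_of_tgt _ _)
  haveI : IsIso (E₁.homologyι 0) :=
    E₁.isIso_homologyι 0 1 (by simp) ((hE₁ 1 (Or.inr one_pos)).eq_of_tgt _ _)
  have hf0 : f.f 0 ≫ E₂.pOpcycles 0 = 0 := by
    rw [← p_opcyclesMap]
    have h := homologyι_naturality f 0
    rw [hfH, zero_comp] at h
    rw [(cancel_epi (E₁.homologyι 0)).1 (h.symm.trans comp_zero.symm), comp_zero]
  have hcok : (ShortComplex.mk (E₂.d (-1) 0) (E₂.pOpcycles 0) (E₂.d_pOpcycles (-1) 0)).Exact :=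
    ShortComplex.exact_of_g_is_cokernel _ (E₂.opcyclesIsCokernel (-1) 0 (by simp))
  haveI : Projective (E₁.X 0) := (projective_iff _).1 inferInstance
  let s : E₁.X 0 ⟶ E₂.X (-1) := hcok.liftFromProjective (f.f 0) hf0
  have hs : s ≫ E₂.d (-1) 0 = f.f 0 := hcok.liftFromProjective_comp _ _
  -- `g⁻¹` kills cycles
  haveI : IsIso (E₂.homologyπ (-1)) :=
    E₂.isIso_homologyπ (-2) (-1) (by simp) ((hE₂ (-2) (Or.inl (by omega))).eq_of_src _ _)
  haveI : IsIso (E₃.homologyπ (-1)) :=
    E₃.isIso_homologyπ (-2) (-1) (by simp) ((hE₃ (-2) (Or.inl (by omega))).eq_of_src _ _)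
  have hgc : E₂.iCycles (-1) ≫ g.f (-1) = 0 := by
    rw [← cyclesMap_i]
    have h := homologyπ_naturality g (-1)
    rw [hgH, comp_zero] at h
    rw [(cancel_mono (E₃.homologyπ (-1))).1 (h.symm.trans zero_comp.symm), zero_comp]
  -- the composite is homotopic to zero
  let k : E₁.X (-1) ⟶ E₂.X (-1) := f.f (-1) - E₁.d (-1) 0 ≫ s
  have hk : k ≫ E₂.d (-1) 0 = 0 := by simp [k, hs]
  have hkg : k ≫ g.f (-1) = 0 := by
    rw [← E₂.liftCycles_i k 0 (by simp) hk, Category.assoc, hgc, comp_zero]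
  let hom : ∀ p q : ℤ, E₁.X p ⟶ E₃.X q := fun p q =>
    if hpq : p = 0 ∧ q = -1 then eqToHom (by rw [hpq.1]) ≫ s ≫ g.f (-1) ≫ eqToHom (by rw [hpq.2]) else 0
  have hH : Homotopy (f ≫ g) 0 :=
    { hom := hom
      zero := fun p q hpq => by
        simp only [ComplexShape.up_Rel] at hpq
        simp only [hom]
        rw [dif_neg (fun hh => hpq (by omega))]
      comm := fun i => by
        rw [dNext_eq hom (show (ComplexShape.up ℤ).Rel i (i + 1) from rfl),
          prevD_eq hom (show (ComplexShape.up ℤ).Rel (i - 1) i by simp), HomologicalComplex.zero_f_apply, add_zero]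
        by_cases hi : i = -1 ∨ i = 0
        · have e : hom 0 (-1) = s ≫ g.f (-1) := by simp [hom]
          rcases hi with rfl | rfl
          · rw [(hE₃ _ (Or.inl (by omega : (-1 : ℤ) - 1 < -1))).eq_of_tgt (hom (-1) (-1 - 1)) 0, zero_comp,
              add_zero, show (-1 : ℤ) + 1 = 0 by omega, e, comp_f]
            rw [← sub_eq_zero, ← hkg]
            simp [k]
          · rw [(hE₁ _ (Or.inr (by omega : (0 : ℤ) < 0 + 1))).eq_of_tgt (E₁.d 0 (0 + 1)) 0, zero_comp, zero_add,
              show (0 : ℤ) - 1 = -1 by omega, e, comp_f, Category.assoc, g.comm, ← Category.assoc, hs]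
        · exact (hE₁ i (by omega)).eq_of_src _ _ }
  have h0 := DerivedCategory.Q_map_eq_of_homotopy _ hH
  rw [Functor.map_comp, Functor.map_zero, hf, hg] at h0
  simpa using congrArg (fun t => e₁.inv ≫ t ≫ e₃.hom) h0

end GrothLib.DR
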